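import Groth.Agent.AlgSp.K645.SPerf
import Groth.Agent.AlgSp.K294.PcQC
import Groth.Agent.PerfC.RingPerf
import Groth.Agent.PerfB.DescPerf

/-!
# Perfect objects over affine objects of the small etale site
-/

set_option autoImplicit false

universe u

open CategoryTheory CategoryTheory.Limits AlgebraicGeometry Opposite

attribute [local instance] HasDerivedCategory.standard

namespace K645.Int

open K645.TE K645.BC K645.SPerf K645.Shriek Groth.Agent.PerfA.ExactD

variable {S : Scheme.{u}} {X : AlgSp.Sp S}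

section functors

variable {E' E : AlgSp.EtOver X} (g : E' ⟶ E)

/-- Restriction between the slices on derived categories. -/
noncomputable abbrev gD : DCoh.DMod (AlgSp.OEtOn E) ⥤ DCoh.DMod (AlgSp.OEtOn E') :=
  (gE g).mapDerivedCategory

/-- Restriction to `E` and then to `E'` is restriction to `E'`. -/
noncomputable def rgD : AlgSp.resDEt E ⋙ gD g ≅ AlgSp.resDEt E' :=
  mapDComp (F := AlgSp.resModEt E) (G := gE g) (H := AlgSp.resModEt E') (rstGst (AlgSp.OEtRing X) g)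

theorem phi_flat (hE' : IsAffine E'.obj.left.left) (hE : IsAffine E.obj.left.left) :
    (phi g).Flat := by
  have h1 : (((AlgSp.EtOver.toScheme X).map g).appTop.hom).Flat :=
    K644.Exact.FlatMaps.appTop (T := AlgSp.EtOver.toScheme X) g hE' hE
  refine RingHom.Flat.comp (RingHom.Flat.comp ?_ h1) ?_
  · exact RingHom.Flat.of_bijective (ULift.ringEquiv.bijective)
  · exact RingHom.Flat.of_bijective (ULift.ringEquiv.symm.bijective)

instance preservesFiniteLimits_ext [hE : IsAffine E.obj.left.left] [hE' : IsAffine E'.obj.left.left] :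
    PreservesFiniteLimits (ModuleCat.extendScalars.{u + 1, u + 1, u + 1} (phi g)) :=
  ModuleCat.preservesFiniteLimits_extendScalars_of_flat (phi_flat g hE' hE)

variable [hE : IsAffine E.obj.left.left] [hE' : IsAffine E'.obj.left.left]

/-- Base change. -/
noncomputable abbrev eD : Dual.D (B E) ⥤ Dual.D (B E') :=
  (ModuleCat.extendScalars.{u + 1, u + 1, u + 1} (phi g)).mapDerivedCategory

/-- `TD` is compatible with base change. -/
noncomputable def egD : eD g ⋙ TD E' ≅ TD E ⋙ gD g :=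
  mapDComp (asIso (bcHom g)) ≪≫ (mapDComp (Iso.refl (tE E ⋙ gE g))).symm

end functors

section surj

theorem exists_comap {E : AlgSp.EtOver X} (hE : IsAffine E.obj.left.left) {ι : Type*} {V : ι → AlgSp.EtOver X}
    (f : ∀ i, V i ⟶ E) (hf : ∀ x : ↥(K646.EtSite.sch E), ∃ i, x ∈ Set.range (K646.EtSite.mor (f i)))
    (p : PrimeSpectrum (B E)) : ∃ j, ∃ q : PrimeSpectrum (B (V j)), PrimeSpectrum.comap (phi (f j)) q = p := by
  let e : B E ≃+* Γ(E.obj.left.left, ⊤) := ULift.ringEquiv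
  let p' : PrimeSpectrum Γ(E.obj.left.left, ⊤) := PrimeSpectrum.comap e.symm.toRingHom p
  have hb : Function.Surjective (Scheme.toSpecΓ E.obj.left.left) :=
    (ConcreteCategory.bijective_of_isIso (Scheme.forgetToTop.map (Scheme.toSpecΓ E.obj.left.left))).2
  obtain ⟨x, hx⟩ := hb p'
  obtain ⟨i, y, hy⟩ := hf x
  let e' : B (V i) ≃+* Γ((V i).obj.left.left, ⊤) := ULift.ringEquiv
  refine ⟨i, PrimeSpectrum.comap e'.toRingHom (Scheme.toSpecΓ (V i).obj.left.left y), ?_⟩
  have h1 : E.obj.left.left.toSpecΓ (K646.EtSite.mor (f i) y) =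
      Spec.map ((K646.EtSite.mor (f i)).appTop) ((V i).obj.left.left.toSpecΓ y) := by
    rw [← Scheme.Hom.comp_apply, ← Scheme.Hom.comp_apply, Scheme.toSpecΓ_naturality]
  have h2 : PrimeSpectrum.comap (K646.EtSite.mor (f i)).appTop.hom ((V i).obj.left.left.toSpecΓ y) = p' := by
    refine Eq.trans ?_ hx
    rw [← hy]
    exact h1.symm
  have h3 : PrimeSpectrum.comap (phi (f i)) (PrimeSpectrum.comap e'.toRingHom
      (Scheme.toSpecΓ (V i).obj.left.left y)) = PrimeSpectrum.comap e.toRingHom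
        (PrimeSpectrum.comap (K646.EtSite.mor (f i)).appTop.hom ((V i).obj.left.left.toSpecΓ y)) := rfl
  rw [h3, h2]
  change PrimeSpectrum.comap e.toRingHom (PrimeSpectrum.comap e.symm.toRingHom p) = p
  rw [← PrimeSpectrum.comap_comp_apply]
  have h4 : e.symm.toRingHom.comp e.toRingHom = RingHom.id _ :=
    RingHom.ext fun x => e.symm_apply_apply x
  rw [h4, PrimeSpectrum.comap_id]

end surj

section perf

/-- `K` is represented by a strictly perfect complex over `V`. -/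
def StrictAt (K : AlgSp.DModEt X) (V : AlgSp.EtOver X) : Prop :=
  ∃ E : CochainComplex (AlgSp.ModEtOn V) ℤ,
    DCoh.IsStrictlyPerfectMod (AlgSp.OEtOn V) E ∧
      Nonempty ((AlgSp.resDEt V).obj K ≅ DCoh.toDMod (AlgSp.OEtOn V) E)

theorem StrictAt.of_hom {K : AlgSp.DModEt X} {V' V : AlgSp.EtOver X} (h : StrictAt K V) (g : V' ⟶ V) :
    StrictAt K V' := by
  obtain ⟨E, hE, ⟨e⟩⟩ := h
  exact ⟨((gE g).mapHomologicalComplex _).obj E, strict_gE g E hE,
    ⟨((rgD g).app K).symm ≪≫ (gD g).mapIso e ≪≫ (gE g).mapDerivedCategoryFactors.app E⟩⟩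

theorem StrictAt.isQCoh {K : AlgSp.DModEt X} {V : AlgSp.EtOver X} (h : StrictAt K V) :
    DCoh.IsQCohDMod (AlgSp.OEtOn V) ((AlgSp.resDEt V).obj K) := by
  obtain ⟨E, hE, ⟨e⟩⟩ := h
  intro i
  exact (SheafOfModules.isQuasicoherent (AlgSp.OEtOn V)).prop_of_iso
    ((DerivedCategory.homologyFunctor _ i).mapIso e.symm)
    (K294.PcQC.isQuasicoherent_HDMod_of_isStrictlyPerfectMod hE i)

/-- The restriction of `K` to the affine object `E` is a perfect complex of modules over the ring of `E`. -/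
def PerfAt (K : AlgSp.DModEt X) (E : AlgSp.EtOver X) [IsAffine E.obj.left.left] : Prop :=
  ∃ M : Dual.D (B E), DRing.IsPerfect (B E) M ∧ Nonempty ((TD E).obj M ≅ (AlgSp.resDEt E).obj K)

theorem strictAt_iff (K : AlgSp.DModEt X) (E : AlgSp.EtOver X) [IsAffine E.obj.left.left] :
    StrictAt K E ↔ PerfAt K E := by
  constructor
  · rintro ⟨C, hC, ⟨e⟩⟩
    obtain ⟨P, hP, ⟨i⟩⟩ := exists_of_strict E C hC
    exact ⟨DRing.toD P, (isPerfect_iff _).2 ⟨P, hP, ⟨Iso.refl _⟩⟩,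
      ⟨(tE E).mapDerivedCategoryFactors.app P ≪≫ DerivedCategory.Q.mapIso i ≪≫ e.symm⟩⟩
  · rintro ⟨M, hM, ⟨e⟩⟩
    obtain ⟨P, hP, ⟨i⟩⟩ := (isPerfect_iff _).1 hM
    exact ⟨_, strict_tE E P hP, ⟨e.symm ≪≫ (TD E).mapIso i.symm ≪≫
      (tE E).mapDerivedCategoryFactors.app P⟩⟩

theorem PerfAt.of_hom {K : AlgSp.DModEt X} {E' E : AlgSp.EtOver X} [IsAffine E.obj.left.left]
    [IsAffine E'.obj.left.left] (h : PerfAt K E) (g : E' ⟶ E) : PerfAt K E' :=
  (strictAt_iff K E').1 (((strictAt_iff K E).2 h).of_hom g)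

theorem PerfAt.of_iso {K K' : AlgSp.DModEt X} {E : AlgSp.EtOver X} [IsAffine E.obj.left.left]
    (h : PerfAt K E) (e : (AlgSp.resDEt E).obj K ≅ (AlgSp.resDEt E).obj K') : PerfAt K' E := by
  obtain ⟨M, hM, ⟨i⟩⟩ := h
  exact ⟨M, hM, ⟨i ≪≫ e⟩⟩

end perf

section local_

open K644.Local K644.QCoh K644.Slice K644.Psh

theorem qcAt_iff (K : AlgSp.DModEt X) (E : AlgSp.EtOver X) :
    DCoh.IsQCohDMod (AlgSp.OEtOn E) ((AlgSp.resDEt E).obj K) ↔
      ∀ i, CartOver (AlgSp.EtOver.toScheme X) (DCoh.HDMod (AlgSp.OEtRing X) K i) E := by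
  refine forall_congr' fun i => ?_
  let e : DCoh.HDMod (AlgSp.OEtOn E) ((AlgSp.resDEt E).obj K) i ≅
      (DCoh.HDMod (AlgSp.OEtRing X) K i).over E := (mapHomology (AlgSp.resModEt E) i).app K
  constructor
  · intro h
    have h1 : ((DCoh.HDMod (AlgSp.OEtRing X) K i).over E).IsQuasicoherent :=
      (SheafOfModules.isQuasicoherent (AlgSp.OEtOn E)).prop_of_iso e h
    exact cartOver_of_over (isQC_of_isQuasicoherent (T := oT (AlgSp.EtOver.toScheme X) E) _)
  · intro h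
    have h1 : IsQC (oT (AlgSp.EtOver.toScheme X) E) ((DCoh.HDMod (AlgSp.OEtRing X) K i).over E).val :=
      fun V U g hV hU => h g.left U.hom hV hU
    exact (SheafOfModules.isQuasicoherent (AlgSp.OEtOn E)).prop_of_iso e.symm
      (isQuasicoherent_of_isQC (T := oT (AlgSp.EtOver.toScheme X) E) h1)

theorem qcAt_of_hom {K : AlgSp.DModEt X} {E' E : AlgSp.EtOver X} (g : E' ⟶ E)
    (h : DCoh.IsQCohDMod (AlgSp.OEtOn E) ((AlgSp.resDEt E).obj K)) :
    DCoh.IsQCohDMod (AlgSp.OEtOn E') ((AlgSp.resDEt E').obj K) := by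
  rw [qcAt_iff] at h ⊢
  exact fun i => (h i).of_hom g

theorem qcAt_of_isQCoh {K : AlgSp.DModEt X} (h : DCoh.IsQCohDMod (AlgSp.OEtRing X) K) (E : AlgSp.EtOver X) :
    DCoh.IsQCohDMod (AlgSp.OEtOn E) ((AlgSp.resDEt E).obj K) := by
  rw [qcAt_iff]
  intro i
  have := h i
  have h1 : IsQC (AlgSp.EtOver.toScheme X) (DCoh.HDMod (AlgSp.OEtRing X) K i).val :=
    isQC_of_isQuasicoherent _
  exact fun W' W h p hW' hW => h1 h hW' hW

theorem isQCoh_iff_forall (K : AlgSp.DModEt X) : DCoh.IsQCohDMod (AlgSp.OEtRing X) K ↔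
    ∀ E : AlgSp.EtOver X, IsAffine E.obj.left.left →
      DCoh.IsQCohDMod (AlgSp.OEtOn E) ((AlgSp.resDEt E).obj K) := by
  refine ⟨fun h E _ => qcAt_of_isQCoh h E, fun h i => ?_⟩
  refine isQuasicoherent_of_isQC (T := AlgSp.EtOver.toScheme X) fun V U g hV hU => ?_
  exact (qcAt_iff K U).1 (h U hU) i g (𝟙 U) hV hU

section cover

variable {K : AlgSp.DModEt X} {E : AlgSp.EtOver X} [hE : IsAffine E.obj.left.left] {ι : Type u} [Finite ι]
  {V : ι → AlgSp.EtOver X} [hV : ∀ i, IsAffine (V i).obj.left.left] (f : ∀ i, V i ⟶ E)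
  (hf : ∀ x : ↥(K646.EtSite.sch E), ∃ i, x ∈ Set.range (K646.EtSite.mor (f i)))

include hE hV hf

theorem qcAt_of_cover (h : ∀ i, DCoh.IsQCohDMod (AlgSp.OEtOn (V i)) ((AlgSp.resDEt (V i)).obj K)) :
    DCoh.IsQCohDMod (AlgSp.OEtOn E) ((AlgSp.resDEt E).obj K) := by
  rw [qcAt_iff]
  intro i
  exact cartOver_of_cover (T := AlgSp.EtOver.toScheme X) (J := AlgSp.etTop X) hE V f hV
    (K646.EtSite.ofArrows_mem f hf) fun j => (qcAt_iff K (V j)).1 (h j) i

/-- A general descent principle for properties of the associated complex of modules. -/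
theorem descend (h : ∀ i, DCoh.IsQCohDMod (AlgSp.OEtOn (V i)) ((AlgSp.resDEt (V i)).obj K)) :
    ∃ M : Dual.D (B E), Nonempty ((TD E).obj M ≅ (AlgSp.resDEt E).obj K) ∧
      ∀ i (N : Dual.D (B (V i))), Nonempty ((TD (V i)).obj N ≅ (AlgSp.resDEt (V i)).obj K) →
        Nonempty ((eD (f i)).obj M ≅ N) := by
  obtain ⟨M, ⟨e⟩⟩ := exists_TD_iso E _ (qcAt_of_cover f hf h)
  refine ⟨M, ⟨e⟩, fun i N ⟨e'⟩ => ⟨(TD (V i)).preimageIso
    ((egD (f i)).app M ≪≫ (gD (f i)).mapIso e ≪≫ (rgD (f i)).app K ≪≫ e'.symm)⟩⟩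

theorem perfAt_of_cover (h : ∀ i, PerfAt K (V i)) : PerfAt K E := by
  obtain ⟨M, hMe, hM⟩ := descend f hf fun i => ((strictAt_iff K (V i)).2 (h i)).isQCoh
  have hM' : ∀ i, DRing.IsPerfect (B (V i)) ((eD (f i)).obj M) := fun i => by
    obtain ⟨N, hN, hN'⟩ := h i
    obtain ⟨e⟩ := hM i N hN'
    exact Groth.Agent.PerfB.DescPerf.perfect_of_iso e.symm hN
  have hsp : ∀ p : PrimeSpectrum (B E), ∃ (j : ULift.{u + 1} ι) (q : PrimeSpectrum (B (V j.down))),
      PrimeSpectrum.comap (phi (f j.down)) q = p := fun p => by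
    obtain ⟨j, q, hq⟩ := exists_comap hE f hf p
    exact ⟨⟨j⟩, q, hq⟩
  have hP := Groth.Agent.PerfC.RingPerf.perfect_descent_family (A := B E) (ι := ULift.{u + 1} ι)
    (B := fun i => B (V i.down)) (φ := fun i => phi (f i.down))
    (fun j => phi_flat (f j.down) (hV j.down) hE) hsp M (fun i => hM' i.down)
  exact ⟨M, hP, hMe⟩

end cover

/-- Perfect objects on affine objects. -/
theorem isPerfectEtDAt_iff (K : AlgSp.DModEt X) (E : AlgSp.EtOver X) [hE : IsAffine E.obj.left.left] :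
    AlgSp.IsPerfectEtDAt K E ↔ PerfAt K E := by
  constructor
  · rintro ⟨ι, V, g, hg, hV⟩
    have : CompactSpace ↥(K646.EtSite.sch E) := inferInstanceAs (CompactSpace E.obj.left.left)
    obtain ⟨n, W, f, h1, h2, h3⟩ := K646.EtSite.exists_finite_affine E
      (Sieve.generate (Presieve.ofArrows V g)) (Precoverage.generate_mem_toGrothendieck hg)
    have h2' : ∀ i, IsAffine (W i).obj.left.left := h2
    refine perfAt_of_cover f h3 fun i => ?_
    obtain ⟨_, a, _, ⟨j⟩, -⟩ := h1 i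
    exact (strictAt_iff K _).1 (StrictAt.of_hom (hV j) a)
  · intro h
    refine ⟨PUnit, fun _ => E, fun _ => 𝟙 E, ?_, fun _ => (strictAt_iff K E).2 h⟩
    rw [AlgSp.ofArrows_mem_etPre_iff]
    intro x
    exact ⟨⟨⟩, x, rfl⟩

theorem isPerfectEtD_iff (K : AlgSp.DModEt X) :
    AlgSp.IsPerfectEtD K ↔ ∀ (E : AlgSp.EtOver X) (_ : IsAffine E.obj.left.left), PerfAt K E := by
  constructor
  · exact fun h E _ => (isPerfectEtDAt_iff K E).1 (h E)
  · intro h U
    choose V g hg ha hx using K646.EtSite.exists_affine U ⊤ ((AlgSp.etTop X).top_mem U)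
    refine ⟨ULift.{u + 1} ↥(K646.EtSite.sch U), fun x => V x.down, fun x => g x.down, ?_, fun x => ?_⟩
    · rw [AlgSp.ofArrows_mem_etPre_iff]
      intro x
      exact ⟨⟨x⟩, hx x⟩
    · have : IsAffine (V x.down).obj.left.left := ha x.down
      exact (strictAt_iff K _).2 (h _ (ha x.down))

theorem isQCoh_of_isPerfect {K : AlgSp.DModEt X} (h : AlgSp.IsPerfectEtD K) :
    DCoh.IsQCohDMod (AlgSp.OEtRing X) K := by
  rw [isQCoh_iff_forall]
  intro E hE
  exact ((strictAt_iff K E).2 ((isPerfectEtDAt_iff K E).1 (h E))).isQCoh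

end local_

end K645.Int
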