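import Groth.Agent.AlgSp.K645.Elem

/-!
# Mayer–Vietoris for elementary squares
-/

set_option autoImplicit false
set_option linter.unusedSectionVars false
universe u

open CategoryTheory CategoryTheory.Limits Opposite DirectSum

namespace K645.Square
open K645.Ex K645.Lam K645.Shriek

variable {C : Type (u + 1)} [Category.{u} C] {J : GrothendieckTopology C} {R : Sheaf J RingCat.{u + 1}}
  {V : C} {U W : Opn C}

/-- `f_! λ_{U ×_W V} f^*`. -/
noncomputable abbrev F1 (U : Opn C) (R : Sheaf J RingCat.{u + 1}) (V : C) :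
    SheafOfModules.{u + 1} R ⥤ SheafOfModules.{u + 1} R :=
  rst R V ⋙ lam (ovr U V) (R.over V) ⋙ shriek R V

/-- `f_! f^*`. -/
noncomputable abbrev F2 (R : Sheaf J RingCat.{u + 1}) (V : C) :
    SheafOfModules.{u + 1} R ⥤ SheafOfModules.{u + 1} R :=
  rst R V ⋙ shriek R V

/-- `f_! λ f^* M ⟶ f_! f^* M`. -/
noncomputable abbrev al' (U : Opn C) (R : Sheaf J RingCat.{u + 1}) (V : C) : F1 U R V ⟶ F2 R V where
  app M := (shriek R V).map (inc (ovr U V) ((rst R V).obj M))
  naturality M N f := by
    change (shriek R V).map ((lam (ovr U V) (R.over V)).map ((rst R V).map f)) ≫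
      (shriek R V).map (inc (ovr U V) ((rst R V).obj N)) =
      (shriek R V).map (inc (ovr U V) ((rst R V).obj M)) ≫ (shriek R V).map ((rst R V).map f)
    rw [← Functor.map_comp, lam_map_inc, Functor.map_comp]

lemma shriek_counit_mem (M : SheafOfModules.{u + 1} R) (E : C)
    (y : ((shriek R V).obj (obj (ovr U V) ((rst R V).obj M))).val.obj (op E)) :
    ap ((shriek R V).map (inc (ovr U V) ((rst R V).obj M)) ≫ counitHom M) E y ∈ (sub U M).obj (op E) := by
  have h := isIso_inc_shriek (U := U) ((rst R V).obj M)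
  let k := inv (inc U ((shriek R V).obj (obj (ovr U V) ((rst R V).obj M))))
  have h1 : y = ap (inc U _) E (ap k E y) := by
    rw [← ap_comp, IsIso.inv_hom_id, ap_id]
  rw [h1]
  exact ap_mem_sub U _ (ap_inc_mem U _ E _)

/-- `f_! λ f^* M ⟶ j_! j^* M`. -/
noncomputable abbrev al (U : Opn C) (R : Sheaf J RingCat.{u + 1}) (V : C) : F1 U R V ⟶ lam U R where
  app M := lift U ((shriek R V).map (inc (ovr U V) ((rst R V).obj M)) ≫ counitHom M) (shriek_counit_mem M)
  naturality M N f := by
    have h1 := (al' U R V).naturality f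
    have h2 := (adj R V).counit.naturality f
    rw [← cancel_mono (inc U N), Category.assoc, lift_inc, Category.assoc, lam_map_inc, ← Category.assoc,
      h1, Category.assoc, ← Category.assoc (lift U _ _), lift_inc, Category.assoc]
    exact congrArg (fun t => (al' U R V).app M ≫ t) h2

/-- `f_! f^* M ⟶ j_! j^* M` for the big open. -/
noncomputable abbrev be' (hV : W.mem V) (R : Sheaf J RingCat.{u + 1}) : F2 R V ⟶ lam W R where
  app M := lift W (counitHom M) (counit_mem_sub hV M)
  naturality M N f := by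
    have h2 := (adj R V).counit.naturality f
    rw [← cancel_mono (inc W N), Category.assoc, lift_inc, Category.assoc, lam_map_inc,
      ← Category.assoc (lift W _ _), lift_inc]
    exact h2

variable (H : Elem J V U W)

lemma elem_comm (M : SheafOfModules.{u + 1} R) : (al U R V).app M ≫ (ιLE H.le R).app M =
    (al' U R V).app M ≫ (be' H.memV R).app M := by
  rw [← cancel_mono (inc W M), Category.assoc, incLE_inc, lift_inc, Category.assoc, lift_inc]

include H in
lemma exists_locally_lift (M : SheafOfModules.{u + 1} R) {E : C} (x : PS ((rst R V).obj M) E)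
    (hx : sumPS M E x = 0) : ∃ T ∈ J E, ∀ ⦃E' : C⦄ (e : E' ⟶ E), T e → U.mem E' ∨ rsPS _ e x = 0 := by
  -- reduce to the case of one summand
  have key : ∀ (x : PS ((rst R V).obj M) E), ∃ T ∈ J E, ∀ ⦃E' : C⦄ (e : E' ⟶ E), T e →
      U.mem E' ∨ rsPS _ e x = 0 ∨ ∃ g n, rsPS ((rst R V).obj M) e x = inj _ g n := by
    intro x
    by_cases h : Nonempty (E ⟶ V)
    · obtain ⟨g₀⟩ := h
      have : ∃ T ∈ J E, ∀ ⦃E' : C⦄ (e : E' ⟶ E), T e →
          U.mem E' ∨ ∃ n, rsPS ((rst R V).obj M) e x = inj _ (e ≫ g₀) n := by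
        induction x using induction_PS with
        | h0 => exact ⟨⊤, J.top_mem _, fun E' e _ => Or.inr ⟨0, by rw [map_zero, map_zero]⟩⟩
        | hi g n =>
          obtain ⟨T, hT, h⟩ := H.uniq E g g₀
          refine ⟨T, hT, fun E' e he => ?_⟩
          rcases h e he with h1 | h1
          · exact Or.inl h1
          · rw [rsPS_inj, ← h1]
            exact Or.inr ⟨_, rfl⟩
        | ha x y hx hy =>
          obtain ⟨T, hT, h⟩ := hx
          obtain ⟨T', hT', h'⟩ := hy
          refine ⟨T ⊓ T', J.intersection_covering hT hT', fun E' e he => ?_⟩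
          rcases h e he.1 with h1 | ⟨a, ha⟩
          · exact Or.inl h1
          rcases h' e he.2 with h1 | ⟨b, hb⟩
          · exact Or.inl h1
          · exact Or.inr ⟨a + b, by rw [map_add, map_add, ha, hb]⟩
      obtain ⟨T, hT, h⟩ := this
      refine ⟨T, hT, fun E' e he => ?_⟩
      rcases h e he with h1 | h1
      · exact Or.inl h1
      · exact Or.inr (Or.inr ⟨_, h1⟩)
    · refine ⟨⊤, J.top_mem _, fun E' e _ => Or.inr (Or.inl ?_)⟩
      have : x = 0 := by
        induction x using induction_PS with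
        | h0 => rfl
        | hi g n => exact (h ⟨g⟩).elim
        | ha x y hx hy => rw [hx, hy, add_zero]
      rw [this, map_zero]
  obtain ⟨T, hT, h⟩ := key x
  refine ⟨T, hT, fun E' e he => ?_⟩
  rcases h e he with h1 | h1 | ⟨g, n, h1⟩
  · exact Or.inl h1
  · exact Or.inr h1
  · refine Or.inr ?_
    have h2 : secRst M g n = 0 := by
      rw [← sumPS_inj, ← h1, sumPS_rsPS, hx, map_zero]
    have h3 : n = 0 := (secRst M g).injective (h2.trans (map_zero _).symm)
    rw [h1, h3, map_zero]

/-- Mayer–Vietoris for an elementary square. -/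
theorem elem_shortExact (M : SheafOfModules.{u + 1} R) :
    (Groth.Agent.PerfA.MVAbs.mv (al U R V) (al' U R V) (ιLE H.le R) (be' H.memV R) (elem_comm H) M).ShortExact := by
  refine shortExact_mv _ _ _ _ _ (fun E x _ hx => ?_) (fun E y y' h => ?_) (fun E z => ?_)
  · have := shriek_mono (inc (ovr U V) ((rst R V).obj M))
    exact injective_of_mono ((shriek R V).map (inc (ovr U V) ((rst R V).obj M))) E
      (hx.trans (map_zero _).symm)
  · -- `y` in `λ_U M`, `y'` in `f_! f^* M`
    have h0 : ap (inc U M) E y + ap (counitHom M) E y' = 0 := by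
      have h' := congrArg (ap (inc W M) E) h
      rw [map_add, map_zero] at h'
      have h1 : ap (inc W M) E (ap (incLE H.le M) E y) = ap (inc U M) E y := ap_incLE _ _ _ _
      have h2 : ap (inc W M) E (ap ((be' H.memV R).app M) E y') = ap (counitHom M) E y' := by
        rw [← ap_comp, lift_inc]
      rw [← h1, ← h2]
      exact h'
    obtain ⟨T, hT, h1⟩ := exists_tos _ y'
    obtain ⟨T', hT', h2⟩ := ap_inc_mem U M E y
    have key : ∀ ⦃E' : C⦄ (e : E' ⟶ E), (T ⊓ T') e → ∃ T₁ ∈ J E', ∀ ⦃E'' : C⦄ (e' : E'' ⟶ E'), T₁ e' →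
        ∃ x, tos _ E'' x = res ((shriek R V).obj ((rst R V).obj M)) (e' ≫ e) y' ∧ (U.mem E'' ∨ x = 0) := by
      intro E' e he
      obtain ⟨x, hx⟩ := h1 e he.1
      rcases h2 e he.2 with h3 | h3
      · exact ⟨⊤, J.top_mem _, fun E'' e' _ => ⟨rsPS _ e' x, by rw [← res_tos, hx, res_comp],
          Or.inl (U.down e' h3)⟩⟩
      · have h4 : sumPS M E' x = 0 := by
          rw [← ap_counitHom_tos, hx, ap_res]
          have h5 := congrArg (res M e) h0
          rw [map_add, map_zero] at h5
          rw [← h5]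
          exact (zero_add _).symm.trans (congrArg (fun t => t + res M e (ap (counitHom M) E y')) h3.symm)
        obtain ⟨T₁, hT₁, h5⟩ := exists_locally_lift H M x h4
        exact ⟨T₁, hT₁, fun E'' e' he' => ⟨rsPS _ e' x, by rw [← res_tos, hx, res_comp], h5 e' he'⟩⟩
    choose T₁ hT₁ hT₁' using key
    refine ⟨Sieve.bind (T ⊓ T').arrows fun E' e he => T₁ e he,
      J.bind_covering (J.intersection_covering hT hT') fun E' e he => hT₁ e he, ?_⟩
    rintro E'' _ ⟨E', e'', e', he', he'', rfl⟩
    obtain ⟨x, hx, hx'⟩ := hT₁' e' he' e'' he''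
    obtain ⟨x', hx'⟩ : ∃ x', psMap (inc (ovr U V) ((rst R V).obj M)) E'' x' = x := by
      rcases hx' with h3 | h3
      · exact psMap_inc_surjective _ h3 x
      · exact ⟨0, by rw [map_zero, h3]⟩
    refine ⟨-tos _ E'' x', ?_, ?_⟩
    · apply ap_inc_injective U M E''
      have h3 : ap (inc U M) E'' (ap ((al U R V).app M) E'' (-tos _ E'' x')) =
          ap (counitHom M) E'' (ap ((shriek R V).map (inc (ovr U V) ((rst R V).obj M))) E'' (-tos _ E'' x')) := by
        rw [← ap_comp, lift_inc, ap_comp]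
      refine h3.trans ?_
      rw [map_neg, ap_map_tos, hx', hx, map_neg, ap_res, ap_res]
      have h5 := congrArg (res M (e'' ≫ e')) h0
      rw [map_add, map_zero] at h5
      exact (eq_neg_of_add_eq_zero_left h5).symm
    · change ap ((shriek R V).map (inc (ovr U V) ((rst R V).obj M))) E'' (-tos _ E'' x') = _
      rw [map_neg, ap_map_tos, hx', hx]
      rfl
  · obtain ⟨T, hT, h⟩ := ap_inc_mem W M E z
    have key : ∀ ⦃E' : C⦄ (e : E' ⟶ E), T e → ∃ T₁ ∈ J E', ∀ ⦃E'' : C⦄ (e' : E'' ⟶ E'), T₁ e' →
        ∃ y y', ap ((ιLE H.le R).app M) E'' y + ap ((be' H.memV R).app M) E'' y' = res _ (e' ≫ e) z := by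
      intro E' e he
      rcases h e he with h1 | h1
      · obtain ⟨T', hT', h'⟩ := exists_counit_eq H M h1 (res M e (ap (inc W M) E z))
        refine ⟨T', hT', fun E'' e' he' => ?_⟩
        rcases h' e' he' with h2 | ⟨y, hy⟩
        · obtain ⟨t, ht⟩ := exists_ap_inc U M E'' (res M e' (res M e (ap (inc W M) E z)))
            (mem_sub_of_mem U _ h2 _)
          refine ⟨t, 0, ap_inc_injective W M E'' ?_⟩
          rw [map_zero, add_zero]
          have h3 : ap (inc W M) E'' (ap (incLE H.le M) E'' t) = ap (inc U M) E'' t := ap_incLE _ _ _ _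
          refine h3.trans ?_
          rw [ht, ap_res, res_comp]
        · refine ⟨0, y, ap_inc_injective W M E'' ?_⟩
          rw [map_zero, zero_add]
          have h3 : ap (inc W M) E'' (ap ((be' H.memV R).app M) E'' y) = ap (counitHom M) E'' y := by
            rw [← ap_comp, lift_inc]
          refine h3.trans ?_
          rw [hy, ap_res, res_comp]
      · refine ⟨⊤, J.top_mem _, fun E'' e' _ => ⟨0, 0, ap_inc_injective W M E'' ?_⟩⟩
        rw [map_zero, map_zero, zero_add, map_zero, ap_res, res_comp, h1, map_zero]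
    choose T₁ hT₁ hT₁' using key
    refine ⟨Sieve.bind T.arrows fun E' e he => T₁ e he, J.bind_covering hT fun E' e he => hT₁ e he, ?_⟩
    rintro E'' _ ⟨E', e'', e', he', he'', rfl⟩
    exact hT₁' e' he' e'' he''

end K645.Square
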