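import Groth.Agent.AlgSp.K645.ShriekEx

/-!
# Restriction between slices
-/

set_option autoImplicit false

universe u

open CategoryTheory CategoryTheory.Limits Opposite

namespace K645.Shriek

open K645.Ex

variable {C : Type (u + 1)} [Category.{u} C] {J : GrothendieckTopology C} {R : Sheaf J RingCat.{u + 1}}

variable (R) in
/-- Restriction from `Over V` to `Over V'`. -/
noncomputable abbrev gst {V' V : C} (g : V' ⟶ V) :
    SheafOfModules.{u + 1} (R.over V) ⥤ SheafOfModules.{u + 1} (R.over V') :=
  SheafOfModules.overMap R g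

variable (R) in
/-- `rst` followed by `gst` is `rst`. -/
noncomputable def rstGst {V' V : C} (g : V' ⟶ V) : rst R V ⋙ gst R g ≅ rst R V' :=
  SheafOfModules.overFunctorMap R g

instance {V' V : C} (g : V' ⟶ V) : (gst R g).Additive where
  map_add := by intros; rfl

lemma gst_shortExact {V' V : C} (g : V' ⟶ V) (S : ShortComplex (SheafOfModules.{u + 1} (R.over V)))
    (hS : S.ShortExact) : (S.map (gst R g)).ShortExact := by
  have := hS.mono_f
  have := hS.epi_g
  refine shortExact_of_local _ (fun X x hx => ?_) (fun X y hy => ?_) (fun X y => ?_)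
  · exact injective_of_mono S.f ((Over.map g).obj X)
      (hx.trans (map_zero (ap S.f ((Over.map g).obj X))).symm)
  · obtain ⟨x, hx⟩ := exists_of_exact S hS.exact ((Over.map g).obj X) y hy
    exact ⟨⊤, (J.over V').top_mem _, fun X' e _ => ⟨res ((gst R g).obj S.X₁) e x, by
      change ap (S.map (gst R g)).f X' (res (S.map (gst R g)).X₁ e x) = _
      rw [ap_res]
      exact congrArg _ hx⟩⟩
  · obtain ⟨T, hT, h⟩ := locSurj_of_epi S.g ((Over.map g).obj X) y
    refine ⟨T.functorPullback (Over.map g), ?_, fun X' e he => ?_⟩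
    · have h1 := Sieve.overEquiv_functorPullback_map g X T
      rw [GrothendieckTopology.mem_over_iff, h1]
      exact hT
    · obtain ⟨x, hx⟩ := h ((Over.map g).map e) he
      exact ⟨x, hx⟩

instance {V' V : C} (g : V' ⟶ V) : PreservesFiniteLimits (gst R g) := by
  have h := ((gst R g).exact_tfae.out 0 3).1 (gst_shortExact g)
  exact h.1

instance {V' V : C} (g : V' ⟶ V) : PreservesFiniteColimits (gst R g) := by
  have h := ((gst R g).exact_tfae.out 0 3).1 (gst_shortExact g)
  exact h.2

end K645.Shriek
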