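import Groth.Agent.AlgSp.K645.TE
import Groth.Agent.AlgSp.K645.Gst

/-!
# Base change for the functors `tE`
-/

set_option autoImplicit false

universe u

open CategoryTheory CategoryTheory.Limits AlgebraicGeometry Opposite

attribute [local instance] HasDerivedCategory.standard

namespace K645.BC

open K645.TE K645.Shriek Groth.Agent.Etbase.FFExact

section alg

universe v

theorem isBC_transport {A B : Type*} [CommRing A] [CommRing B] {φ : A →+* B} {A' B' : Type v} [CommRing A']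
    [CommRing B'] {φ' : A' →+* B'} (α : A ≃+* A') (β : B ≃+* B') (hφ : ∀ a, φ' (α a) = β (φ a))
    {M M' : Type v} [AddCommGroup M] [AddCommGroup M'] [Module A M] [Module A' M] [Module B M']
    [Module B' M'] (hM : ∀ (a : A) (m : M), α a • m = a • m) (hM' : ∀ (b : B) (m : M'), β b • m = b • m)
    {ψ : M →+ M'} (h : IsBC φ ψ) : IsBC φ' ψ := by
  refine K644.Alg.IsBC.of_lift.{v, v} (fun a m => ?_) (fun Q _ _ g hg => ?_)
  · obtain ⟨a, rfl⟩ := α.surjective a
    rw [hM, h.choose, hφ, hM']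
  · let _ : Module B Q := Module.compHom Q β.toRingHom
    obtain ⟨g', hg', hu⟩ := K644.Alg.IsBC.existsUnique_lift h g (fun a m => by
      rw [← hM, hg, hφ]
      rfl)
    refine ⟨{ toFun := g', map_add' := map_add g', map_smul' := fun b m => ?_ }, hg', fun g'' h'' => ?_⟩
    · obtain ⟨b, rfl⟩ := β.surjective b
      rw [hM', map_smul]
      rfl
    · let g₃ : M' →ₗ[B] Q := { toFun := g'', map_add' := map_add g'', map_smul' := fun b m =>
        (congrArg g'' (hM' b m)).symm.trans (map_smul g'' (β b) m) }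
      have h3 := hu g₃ h''
      ext m
      exact LinearMap.congr_fun h3 m

theorem bijective_aux {A B : Type v} [CommRing A] [CommRing B] (φ : A →+* B) (N : ModuleCat.{v} A)
    (Q Q' : ModuleCat.{v} B) (h : N →ₗ[A] (ModuleCat.restrictScalars φ).obj Q)
    (H : IsBC φ (M := N) (M' := Q) h.toAddMonoidHom)
    (un : N →ₗ[A] (ModuleCat.restrictScalars φ).obj Q')
    (hext : ∀ f g : Q' ⟶ Q', (∀ n, f (un n) = g (un n)) → f = g)
    (k : Q' ⟶ Q) (hk : ∀ n, k (un n) = h n) : Function.Bijective k := by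
  obtain ⟨g', hg', -⟩ := K644.Alg.IsBC.existsUnique_lift H (Q := Q') un.toAddMonoidHom
    (fun a m => un.map_smul a m)
  have h1 : k ≫ ModuleCat.ofHom g' = 𝟙 _ := hext _ _ fun m => by
    change g' (k (un m)) = un m
    rw [hk]
    exact hg' m
  have h2 : k.hom.comp g' = LinearMap.id := by
    refine K644.Alg.IsBC.hom_ext H _ _ fun m => ?_
    exact (congrArg k (hg' m)).trans (hk m)
  have : IsIso k := ⟨ModuleCat.ofHom g', h1, ModuleCat.hom_ext h2⟩
  exact (ConcreteCategory.isIso_iff_bijective k).1 this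

theorem bijective_of_isBC {A B : Type v} [CommRing A] [CommRing B] (φ : A →+* B) (N : ModuleCat.{v} A)
    (Q : ModuleCat.{v} B) (h : N ⟶ (ModuleCat.restrictScalars φ).obj Q)
    (H : IsBC φ (M := N) (M' := Q) h.hom.toAddMonoidHom) :
    Function.Bijective (((ModuleCat.extendRestrictScalarsAdj.{v} φ).homEquiv N Q).symm h) := by
  refine bijective_aux φ N Q ((ModuleCat.extendScalars.{v, v, v} φ).obj N) h.hom H
    ((ModuleCat.extendRestrictScalarsAdj.{v} φ).unit.app N).hom ?_
    (((ModuleCat.extendRestrictScalarsAdj.{v} φ).homEquiv N Q).symm h) fun n => ?_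
  · intro f g hfg
    exact ModuleCat.ExtendScalars.hom_ext hfg
  · have := ((ModuleCat.extendRestrictScalarsAdj.{v} φ).homEquiv N Q).apply_symm_apply h
    rw [Adjunction.homEquiv_unit] at this
    exact ConcreteCategory.congr_hom this n

end alg

variable {S : Scheme.{u}} {X : AlgSp.Sp S} {E' E : AlgSp.EtOver X} (g : E' ⟶ E)

/-- The map on functions. -/
noncomputable def phi : B E →+* B E' :=
  ULift.ringEquiv.symm.toRingHom.comp
    ((((AlgSp.EtOver.toScheme X).map g).appTop.hom).comp ULift.ringEquiv.toRingHom)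

theorem phi_eq : phi g = ((AlgSp.OEtRing X).obj.map g.op).hom := rfl

/-- Restriction between the slices. -/
noncomputable abbrev gE : AlgSp.ModEtOn E ⥤ AlgSp.ModEtOn E' := gst (AlgSp.OEtRing X) g

/-- Restriction of sections. -/
noncomputable def rhoApp (M : AlgSp.ModEtOn E) :
    (sE E).obj M ⟶ (ModuleCat.restrictScalars (phi g)).obj ((sE E').obj ((gE g).obj M)) :=
  M.val.map (Over.homMk g : Over.mk (𝟙 E' ≫ g) ⟶ Over.mk (𝟙 E)).op

/-- Restriction of sections. -/
noncomputable def rho : sE E ⟶ gE g ⋙ sE E' ⋙ ModuleCat.restrictScalars (phi g) where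
  app M := rhoApp g M
  naturality M N f := (f.val.naturality
      (Over.homMk g : Over.mk (𝟙 E' ≫ g) ⟶ Over.mk (𝟙 E)).op).symm

/-- The adjunction. -/
noncomputable def adj2 : ModuleCat.extendScalars.{u + 1, u + 1, u + 1} (phi g) ⋙ tE E' ⊣
    sE E' ⋙ ModuleCat.restrictScalars.{u + 1} (phi g) :=
  (ModuleCat.extendRestrictScalarsAdj.{u + 1} (phi g)).comp (adjE E')

/-- The base change morphism. -/
noncomputable def bcHom : ModuleCat.extendScalars.{u + 1, u + 1, u + 1} (phi g) ⋙ tE E' ⟶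
    tE E ⋙ gE g where
  app N := ((adj2 g).homEquiv N _).symm ((adjE E).unit.app N ≫ (rho g).app ((tE E).obj N))
  naturality N N' f := by
    rw [← Adjunction.homEquiv_naturality_left_symm, ← Adjunction.homEquiv_naturality_right_symm]
    congr 1
    have h1 := (adjE E).unit.naturality f
    have h2 := (rho g).naturality ((tE E).map f)
    rw [Category.assoc]
    dsimp only [Functor.id_map, Functor.comp_map] at h1 h2 ⊢
    rw [reassoc_of% h1, h2]

theorem adj2_homEquiv {N : ModuleCat.{u + 1} (B E)} {M : AlgSp.ModEtOn E'}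
    (f : (ModuleCat.extendScalars.{u + 1, u + 1, u + 1} (phi g) ⋙ tE E').obj N ⟶ M) :
    (adj2 g).homEquiv N M f = (ModuleCat.extendRestrictScalarsAdj.{u + 1} (phi g)).homEquiv _ _
      ((adjE E').homEquiv _ _ f) := by
  rw [adj2, Adjunction.comp_homEquiv]
  rfl

theorem isQC_gE {M : AlgSp.ModEtOn E}
    (hM : K644.Psh.IsQC (K644.Slice.oT (AlgSp.EtOver.toScheme X) E) M.val) :
    K644.Psh.IsQC (K644.Slice.oT (AlgSp.EtOver.toScheme X) E') ((gE g).obj M).val :=
  fun _ _ h hV hU => hM ((Over.map g).map h) hV hU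

variable [hE : IsAffine E.obj.left.left] [hE' : IsAffine E'.obj.left.left]

theorem isBC_unit_rho (N : ModuleCat.{u + 1} (B E)) :
    IsBC (phi g) (M := N) (M' := (sE E').obj ((gE g).obj ((tE E).obj N)))
      ((adjE E).unit.app N ≫ (rho g).app ((tE E).obj N)).hom.toAddMonoidHom := by
  have h1 := isQC_tE E N (Over.homMk g : Over.mk (𝟙 E' ≫ g) ⟶ Over.mk (𝟙 E)) hE' hE
  have hb := K645.Tilde.bijective_eta (T := K644.Slice.oT (AlgSp.EtOver.toScheme X) E)
    (R := AlgSp.OEtOn E) Over.mkIdTerminal hE N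
  let TT := K644.Slice.oT (AlgSp.EtOver.toScheme X) E
  let _ : Module Γ(TT.obj (Over.mk (𝟙 E)), ⊤) N :=
    Module.compHom N (ULift.ringEquiv (R := Γ(E.obj.left.left, ⊤))).symm.toRingHom
  let e0 : N →ₗ[Γ(TT.obj (Over.mk (𝟙 E)), ⊤)] K644.Exact.sec ((tE E).obj N) (Over.mk (𝟙 E)) :=
    { toFun := K645.Tilde.eta (R := AlgSp.OEtOn E) Over.mkIdTerminal N
      map_add' := map_add _
      map_smul' := fun a n => (K645.Tilde.eta (R := AlgSp.OEtOn E) Over.mkIdTerminal N).map_smul
        (ULift.up a) n }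
  let e : N ≃ₗ[Γ(TT.obj (Over.mk (𝟙 E)), ⊤)] K644.Exact.sec ((tE E).obj N) (Over.mk (𝟙 E)) :=
    LinearEquiv.ofBijective e0 hb
  let ψ' : N →+ K644.Exact.sec ((tE E).obj N) (Over.mk (𝟙 E' ≫ g)) :=
    (((tE E).obj N).val.presheaf.map (Over.homMk g : Over.mk (𝟙 E' ≫ g) ⟶ Over.mk (𝟙 E)).op).hom.comp
      e0.toAddMonoidHom
  have h2 : IsBC (TT.map (Over.homMk g : Over.mk (𝟙 E' ≫ g) ⟶ Over.mk (𝟙 E))).appTop.hom ψ' :=
    K644.Alg.IsBC.of_equiv h1 e.symm (LinearEquiv.refl _ _) ψ' (fun m => by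
      change ((tE E).obj N).val.presheaf.map (Over.homMk g : Over.mk (𝟙 E' ≫ g) ⟶ Over.mk (𝟙 E)).op
        (e (e.symm m)) = _
      rw [LinearEquiv.apply_symm_apply]
      rfl)
  let i1 : Module Γ(TT.obj (Over.mk (𝟙 E' ≫ g)), ⊤) ((sE E').obj ((gE g).obj ((tE E).obj N))) :=
    K644.Psh.modΓ (T := TT) (R := (AlgSp.OEtOn E).obj) ((tE E).obj N).val (Over.mk (𝟙 E' ≫ g))
  exact isBC_transport (A := Γ(TT.obj (Over.mk (𝟙 E)), ⊤)) (B := Γ(TT.obj (Over.mk (𝟙 E' ≫ g)), ⊤))
    (φ := (TT.map (Over.homMk g : Over.mk (𝟙 E' ≫ g) ⟶ Over.mk (𝟙 E))).appTop.hom)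
    (A' := B E) (B' := B E') (M := N) (M' := (sE E').obj ((gE g).obj ((tE E).obj N))) (ψ := ψ')
    (ULift.ringEquiv (R := Γ(E.obj.left.left, ⊤))).symm
    (ULift.ringEquiv (R := Γ(E'.obj.left.left, ⊤))).symm (fun _ => rfl) (fun _ _ => rfl)
    (fun _ _ => rfl) h2

/-- The base change morphism is an isomorphism. -/
theorem isIso_bcHom_app (N : ModuleCat.{u + 1} (B E)) : IsIso ((bcHom g).app N) := by
  refine K645.Tilde.isIso_of_bijective (T := K644.Slice.oT (AlgSp.EtOver.toScheme X) E')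
    (R := AlgSp.OEtOn E') (isQC_tE E' _) (isQC_gE g (isQC_tE E N)) _ Over.mkIdTerminal hE' ?_
  have h1 : (adjE E').homEquiv _ _ ((bcHom g).app N) =
      ((ModuleCat.extendRestrictScalarsAdj.{u + 1} (phi g)).homEquiv _ _).symm
        ((adjE E).unit.app N ≫ (rho g).app ((tE E).obj N)) := by
    exact (Equiv.eq_symm_apply _).2 ((adj2_homEquiv g _).symm.trans (Equiv.apply_symm_apply _ _))
  have h2' := bijective_of_isBC (phi g) N _ _ (isBC_unit_rho g N)
  have h2 : Function.Bijective ((adjE E').homEquiv _ _ ((bcHom g).app N)) := by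
    rw [h1]
    exact h2'
  rw [Adjunction.homEquiv_unit] at h2
  have h3 := K645.Tilde.bijective_eta (T := K644.Slice.oT (AlgSp.EtOver.toScheme X) E')
    (R := AlgSp.OEtOn E') Over.mkIdTerminal hE'
    ((ModuleCat.extendScalars.{u + 1, u + 1, u + 1} (phi g)).obj N)
  exact (Function.Bijective.of_comp_iff _ h3).1 h2

instance isIso_bcHom : IsIso (bcHom g) := by
  have := isIso_bcHom_app g
  exact NatIso.isIso_of_isIso_app _

end K645.BC
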