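import Groth.Agent.AlgSp.K645.Mul
import Groth.Agent.AlgSp.K645.BC

/-!
# Multiplication by functions on derived categories
-/

set_option autoImplicit false
set_option linter.unusedSectionVars false

universe w₁ w₂ v₁ v₂ u₁ u₂ u

open CategoryTheory CategoryTheory.Limits AlgebraicGeometry Opposite

namespace K645.MulD

section abs

open DerivedCategory K645.DNat K290.DId Groth.Agent.PerfA.ExactD Groth.Agent.PerfA.MVAbs K645.LocBase

variable {A : Type u₁} {B : Type u₂} [Category.{v₁} A] [Category.{v₂} B] [Abelian A] [Abelian B]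
  [HasDerivedCategory.{w₁} A] [HasDerivedCategory.{w₂} B]
  (F : A ⥤ B) [F.Additive] [PreservesFiniteLimits F] [PreservesFiniteColimits F]

/-- The endomorphism of a complex. -/
def endCx (α : 𝟭 A ⟶ 𝟭 A) (K : CochainComplex A ℤ) : K ⟶ K where
  f i := α.app (K.X i)
  comm' i j _ := (α.naturality (K.d i j)).symm

theorem mapDId_Q (K : CochainComplex A ℤ) :
    (mapDId A).hom.app (Q.obj K) = (𝟭 A).mapDerivedCategoryFactors.hom.app K ≫
      Q.map ((Functor.mapHomologicalComplexIdIso A (ComplexShape.up ℤ)).hom.app K) := by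
  have h : (mapDId A).hom.app (Q.obj K) = (𝟭 A).mapDerivedCategoryFactors.hom.app K ≫
      (Q.map ((Functor.mapHomologicalComplexIdIso A (ComplexShape.up ℤ)).hom.app K) ≫ 𝟙 _) ≫ 𝟙 _ :=
    Localization.liftNatTrans_app _ _ _ _ _ _ _ _
  rw [h, Category.comp_id, Category.comp_id]

theorem endD_Q (α : 𝟭 A ⟶ 𝟭 A) (K : CochainComplex A ℤ) :
    (endD α).app (Q.obj K) = Q.map (endCx α K) := by
  have h1 : (endD α).app (Q.obj K) = (mapDId A).inv.app (Q.obj K) ≫ (mapD α).app (Q.obj K) ≫
    (mapDId A).hom.app (Q.obj K) := rfl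
  have h2 := mapDId_Q K
  have h3 : (Functor.mapHomologicalComplexIdIso A (ComplexShape.up ℤ)).hom.app K ≫ endCx α K =
      mapCx α K ≫ (Functor.mapHomologicalComplexIdIso A (ComplexShape.up ℤ)).hom.app K := by
    ext i
    exact (Category.id_comp _).trans (Category.comp_id _).symm
  rw [h1, ← cancel_epi ((mapDId A).hom.app (Q.obj K)), Iso.hom_inv_id_app_assoc, h2, mapD_app]
  simp only [Category.assoc, Iso.inv_hom_id_app_assoc]
  have h4 : Q.map (mapCx α K) ≫ Q.map ((Functor.mapHomologicalComplexIdIso A (ComplexShape.up ℤ)).hom.app K) =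
      Q.map ((Functor.mapHomologicalComplexIdIso A (ComplexShape.up ℤ)).hom.app K) ≫ Q.map (endCx α K) :=
    (Functor.map_comp _ _ _).symm.trans ((congrArg Q.map h3.symm).trans (Functor.map_comp _ _ _))
  exact congrArg (fun z => (𝟭 A).mapDerivedCategoryFactors.hom.app K ≫ z) h4

variable {F}

/-- Compatibility of the endomorphisms with exact functors. -/
theorem map_endD {α : 𝟭 A ⟶ 𝟭 A} {β : 𝟭 B ⟶ 𝟭 B} (h : ∀ N : A, F.map (α.app N) = β.app (F.obj N))
    (M : DerivedCategory A) :
    F.mapDerivedCategory.map ((endD α).app M) = (endD β).app (F.mapDerivedCategory.obj M) := by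
  suffices h' : ∀ K : CochainComplex A ℤ, F.mapDerivedCategory.map ((endD α).app (Q.obj K)) =
      (endD β).app (F.mapDerivedCategory.obj (Q.obj K)) by
    let e := Q.objObjPreimageIso M
    have h1 := (endD α).naturality e.hom
    have h2 := (endD β).naturality (F.mapDerivedCategory.map e.hom)
    dsimp only [Functor.id_map] at h1 h2
    rw [← cancel_epi (F.mapDerivedCategory.map e.hom), ← Functor.map_comp, h1, Functor.map_comp, h']
    exact h2.symm
  intro K
  have h1 := (endD β).naturality (F.mapDerivedCategoryFactors.hom.app K)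
  dsimp only [Functor.id_map] at h1
  have h2 := F.mapDerivedCategoryFactors.hom.naturality (endCx α K)
  dsimp only [Functor.comp_map] at h2
  have h3 : (F.mapHomologicalComplex (ComplexShape.up ℤ)).map (endCx α K) = endCx β _ := by
    ext i
    exact h _
  rw [endD_Q, ← cancel_mono (F.mapDerivedCategoryFactors.hom.app K), h2, h3, ← endD_Q]
  exact h1

end abs

attribute [local instance] HasDerivedCategory.standard

open K645.Ex K645.Lam K645.TE K645.Zar K645.Mul K645.LocBase K646.EtSite K290.DIdem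
  Groth.Agent.PerfA.ExactD

variable {S : Scheme.{u}} {X : AlgSp.Sp S} {V : AlgSp.EtOver X}

/-- Multiplication by `f` on modules. -/
noncomputable def mulB (f : B V) : 𝟭 (ModuleCat.{u + 1} (B V)) ⟶ 𝟭 (ModuleCat.{u + 1} (B V)) where
  app N := ModuleCat.ofHom (LinearMap.lsmul (B V) N f)
  naturality N N' g := by
    ext x
    exact (map_smul g.hom f x).symm

theorem fr_one (f : B V) : fr f (Over.mk (𝟙 V)) = f := by
  have h : (Over.mkIdTerminal (X := V)).from (Over.mk (𝟙 V)) = 𝟙 _ := Over.mkIdTerminal.hom_ext _ _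
  rw [fr, h, op_id, CategoryTheory.Functor.map_id]
  rfl

theorem tE_mulB (f : B V) (N : ModuleCat.{u + 1} (B V)) :
    (tE V).map ((mulB f).app N) = (mu f).app ((tE V).obj N) := by
  apply K645.Tilde.tl_hom_ext (R := AlgSp.OEtOn V) Over.mkIdTerminal
  intro n
  have h1 := K645.Tilde.ev_tlF_map (R := AlgSp.OEtOn V) Over.mkIdTerminal ((mulB f).app N) n
  refine h1.trans ?_
  have h2 : K645.Tilde.ev ((mu f).app ((tE V).obj N)) (Over.mk (𝟙 V))
      (K645.Tilde.eta (R := AlgSp.OEtOn V) Over.mkIdTerminal N n) =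
      fr f (Over.mk (𝟙 V)) • K645.Tilde.eta (R := AlgSp.OEtOn V) Over.mkIdTerminal N n := rfl
  refine Eq.trans ?_ h2.symm
  rw [fr_one]
  exact (K645.Tilde.eta (R := AlgSp.OEtOn V) Over.mkIdTerminal N).map_smul f n

theorem lam_mu (f : B V) (U : Opn (Over V)) (M : AlgSp.ModEtOn V) :
    (lam U (AlgSp.OEtOn V)).map ((mu f).app M) = (mu f).app ((lam U (AlgSp.OEtOn V)).obj M) := by
  rw [← cancel_mono (inc U M)]
  refine (lam_map_inc U _).trans ?_
  exact (mu f).naturality (inc U M)

/-- A function with basic open everything is invertible. -/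
theorem isUnit_of_top {Z : Scheme.{u}} (g : Γ(Z, ⊤)) (h : Z.basicOpen g = ⊤) : IsUnit g := by
  have h1 := RingedSpace.isUnit_res_basicOpen Z.toRingedSpace g
  let i : Z.basicOpen g ⟶ ⊤ := homOfLE (Z.basicOpen_le g)
  have h2 : IsIso i := ⟨homOfLE h.ge, Subsingleton.elim _ _, Subsingleton.elim _ _⟩
  have h3 : IsIso (Z.presheaf.map i.op) := inferInstance
  let e : Γ(Z, ⊤) ≃+* Γ(Z, Z.basicOpen g) := (asIso (Z.presheaf.map i.op)).commRingCatIsoToRingEquiv
  exact (MulEquiv.isUnit_map e).1 h1

theorem isUnit_fr (f : B V) {E : Over V} (hE : (oo V (Df f)).mem E) : IsUnit (fr f E) := by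
  have h1 : Over.mkIdTerminal.from E = Over.homMk (U := E) (V := Over.mk (𝟙 V)) E.hom
      (Category.comp_id _) := Over.mkIdTerminal.hom_ext _ _
  have h2 : fr f E = ULift.up ((mor E.hom).appTop.hom f.down) := by
    rw [fr, h1]
    rfl
  rw [h2]
  have h3 : IsUnit ((mor E.hom).appTop.hom f.down) := by
    have h4 : (mor E.hom) ⁻¹ᵁ (Df f) = ⊤ := by
      refine eq_top_iff.2 fun x _ => ?_
      exact hE ⟨x, rfl⟩
    have h5 : (sch E.left).basicOpen ((mor E.hom).appTop.hom f.down) = ⊤ := by
      exact (Scheme.preimage_basicOpen_top (mor E.hom) f.down).symm.trans h4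
    exact isUnit_of_top _ h5
  exact h3.map (ULift.ringEquiv (R := Γ(sch E.left, ⊤))).symm

theorem isIso_mu_Df (f : B V) (M : AlgSp.ModEtOn V) :
    IsIso ((mu f).app ((lam (oo V (Df f)) (AlgSp.OEtOn V)).obj M)) := by
  have key : ∀ (E : Over V) (_ : (oo V (Df f)).mem E) (N : AlgSp.ModEtOn V) (y : N.val.obj (op E)),
      ∃ x : N.val.obj (op E), fr f E • x = y := by
    intro E hE N y
    obtain ⟨u, hu⟩ := isUnit_fr f hE
    refine ⟨(↑u⁻¹ : (AlgSp.OEtOn V).obj.obj (op E)) • y, ?_⟩
    rw [smul_smul, ← hu, Units.mul_inv, one_smul]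
  have key' : ∀ (E : Over V) (_ : (oo V (Df f)).mem E) (N : AlgSp.ModEtOn V) (y : N.val.obj (op E)),
      fr f E • y = 0 → y = 0 := by
    intro E hE N y h
    obtain ⟨u, hu⟩ := isUnit_fr f hE
    have h1 : (↑u⁻¹ : (AlgSp.OEtOn V).obj.obj (op E)) • fr f E • y =
      (↑u⁻¹ : (AlgSp.OEtOn V).obj.obj (op E)) • (0 : N.val.obj (op E)) := by rw [h]
    rw [smul_smul, ← hu, Units.inv_mul, one_smul, smul_zero] at h1
    exact h1
  let L := (lam (oo V (Df f)) (AlgSp.OEtOn V)).obj M
  let I : L ⟶ M := inc (oo V (Df f)) M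
  let m : L ⟶ L := (mu f).app L
  change IsIso m
  refine isIso_of_local m (fun E x hx => ?_) (fun E y => ?_)
  · obtain ⟨T, hT, h⟩ := ap_inc_mem (oo V (Df f)) M E x
    refine section_ext L T hT _ _ fun E' e he => ?_
    rw [map_zero]
    rcases h e he with h1 | h1
    · refine key' E' h1 _ _ ?_
      have h2 : ap m E' (res L e x) = 0 :=
        (ap_res m e x).trans ((congrArg (res L e) hx).trans (map_zero _))
      exact h2
    · apply ap_inc_injective (oo V (Df f)) M E'
      rw [map_zero]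
      exact (ap_res I e x).trans h1
  · obtain ⟨T, hT, h⟩ := ap_inc_mem (oo V (Df f)) M E y
    refine ⟨T, hT, fun E' e he => ?_⟩
    rcases h e he with h1 | h1
    · exact key E' h1 L _
    · refine ⟨0, ?_⟩
      rw [map_zero]
      symm
      apply ap_inc_injective (oo V (Df f)) M E'
      rw [map_zero]
      exact (ap_res I e y).trans h1

/-- Multiplication by `f` is invertible on objects supported on `D(f)`. -/
theorem isIso_endD_mu (f : B V) (K : DR (AlgSp.OEtOn V)) :
    IsIso ((endD (mu f)).app ((lD (oo V (Df f)) (AlgSp.OEtOn V)).obj K)) := by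
  rw [DerivedCategory.isIso_iff]
  intro n
  rw [homology_endD]
  exact (NatTrans.isIso_app_iff_of_iso (mu f)
    ((mapHomology (lam (oo V (Df f)) (AlgSp.OEtOn V)) n).app K)).2 (isIso_mu_Df f _)

theorem TD_endD (f : B V) (M : DerivedCategory (ModuleCat.{u + 1} (B V)))
    [PreservesFiniteLimits (tE V)] [PreservesFiniteColimits (tE V)] :
    (tE V).mapDerivedCategory.map ((endD (mulB f)).app M) =
      (endD (mu f)).app ((tE V).mapDerivedCategory.obj M) :=
  map_endD (tE_mulB f) M

theorem lD_endD (f : B V) (U : Opn (Over V)) (K : DR (AlgSp.OEtOn V)) :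
    (lD U (AlgSp.OEtOn V)).map ((endD (mu f)).app K) =
      (endD (mu f)).app ((lD U (AlgSp.OEtOn V)).obj K) :=
  map_endD (lam_mu f U) K

end K645.MulD
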