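import Groth.Agent.AlgSp.K645.PsiIso
import Groth.Agent.AlgSp.K645.MulD

/-!
# The counit `j_! j^* (RΓ(W, Y))~ ⟶ Y` is an isomorphism over `W`
-/

set_option autoImplicit false
set_option linter.unusedSectionVars false

universe u

open CategoryTheory CategoryTheory.Limits AlgebraicGeometry Opposite

attribute [local instance] HasDerivedCategory.standard

namespace K645.PsiMain

open K645.Ex K645.Lam K645.Shriek K645.Square K645.IsO K646.EtSite K290.DIdem K645.Zar K645.TE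
  K645.Loc4 K645.LocBase K645.Mul K645.Int K645.Good Groth.Agent.PerfA.ExactD K290.Thick K290.DId
  K645.LocO K645.Psi K645.PsiAlg K645.PsiIso K645.MulD

theorem bij_pre {C : Type*} [Category C] {P P' A A' : C} {c : A ⟶ A'} (e : P ≅ P')
    (h : Function.Bijective (fun β : P' ⟶ A => β ≫ c)) : Function.Bijective (fun β : P ⟶ A => β ≫ c) := by
  constructor
  · intro β β' h'
    have h5 : e.inv ≫ β = e.inv ≫ β' := h.1 (by
      dsimp only at h' ⊢
      rw [Category.assoc, Category.assoc, h'])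
    exact (cancel_epi e.inv).1 h5
  · intro γ
    obtain ⟨β, hβ⟩ := h.2 (e.inv ≫ γ)
    refine ⟨e.hom ≫ β, ?_⟩
    dsimp only at hβ ⊢
    rw [Category.assoc, hβ, Iso.hom_inv_id_assoc]

variable {S : Scheme.{u}} {X : AlgSp.Sp S} {V : AlgSp.EtOver X} [hV : IsAffine V.obj.left.left]

/-- The structure sheaf, placed in degree `m`. -/
noncomputable abbrev oS (V : AlgSp.EtOver X) (m : ℤ) : DCoh.DMod (AlgSp.OEtOn V) :=
  (DerivedCategory.singleFunctor _ m).obj (SheafOfModules.unit (AlgSp.OEtOn V))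

/-- The ring, placed in degree `m`. -/
noncomputable abbrev bS (V : AlgSp.EtOver X) (m : ℤ) : Dual.D (B V) :=
  (DerivedCategory.singleFunctor _ m).obj (ModuleCat.of (B V) (B V))

theorem nonempty_TD_bS (m : ℤ) : Nonempty (oS V m ≅ (TD V).obj (bS V m)) := by
  obtain ⟨e⟩ := (cor_tE V).iso (cor_unit (R := AlgSp.OEtOn V) Over.mkIdTerminal)
  exact ⟨(DerivedCategory.singleFunctor _ m).mapIso e.symm ≪≫
    (((tE V).mapDerivedCategorySingleFunctor m).app (ModuleCat.of (B V) (B V))).symm⟩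

theorem nonempty_shift (F : DCoh.DMod (AlgSp.OEtOn V) ⥤ DCoh.DMod (AlgSp.OEtOn V)) [F.CommShift ℤ] (m : ℤ) :
    Nonempty ((F.obj (oS V 0))⟦-m⟧ ≅ F.obj ((TD V).obj (bS V m))) := by
  obtain ⟨e⟩ := nonempty_TD_bS (V := V) m
  exact ⟨((F.commShiftIso (-m)).app _).symm ≪≫ F.mapIso
    (((DerivedCategory.singleFunctors _).shiftIso (-m) m 0 (by lia)).app _ ≪≫ e)⟩

theorem nonempty_lD_lD (f : B V) (W : (sch V).Opens) (m : ℤ) :
    Nonempty ((DerivedCategory.singleFunctor _ m).obj (AO V (W ⊓ Df f)) ≅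
      (lD (oo V (Df f)) (AlgSp.OEtOn V)).obj ((lD (oo V W) (AlgSp.OEtOn V)).obj ((TD V).obj (bS V m)))) := by
  obtain ⟨e⟩ := nonempty_TD_bS (V := V) m
  obtain ⟨i⟩ := nonempty_lD_single f W m
  exact ⟨i ≪≫ (lD (oo V (Df f)) (AlgSp.OEtOn V)).mapIso
    ((((lam (oo V W) (AlgSp.OEtOn V)).mapDerivedCategorySingleFunctor m).app
      (SheafOfModules.unit (AlgSp.OEtOn V))).symm ≪≫ (lD (oo V W) (AlgSp.OEtOn V)).mapIso e)⟩

theorem p2_unit (f : B V) {Y : DCoh.DMod (AlgSp.OEtOn V)} (hY : GoodOn Y ⊤) (m : ℤ) :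
    P2 (lD (oo V (Df f)) (AlgSp.OEtOn V)) (iD (oo V (Df f)) (AlgSp.OEtOn V)) ((endD (mu f)).app Y)
      ((TD V).obj (bS V m)) := by
  have hV' : IsAffine (sch V) := hV
  have h1 := loc_AO hY f (W := ⊤) (isAffineOpen_top (sch V)) (by
    rw [top_inf_eq]
    exact (isAffineOpen_top (sch V)).basicOpen _) le_rfl
  have h2 : IsIso (inc (oo V ⊤) (SheafOfModules.unit (AlgSp.OEtOn V))) :=
    isIso_inc_of_cor (E := Over.mk (𝟙 V)) (Set.subset_univ _) (cor_unit (R := AlgSp.OEtOn V) Over.mkIdTerminal)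
  let e : AO V ⊤ ≅ SheafOfModules.unit (AlgSp.OEtOn V) := asIso (inc (oo V ⊤) (SheafOfModules.unit (AlgSp.OEtOn V)))
  obtain ⟨i⟩ := nonempty_shift (V := V) (𝟭 _) m
  exact (h1 (-m)).2.of_iso (((shiftFunctor _ (-m)).mapIso
    ((DerivedCategory.singleFunctor _ 0).mapIso e)) ≪≫ i)

theorem goodOn_lD {W : (sch V).Opens} (M : Dual.D (B V)) :
    GoodOn ((lD (oo V W) (AlgSp.OEtOn V)).obj ((TD V).obj M)) W :=
  goodOn_of_isIso ((iD (oo V W) (AlgSp.OEtOn V)).app ((TD V).obj M)) (isIso_lD_map_iD_self _)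
    (goodOn_qc (isQCoh_TD V M) W)

variable {l : List Γ(sch V, ⊤)} {Y : DCoh.DMod (AlgSp.OEtOn V)} (hY : GoodOn Y (OL l))
  {M : Dual.D (B V)} {c : (lD (oo V (OL l)) (AlgSp.OEtOn V)).obj ((TD V).obj M) ⟶ Y}
  (hc : ∀ N : Dual.D (B V), Function.Bijective
    (fun ψ : N ⟶ M => (lD (oo V (OL l)) (AlgSp.OEtOn V)).map ((TD V).map ψ) ≫ c))

include hY hc

theorem bijective_Df (f : B V) (hf : Df f ≤ OL l) (m : ℤ) :
    Function.Bijective (fun β : (lD (oo V (Df f)) (AlgSp.OEtOn V)).obj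
      ((lD (oo V (OL l)) (AlgSp.OEtOn V)).obj ((TD V).obj (bS V m))) ⟶
        (lD (oo V (OL l)) (AlgSp.OEtOn V)).obj ((TD V).obj M) => β ≫ c) := by
  obtain ⟨i⟩ := nonempty_shift (V := V) (lD (oo V (OL l)) (AlgSp.OEtOn V)) m
  have hl := loc_OL hY f l le_rfl (-m)
  exact PsiAlg.bijective_comp (lD (oo V (Df f)) (AlgSp.OEtOn V)) (lD (oo V (OL l)) (AlgSp.OEtOn V))
    (iD (oo V (Df f)) (AlgSp.OEtOn V)) (iD (oo V (OL l)) (AlgSp.OEtOn V)) (TD V) (endD (mu f))
    (endD (mulB f)) (N := bS V m) c (fun X => TD_endD f X) (lD_endD f _) (hc _) (hl.1.of_iso i) (hl.2.of_iso i)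
    (p2_unit f (goodOn_qc (isQCoh_TD V M) ⊤) m) (bijective_TD V _ _).2
    (isIso_lD_map_iD (le_oo V hf) _)
    (fun β hβ => (bijective_comp_of_supp ((iD (oo V (OL l)) (AlgSp.OEtOn V)).app ((TD V).obj M))
      (isIso_lD_map_iD_self _) (isIso_iD_lD (le_oo V hf) _)).1 (hβ.trans zero_comp.symm))
    (isIso_endD_mu f _)

theorem bijective_P (f : B V) (hf : Df f ≤ OL l) (m : ℤ) :
    Function.Bijective (fun β : (DerivedCategory.singleFunctor _ m).obj (AO V (Df f)) ⟶
      (lD (oo V (OL l)) (AlgSp.OEtOn V)).obj ((TD V).obj M) => β ≫ c) := by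
  obtain ⟨i⟩ : Nonempty ((DerivedCategory.singleFunctor _ m).obj (AO V (Df f)) ≅
      (lD (oo V (Df f)) (AlgSp.OEtOn V)).obj ((lD (oo V (OL l)) (AlgSp.OEtOn V)).obj
        ((TD V).obj (bS V m)))) := by
    have h := nonempty_lD_lD f (OL l) m
    rwa [inf_eq_right.2 hf] at h
  exact bij_pre i (bijective_Df hY hc f hf m)

theorem bijective_ap_Df (f : B V) (hf : Df f ≤ OL l) (m : ℤ) :
    Function.Bijective (ap ((DerivedCategory.homologyFunctor _ m).map c) (xo V (Df f))) := by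
  have hV' : IsAffine (sch V) := hV
  have hA := cor_AO V (Df f)
  have hA' : Cor (xo V (Df f)) ((DerivedCategory.homologyFunctor _ m).obj
      ((DerivedCategory.singleFunctor _ m).obj (AO V (Df f)))) :=
    hA.of_iso ((DerivedCategory.singleFunctorCompHomologyFunctorIso _ m).app _).symm
  have haff : IsAffine (sch (xo V (Df f)).left) := (isAffineOpen_top (sch V)).basicOpen f.down
  have hmem : (oo V (OL l)).mem (xo V (Df f)) := (mem_xo V (Df f)).trans hf
  have h1 := (goodOn_lD (W := OL l) M).bij (xo V (Df f)) haff hmem (AO V (Df f)) hA m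
  have h2 := hY.bij (xo V (Df f)) haff hmem (AO V (Df f)) hA m
  have h4 := h2.comp (bijective_P hY hc f hf m)
  have h5 : (fun φ : (DerivedCategory.singleFunctor _ m).obj (AO V (Df f)) ⟶ Y =>
      (DerivedCategory.homologyFunctor _ m).map φ) ∘ (fun φ => φ ≫ c) =
      (fun ψ => ψ ≫ (DerivedCategory.homologyFunctor _ m).map c) ∘
      (fun φ : (DerivedCategory.singleFunctor _ m).obj (AO V (Df f)) ⟶
        (lD (oo V (OL l)) (AlgSp.OEtOn V)).obj ((TD V).obj M) =>
        (DerivedCategory.homologyFunctor _ m).map φ) := by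
    funext φ
    exact Functor.map_comp _ _ _
  rw [h5] at h4
  exact bijective_ap_of_cor _ hA' ((Function.Bijective.of_comp_iff _ h1).1 h4)

/-- The counit is an isomorphism over the open. -/
theorem isIso_lD_map : IsIso ((lD (oo V (OL l)) (AlgSp.OEtOn V)).map c) := by
  have hV' : IsAffine (sch V) := hV
  rw [isIso_map_iff]
  intro m
  have hle : ∀ f ∈ l, (sch V).basicOpen f ≤ OL l := fun f hf x hx => (mem_OL l x).2 ⟨f, hf, hx⟩
  have haff : ∀ f : Γ(sch V, ⊤), IsAffine (sch (xo V ((sch V).basicOpen f)).left) := fun f =>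
    (isAffineOpen_top (sch V)).basicOpen f
  have hmem : ∀ f ∈ l, (oo V (OL l)).mem (xo V ((sch V).basicOpen f)) := fun f hf =>
    (mem_xo V _).trans (hle f hf)
  exact isIso_lam_OL _ l
    (fun f hf => (goodOn_lD (W := OL l) M).cart _ (haff f) (hmem f hf) m)
    (fun f hf => hY.cart _ (haff f) (hmem f hf) m)
    (fun f hf => bijective_ap_Df hY hc (ULift.up f) (hle f hf) m)

end K645.PsiMain
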