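import Mathlib.Algebra.Category.ModuleCat.Sheaf.Abelian
import Mathlib.Algebra.Category.ModuleCat.Sheaf.Limits
import Mathlib.Algebra.Category.ModuleCat.Sheaf.Colimits
import Mathlib.Algebra.Homology.ShortComplex.ShortExact
import Mathlib.Algebra.Homology.ShortComplex.Ab
import Mathlib.CategoryTheory.Sites.LocallySurjective
import Mathlib.CategoryTheory.Sites.EpiMono
import Mathlib.CategoryTheory.Sites.Abelian
import Mathlib.CategoryTheory.Abelian.Exact
import Mathlib.Algebra.Category.ModuleCat.Presheaf.Colimits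
import Mathlib.Algebra.Category.Grp.FilteredColimits

/-!
# Exactness of sequences of sheaves of modules, elementwise
-/

set_option autoImplicit false
set_option linter.unusedSectionVars false
universe w v u

open CategoryTheory CategoryTheory.Limits Opposite

namespace K645.Ex

variable {C : Type u} [Category.{v} C] {J : GrothendieckTopology C} {R : Sheaf J RingCat.{w}}

section

variable {M N : SheafOfModules.{w} R}

/-- Restriction of sections of a sheaf of modules. -/
noncomputable abbrev res (M : SheafOfModules.{w} R) {E E' : C} (g : E' ⟶ E) :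
    M.val.obj (op E) →ₛₗ[(R.obj.map g.op).hom] M.val.obj (op E') := M.val.restrictₛₗ g.op

/-- A morphism on sections. -/
noncomputable abbrev ap (f : M ⟶ N) (E : C) : M.val.obj (op E) →ₗ[R.obj.obj (op E)] N.val.obj (op E) :=
  (f.val.app (op E)).hom

lemma res_comp (M : SheafOfModules.{w} R) {E E' E'' : C} (g : E' ⟶ E) (h : E'' ⟶ E')
    (x : M.val.obj (op E)) : res M (h ≫ g) x = res M h (res M g x) :=
  PresheafOfModules.map_comp_apply M.val g.op h.op x

lemma res_id (M : SheafOfModules.{w} R) {E : C} (x : M.val.obj (op E)) : res M (𝟙 E) x = x := by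
  have := PresheafOfModules.congr_map_apply M.val (op_id (X := E)).symm x
  change M.val.map (𝟙 (op E)) x = x
  rw [M.val.map_id]
  rfl

lemma ap_res (f : M ⟶ N) {E E' : C} (g : E' ⟶ E) (x : M.val.obj (op E)) :
    ap f E' (res M g x) = res N g (ap f E x) :=
  PresheafOfModules.naturality_apply f.val g.op x

@[simp] lemma ap_id (M : SheafOfModules.{w} R) (E : C) (x : M.val.obj (op E)) : ap (𝟙 M) E x = x := rfl

@[simp] lemma ap_comp {P : SheafOfModules.{w} R} (f : M ⟶ N) (g : N ⟶ P) (E : C) (x : M.val.obj (op E)) :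
    ap (f ≫ g) E x = ap g E (ap f E x) := rfl

@[simp] lemma ap_add (f g : M ⟶ N) (E : C) (x : M.val.obj (op E)) : ap (f + g) E x = ap f E x + ap g E x := rfl

@[simp] lemma ap_neg (f : M ⟶ N) (E : C) (x : M.val.obj (op E)) : ap (-f) E x = -ap f E x := rfl

@[simp] lemma ap_zero (E : C) (x : M.val.obj (op E)) : ap (0 : M ⟶ N) E x = 0 := rfl

lemma hom_ext {f g : M ⟶ N} (h : ∀ (E : C) (x : M.val.obj (op E)), ap f E x = ap g E x) : f = g := by
  apply SheafOfModules.hom_ext
  apply PresheafOfModules.hom_ext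
  rintro ⟨E⟩
  ext x
  exact h E x

/-- Two sections agreeing on a covering sieve are equal. -/
lemma section_ext (M : SheafOfModules.{w} R) {E : C} (T : Sieve E) (hT : T ∈ J E)
    (x y : M.val.obj (op E)) (h : ∀ ⦃E' : C⦄ (g : E' ⟶ E), T g → res M g x = res M g y) : x = y :=
  M.isSheaf.isSeparated E T hT x y (fun _ g hg => h g hg)

lemma hom_ext_of_cover {f g : M ⟶ N}
    (h : ∀ (E : C) (x : M.val.obj (op E)), ∃ T ∈ J E, ∀ ⦃E' : C⦄ (e : E' ⟶ E), T e →
      ap f E' (res M e x) = ap g E' (res M e x)) : f = g := by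
  refine hom_ext fun E x => ?_
  obtain ⟨T, hT, h'⟩ := h E x
  refine section_ext N T hT _ _ fun E' e he => ?_
  rw [← ap_res, ← ap_res, h' e he]

lemma mono_of_injective (f : M ⟶ N) (h : ∀ (E : C) (x : M.val.obj (op E)), ap f E x = 0 → x = 0) :
    Mono f := by
  constructor
  intro P g g' hg
  refine hom_ext fun E x => ?_
  have h1 : ap (g ≫ f) E x = ap (g' ≫ f) E x := by rw [hg]
  have h2 : ap f E (ap g E x - ap g' E x) = 0 := by
    rw [map_sub, ← ap_comp, ← ap_comp, h1, sub_self]
  exact sub_eq_zero.1 (h E _ h2)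

lemma epi_of_locSurj (f : M ⟶ N)
    (h : ∀ (E : C) (y : N.val.obj (op E)), ∃ T ∈ J E, ∀ ⦃E' : C⦄ (e : E' ⟶ E), T e →
      ∃ x, ap f E' x = res N e y) : Epi f := by
  constructor
  intro P g g' hg
  refine hom_ext_of_cover fun E y => ?_
  obtain ⟨T, hT, h'⟩ := h E y
  refine ⟨T, hT, fun E' e he => ?_⟩
  obtain ⟨x, hx⟩ := h' e he
  rw [← hx, ← ap_comp, ← ap_comp, hg]

end

section

variable [HasSheafify J AddCommGrpCat.{w}] [J.WEqualsLocallyBijective AddCommGrpCat.{w}]

/-- `toSheaf` preserves finite colimits. -/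
theorem toSheaf_preservesFiniteColimits (R : Sheaf J RingCat.{w}) :
    PreservesFiniteColimits (SheafOfModules.toSheaf.{w} R) where
  preservesFiniteColimits K _ _ := by
    have : PreservesColimitsOfShape K (presheafToSheaf J AddCommGrpCat.{w}) :=
      (CategoryTheory.sheafificationAdjunction J
        AddCommGrpCat.{w}).leftAdjoint_preservesColimits.preservesColimitsOfShape
    have : PreservesColimitsOfShape K
        (PresheafOfModules.sheafification.{w} (𝟙 R.obj) ⋙ SheafOfModules.toSheaf.{w} R) :=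
      inferInstanceAs (PreservesColimitsOfShape K
        (PresheafOfModules.toPresheaf _ ⋙ presheafToSheaf J AddCommGrpCat.{w}))
    let adj := PresheafOfModules.sheafificationAdjunction.{w} (𝟙 R.obj)
    refine ⟨fun {F} => ?_⟩
    have : PreservesColimitsOfShape K (PresheafOfModules.sheafification.{w} (𝟙 R.obj)) :=
      adj.leftAdjoint_preservesColimits.preservesColimitsOfShape
    let G := SheafOfModules.forget R ⋙ PresheafOfModules.restrictScalars (𝟙 R.obj)
    let e : (F ⋙ G) ⋙ PresheafOfModules.sheafification.{w} (𝟙 R.obj) ≅ F :=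
      Functor.associator _ _ _ ≪≫ Functor.isoWhiskerLeft F (asIso adj.counit) ≪≫ F.rightUnitor
    have : PreservesColimit ((F ⋙ G) ⋙ PresheafOfModules.sheafification.{w} (𝟙 R.obj))
        (SheafOfModules.toSheaf.{w} R) := by
      refine preservesColimit_of_preserves_colimit_cocone
        (isColimitOfPreserves _ (colimit.isColimit (F ⋙ G))) ?_
      exact isColimitOfPreserves (PresheafOfModules.sheafification.{w} (𝟙 R.obj) ⋙
        SheafOfModules.toSheaf.{w} R) (colimit.isColimit (F ⋙ G))
    exact preservesColimit_of_iso_diagram _ e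

variable {M N : SheafOfModules.{w} R}

lemma locSurj_of_epi (f : M ⟶ N) [Epi f] (E : C) (y : N.val.obj (op E)) :
    ∃ T ∈ J E, ∀ ⦃E' : C⦄ (e : E' ⟶ E), T e → ∃ x, ap f E' x = res N e y := by
  have := toSheaf_preservesFiniteColimits R
  have h1 : Epi ((SheafOfModules.toSheaf R).map f) := inferInstance
  have h2 := (Sheaf.isLocallySurjective_iff_epi' AddCommGrpCat ((SheafOfModules.toSheaf R).map f)).2 h1
  refine ⟨_, Presheaf.imageSieve_mem J ((SheafOfModules.toSheaf R).map f).hom (U := op E) y, ?_⟩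
  rintro E' e ⟨x, hx⟩
  exact ⟨x, hx⟩

lemma injective_of_mono (f : M ⟶ N) [Mono f] (E : C) : Function.Injective (ap f E) := by
  have h1 : Mono ((SheafOfModules.toSheaf R).map f) := inferInstance
  have h2 : Mono ((sheafToPresheaf J AddCommGrpCat.{w} ⋙
      (evaluation Cᵒᵖ AddCommGrpCat.{w}).obj (op E)).map ((SheafOfModules.toSheaf R).map f)) := inferInstance
  exact (AddCommGrpCat.mono_iff_injective _).1 h2

/-- Exactness, elementwise. -/
theorem exact_of_local (S : ShortComplex (SheafOfModules.{w} R))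
    (h : ∀ (E : C) (y : S.X₂.val.obj (op E)), ap S.g E y = 0 →
      ∃ T ∈ J E, ∀ ⦃E' : C⦄ (e : E' ⟶ E), T e → ∃ x, ap S.f E' x = res S.X₂ e y) : S.Exact := by
  rw [ShortComplex.exact_iff_epi_kernel_lift]
  refine epi_of_locSurj _ fun E z => ?_
  have h0 : ap S.g E (ap (kernel.ι S.g) E z) = 0 := by
    rw [← ap_comp, kernel.condition, ap_zero]
  obtain ⟨T, hT, h'⟩ := h E _ h0
  refine ⟨T, hT, fun E' e he => ?_⟩
  obtain ⟨x, hx⟩ := h' e he
  refine ⟨x, injective_of_mono (kernel.ι S.g) E' ?_⟩
  rw [← ap_comp, kernel.lift_ι, hx, ap_res]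

/-- Sections of the kernel. -/
theorem local_of_exact (S : ShortComplex (SheafOfModules.{w} R)) (hS : S.Exact) (E : C)
    (y : S.X₂.val.obj (op E)) (hy : ap S.g E y = 0) :
    ∃ T ∈ J E, ∀ ⦃E' : C⦄ (e : E' ⟶ E), T e → ∃ x, ap S.f E' x = res S.X₂ e y := by
  have := toSheaf_preservesFiniteColimits R
  have h1 : (S.map (SheafOfModules.toSheaf R)).Exact := hS.map _
  rw [ShortComplex.exact_iff_epi_kernel_lift, ← Sheaf.isLocallySurjective_iff_epi'] at h1
  let k := kernel.ι (S.map (SheafOfModules.toSheaf R)).g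
  have h2 : ((ShortComplex.mk k (S.map (SheafOfModules.toSheaf R)).g (kernel.condition _)).map
      (sheafToPresheaf J AddCommGrpCat.{w} ⋙
      (evaluation Cᵒᵖ AddCommGrpCat.{w}).obj (op E))).Exact :=
    (ShortComplex.exact_kernel (S.map (SheafOfModules.toSheaf R)).g).map_of_mono_of_preservesKernel _
      inferInstance inferInstance
  rw [ShortComplex.ab_exact_iff] at h2
  obtain ⟨z, hz⟩ := h2 y hy
  refine ⟨_, Presheaf.imageSieve_mem J (kernel.lift (S.map (SheafOfModules.toSheaf R)).g
    (S.map (SheafOfModules.toSheaf R)).f (S.map (SheafOfModules.toSheaf R)).zero).hom (U := op E) z, ?_⟩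
  rintro E' e ⟨x, hx⟩
  refine ⟨x, ?_⟩
  have h3 : kernel.lift (S.map (SheafOfModules.toSheaf R)).g
    (S.map (SheafOfModules.toSheaf R)).f (S.map (SheafOfModules.toSheaf R)).zero ≫ k =
      (S.map (SheafOfModules.toSheaf R)).f := kernel.lift_ι _ _ _
  have h4 := ConcreteCategory.congr_hom (congr_app (congrArg (fun t => t.hom) h3) (op E')) x
  have h5 : k.hom.app (op E') ((kernel.lift (S.map (SheafOfModules.toSheaf R)).g
    (S.map (SheafOfModules.toSheaf R)).f (S.map (SheafOfModules.toSheaf R)).zero).hom.app (op E') x) = ap S.f E' x := h4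
  rw [← h5]
  have h6 := ConcreteCategory.congr_hom (k.hom.naturality e.op) z
  refine (congrArg (k.hom.app (op E')) hx).trans ?_
  refine h6.trans ?_
  exact congrArg (fun t => res S.X₂ e t) hz

/-- If `f` is mono and `S` is exact then sections in the kernel of `g` lift uniquely. -/
theorem exists_of_exact (S : ShortComplex (SheafOfModules.{w} R)) (hS : S.Exact) [Mono S.f] (E : C)
    (y : S.X₂.val.obj (op E)) (hy : ap S.g E y = 0) : ∃ x, ap S.f E x = y := by
  have h2 : ((S.map (SheafOfModules.toSheaf R)).map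
      (sheafToPresheaf J AddCommGrpCat.{w} ⋙
      (evaluation Cᵒᵖ AddCommGrpCat.{w}).obj (op E))).Exact := by
    have := toSheaf_preservesFiniteColimits R
    have h1 : (S.map (SheafOfModules.toSheaf R)).Exact := hS.map _
    have h3 : Mono (S.map (SheafOfModules.toSheaf R)).f :=
      inferInstanceAs (Mono ((SheafOfModules.toSheaf R).map S.f))
    exact h1.map_of_mono_of_preservesKernel _ inferInstance inferInstance
  rw [ShortComplex.ab_exact_iff] at h2
  exact h2 y hy

/-- Short exactness, elementwise. -/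
theorem shortExact_of_local (S : ShortComplex (SheafOfModules.{w} R))
    (h1 : ∀ (E : C) (x : S.X₁.val.obj (op E)), ap S.f E x = 0 → x = 0)
    (h2 : ∀ (E : C) (y : S.X₂.val.obj (op E)), ap S.g E y = 0 →
      ∃ T ∈ J E, ∀ ⦃E' : C⦄ (e : E' ⟶ E), T e → ∃ x, ap S.f E' x = res S.X₂ e y)
    (h3 : ∀ (E : C) (y : S.X₃.val.obj (op E)), ∃ T ∈ J E, ∀ ⦃E' : C⦄ (e : E' ⟶ E), T e →
      ∃ x, ap S.g E' x = res S.X₃ e y) : S.ShortExact where
  exact := exact_of_local S h2
  mono_f := mono_of_injective _ h1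
  epi_g := epi_of_locSurj _ h3

theorem isIso_of_local (f : M ⟶ N)
    (h1 : ∀ (E : C) (x : M.val.obj (op E)), ap f E x = 0 → x = 0)
    (h3 : ∀ (E : C) (y : N.val.obj (op E)), ∃ T ∈ J E, ∀ ⦃E' : C⦄ (e : E' ⟶ E), T e →
      ∃ x, ap f E' x = res N e y) : IsIso f := by
  have := mono_of_injective f h1
  have := epi_of_locSurj f h3
  exact isIso_of_mono_of_epi f

end

end K645.Ex
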