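import Mathlib.AlgebraicGeometry.AffineScheme
import Mathlib.Algebra.Module.LocalizedModule.Basic
import Mathlib.RingTheory.Localization.BaseChange
import Groth.Agent.Etbase.FFExact

/-!
# Functions on basic opens, and modules over them
-/

set_option autoImplicit false

universe u

open CategoryTheory CategoryTheory.Limits AlgebraicGeometry Opposite

namespace K645.AwayL

open Groth.Agent.Etbase.FFExact

theorem away_of_range {Y Y' : Scheme.{u}} [IsAffine Y] (j : Y' ⟶ Y) [IsOpenImmersion j] (r : Γ(Y, ⊤))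
    (h : Set.range j = (Y.basicOpen r : Set Y)) :
    @IsLocalization.Away _ _ r Γ(Y', ⊤) _ j.appTop.hom.toAlgebra := by
  have e : j ''ᵁ ⊤ = Y.basicOpen r := by
    rw [Scheme.Hom.image_top_eq_opensRange]
    ext1
    exact h
  let i : j ''ᵁ ⊤ ⟶ (⊤ : Y.Opens) := homOfLE le_top
  have h1 := (isAffineOpen_top Y).isLocalization_of_eq_basicOpen r i e
  have h2 : Y.presheaf.map i.op ≫ (j.appIso ⊤).hom = j.appTop := by
    rw [Scheme.Hom.appIso_hom', Scheme.Hom.map_appLE]
    exact (Scheme.Hom.appLE_eq_app j)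
  let _ : Algebra Γ(Y, ⊤) Γ(Y, j ''ᵁ ⊤) := (Y.presheaf.map i.op).hom.toAlgebra
  let _ : Algebra Γ(Y, ⊤) Γ(Y', ⊤) := j.appTop.hom.toAlgebra
  have : IsLocalization.Away r Γ(Y, j ''ᵁ ⊤) := h1
  refine IsLocalization.isLocalization_of_algEquiv (Submonoid.powers r) (S := Γ(Y, j ''ᵁ ⊤))
    (P := Γ(Y', ⊤)) (AlgEquiv.ofRingEquiv (f := (j.appIso ⊤).commRingCatIsoToRingEquiv) fun x => ?_)
  exact congrArg (fun k => k.hom x) h2

variable {A B : Type*} [CommRing A] [CommRing B] {φ : A →+* B} {M M' : Type*} [AddCommGroup M]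
  [AddCommGroup M'] [Module A M] [Module B M'] {ψ : M →+ M'}

theorem isLocalizedModule_of_isBC (h : IsBC φ ψ) (r : A)
    (hφ : @IsLocalization.Away _ _ r B _ φ.toAlgebra) :
    (∀ x, ψ x = 0 → ∃ k : ℕ, r ^ k • x = 0) ∧ (∀ y, ∃ (k : ℕ) (x : M), φ r ^ k • y = ψ x) := by
  obtain ⟨h1, h2⟩ := h
  let _ : Algebra A B := φ.toAlgebra
  let _ : Module A M' := Module.compHom M' φ
  have : IsScalarTower A B M' := ⟨fun a b m => by
      change (φ a * b) • m = φ a • b • m
      rw [mul_smul]⟩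
  have h3 : IsLocalization (Submonoid.powers r) B := hφ
  let ψ' : M →ₗ[A] M' := { toFun := ψ, map_add' := ψ.map_add, map_smul' := h1 }
  have h4 : IsLocalizedModule (Submonoid.powers r) ψ' :=
    (isLocalizedModule_iff_isBaseChange (Submonoid.powers r) B ψ').2 h2
  constructor
  · intro x hx
    obtain ⟨⟨_, k, rfl⟩, hk⟩ := (IsLocalizedModule.eq_zero_iff (Submonoid.powers r) ψ').1 hx
    exact ⟨k, hk⟩
  · intro y
    obtain ⟨⟨x, ⟨_, k, rfl⟩⟩, hk⟩ := IsLocalizedModule.surj (Submonoid.powers r) ψ' y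
    refine ⟨k, x, ?_⟩
    rw [← map_pow]
    exact hk

end K645.AwayL
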