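import Groth.Agent.PerfA.ExactD
import Groth.Agent.PerfA.MVAbs
import Groth.Agent.PerfC.AdjD

/-!
# Natural transformations of exact functors on derived categories
-/

set_option autoImplicit false

universe w₁ w₂ w₃ v₁ v₂ v₃ u₁ u₂ u₃

open CategoryTheory Limits

namespace K645.DNat

open Groth.Agent.PerfA.ExactD Groth.Agent.PerfA.MVAbs

variable {A : Type u₁} [Category.{v₁} A] [Abelian A] [HasDerivedCategory.{w₁} A]
  {B : Type u₂} [Category.{v₂} B] [Abelian B] [HasDerivedCategory.{w₂} B]
  {C : Type u₃} [Category.{v₃} C] [Abelian C] [HasDerivedCategory.{w₃} C]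

theorem aux {C : Type*} [Category* C] {X Y Z W V : C} (a : X ⟶ Y) (b : Y ⟶ Z) (m : W ≅ Z)
    (d : Z ⟶ V) : (a ≫ b ≫ m.inv) ≫ m.hom ≫ d = a ≫ b ≫ d := by simp

section

variable {F G H : A ⥤ B} [F.Additive] [PreservesFiniteLimits F] [PreservesFiniteColimits F]
  [G.Additive] [PreservesFiniteLimits G] [PreservesFiniteColimits G]
  [H.Additive] [PreservesFiniteLimits H] [PreservesFiniteColimits H]

/-- The natural transformation on derived categories. -/
noncomputable def mapD (α : F ⟶ G) : F.mapDerivedCategory ⟶ G.mapDerivedCategory :=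
  Localization.liftNatTrans DerivedCategory.Q (HomologicalComplex.quasiIso A (ComplexShape.up ℤ))
    (F.mapHomologicalComplex _ ⋙ DerivedCategory.Q)
    (G.mapHomologicalComplex _ ⋙ DerivedCategory.Q) _ _
    (Functor.whiskerRight (NatTrans.mapHomologicalComplex α (ComplexShape.up ℤ)) _)

theorem mapD_app (α : F ⟶ G) (K : CochainComplex A ℤ) :
    (mapD α).app (DerivedCategory.Q.obj K) = F.mapDerivedCategoryFactors.hom.app K ≫
      DerivedCategory.Q.map (mapCx α K) ≫ G.mapDerivedCategoryFactors.inv.app K :=
  Localization.liftNatTrans_app _ _ _ _ _ _ _ _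

theorem mapD_comp (α : F ⟶ G) (β : G ⟶ H) : mapD (α ≫ β) = mapD α ≫ mapD β := by
  ext K
  have h : ∀ K : CochainComplex A ℤ, (mapD (α ≫ β)).app (DerivedCategory.Q.obj K) =
      (mapD α ≫ mapD β).app (DerivedCategory.Q.obj K) := fun K => by
    rw [NatTrans.comp_app, mapD_app, mapD_app, mapD_app]
    simp only [Category.assoc, Iso.inv_hom_id_app_assoc]
    congr 1
    rw [← Functor.map_comp_assoc]
    congr 2
  have e := DerivedCategory.Q.objObjPreimageIso K
  have h1 := h (DerivedCategory.Q.objPreimage K)
  rw [← cancel_epi (F.mapDerivedCategory.map e.hom), NatTrans.naturality, NatTrans.naturality, h1]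

theorem mapD_id : mapD (𝟙 F) = 𝟙 _ := by
  ext K
  have h : ∀ K : CochainComplex A ℤ, (mapD (𝟙 F)).app (DerivedCategory.Q.obj K) = 𝟙 _ := fun K => by
    rw [mapD_app]
    have : mapCx (𝟙 F) K = 𝟙 _ := by
      ext i
      rfl
    rw [this, CategoryTheory.Functor.map_id]
    exact (congrArg _ (Category.id_comp _)).trans (Iso.hom_inv_id_app _ _)
  have e := DerivedCategory.Q.objObjPreimageIso K
  have h1 := h (DerivedCategory.Q.objPreimage K)
  rw [← cancel_epi (F.mapDerivedCategory.map e.hom), NatTrans.naturality, h1]
  simp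

/-- Compatibility with cohomology. -/
theorem mapD_homology (α : F ⟶ G) (K : DerivedCategory A) (n : ℤ) :
    (mapHomology F n).hom.app K ≫ α.app ((DerivedCategory.homologyFunctor A n).obj K) =
      (DerivedCategory.homologyFunctor B n).map ((mapD α).app K) ≫ (mapHomology G n).hom.app K := by
  suffices h : ∀ K : CochainComplex A ℤ, (mapHomology F n).hom.app (DerivedCategory.Q.obj K) ≫
      α.app ((DerivedCategory.homologyFunctor A n).obj (DerivedCategory.Q.obj K)) =
      (DerivedCategory.homologyFunctor B n).map ((mapD α).app (DerivedCategory.Q.obj K)) ≫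
        (mapHomology G n).hom.app (DerivedCategory.Q.obj K) by
    have e := DerivedCategory.Q.objObjPreimageIso K
    have h1 := h (DerivedCategory.Q.objPreimage K)
    rw [← cancel_epi ((DerivedCategory.homologyFunctor B n).map (F.mapDerivedCategory.map e.hom)),
      ← Functor.map_comp_assoc, NatTrans.naturality, Functor.map_comp_assoc]
    have h2 := (mapHomology F n).hom.naturality e.hom
    have h3 := (mapHomology G n).hom.naturality e.hom
    dsimp only [Functor.comp_map] at h2 h3
    rw [reassoc_of% h2, h3, ← reassoc_of% h1]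
    congr 1
    exact α.naturality _
  intro K
  have hF : ∀ (F : A ⥤ B) [F.Additive] [PreservesFiniteLimits F] [PreservesFiniteColimits F],
      (mapHomology F n).hom.app (DerivedCategory.Q.obj K) = (mapHomologyQ F n).hom.app K := by
    intro F _ _ _
    refine (Localization.liftNatTrans_app _ _ _ _ _ _ _ _).trans ?_
    exact (Category.id_comp _).trans (Category.comp_id _)
  rw [hF, hF]
  have hQ : ∀ (F : A ⥤ B) [F.Additive] [PreservesFiniteLimits F] [PreservesFiniteColimits F],
      (mapHomologyQ F n).hom.app K =
        (DerivedCategory.homologyFunctor B n).map (F.mapDerivedCategoryFactors.hom.app K) ≫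
          (DerivedCategory.homologyFunctorFactors B n).hom.app _ ≫
            (mapCxHomology F _ n).hom.app K ≫
              F.map ((DerivedCategory.homologyFunctorFactors A n).inv.app K) := by
    intro F _ _ _
    simp [mapHomologyQ]
  rw [hQ, hQ, mapD_app]
  simp only [Category.assoc, Functor.map_comp]
  congr 1
  have h1 : (DerivedCategory.homologyFunctor B n).map (G.mapDerivedCategoryFactors.inv.app K) ≫
      (DerivedCategory.homologyFunctor B n).map (G.mapDerivedCategoryFactors.hom.app K) = 𝟙 _ := by
    rw [← Functor.map_comp, Iso.inv_hom_id_app, CategoryTheory.Functor.map_id]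
  rw [reassoc_of% h1]
  have h2 := (DerivedCategory.homologyFunctorFactors B n).hom.naturality (mapCx α K)
  dsimp only [Functor.comp_map] at h2
  rw [reassoc_of% h2]
  congr 1
  have hm : ∀ (F : A ⥤ B) [F.Additive] [PreservesFiniteLimits F] [PreservesFiniteColimits F],
      (mapCxHomology F (ComplexShape.up ℤ) n).hom.app K = ((K.sc n).mapHomologyIso F).hom := by
    intro F _ _ _
    change 𝟙 _ ≫ ((K.sc n).mapHomologyIso F).hom ≫ F.map (𝟙 _) = _
    rw [CategoryTheory.Functor.map_id, Category.id_comp, Category.comp_id]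
  have h3 : (HomologicalComplex.homologyFunctor B (ComplexShape.up ℤ) n).map (mapCx α K) =
      ((K.sc n).mapHomologyIso F).hom ≫ α.app _ ≫ ((K.sc n).mapHomologyIso G).inv :=
    ShortComplex.homologyMap_mapNatTrans (K.sc n) α
  have h4 := α.naturality ((DerivedCategory.homologyFunctorFactors A n).inv.app K)
  rw [hm, hm, h3]
  exact (congrArg (fun z => ((K.sc n).mapHomologyIso F).hom ≫ z) h4).trans
    (aux _ _ ((K.sc n).mapHomologyIso G) _).symm

theorem isIso_mapD_app_iff (α : F ⟶ G) (K : DerivedCategory A) :
    IsIso ((mapD α).app K) ↔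
      ∀ n : ℤ, IsIso (α.app ((DerivedCategory.homologyFunctor A n).obj K)) := by
  rw [DerivedCategory.isIso_iff]
  refine forall_congr' fun n => ?_
  have h := mapD_homology α K n
  constructor
  · intro _
    have h' : α.app ((DerivedCategory.homologyFunctor A n).obj K) =
        inv ((mapHomology F n).hom.app K) ≫
          (DerivedCategory.homologyFunctor B n).map ((mapD α).app K) ≫
            (mapHomology G n).hom.app K := by
      rw [← h, IsIso.inv_hom_id_assoc]
    rw [h']
    infer_instance
  · intro _
    have h' : (DerivedCategory.homologyFunctor B n).map ((mapD α).app K) =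
        (mapHomology F n).hom.app K ≫ α.app ((DerivedCategory.homologyFunctor A n).obj K) ≫
          inv ((mapHomology G n).hom.app K) := by
      rw [← Category.assoc, h, Category.assoc, IsIso.hom_inv_id, Category.comp_id]
    rw [h']
    infer_instance

end

section adj

open DerivedCategory Groth.Agent.PerfB.DQAdj Groth.Agent.PerfC.AdjD

variable {L : A ⥤ B} {R : B ⥤ A} (adj : L ⊣ R) [L.Additive] [R.Additive]
  [PreservesFiniteLimits L] [PreservesFiniteColimits L]
  [PreservesFiniteLimits R] [PreservesFiniteColimits R]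

instance : PreservesFiniteLimits (L ⋙ R) := comp_preservesFiniteLimits _ _
instance : PreservesFiniteColimits (L ⋙ R) := comp_preservesFiniteColimits _ _

theorem isIso_adjD_unit_app_iff (K : DerivedCategory A) :
    IsIso ((adjD adj).unit.app K) ↔
      ∀ n : ℤ, IsIso (adj.unit.app ((DerivedCategory.homologyFunctor A n).obj K)) := by
  have h1 := isIso_mapD_app_iff (F := 𝟭 A) (G := L ⋙ R) adj.unit K
  refine Iff.trans ?_ h1
  let K' := Q.objPreimage K
  let e : Q.obj K' ≅ K := Q.objObjPreimageIso K
  rw [← NatTrans.isIso_app_iff_of_iso (adjD adj).unit e,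
    ← NatTrans.isIso_app_iff_of_iso (mapD (F := 𝟭 A) (G := L ⋙ R) adj.unit) e, adjD_unit_app, mapD_app]
  have h2 : IsIso (Q.map (unitCx adj K')) ↔
      IsIso (Q.map (mapCx (F := 𝟭 A) (G := L ⋙ R) adj.unit K')) := Iff.rfl
  constructor
  · intro h
    have := (isIso_comp_right_iff (Q.map (unitCx adj K')) (R.mapDerivedCategoryFactors.inv.app
      ((mapCx L).obj K') ≫ R.mapDerivedCategory.map (L.mapDerivedCategoryFactors.inv.app K'))).1 h
    have := h2.1 this
    infer_instance
  · intro h
    have h3 := (isIso_comp_left_iff _ _).1 h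
    have h4 := (isIso_comp_right_iff _ _).1 h3
    have := h2.2 h4
    infer_instance

end adj

end K645.DNat
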