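import Groth.Agent.AlgSp.K645.Square

/-!
# Excision and Mayer–Vietoris for elementary squares
-/

set_option autoImplicit false
set_option linter.unusedSectionVars false
universe u

open CategoryTheory CategoryTheory.Limits Opposite DirectSum

namespace K645.Square
open K645.Ex K645.Lam K645.Shriek

variable {C : Type (u + 1)} [Category.{u} C] {J : GrothendieckTopology C} {R : Sheaf J RingCat.{u + 1}}
  {V : C} {U W : Opn C}

variable (J V U W) in
/-- `U ⊆ W` and `V ⟶ W` form an elementary square: `W` is covered by `U` and `V`, and two maps into `V` agree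
locally outside `U`. -/
structure Elem : Prop where
  le : LE J U W
  memV : W.mem V
  cov : ∀ E : C, W.mem E → ∃ T ∈ J E, ∀ ⦃E' : C⦄ (e : E' ⟶ E), T e → U.mem E' ∨ Nonempty (E' ⟶ V)
  uniq : ∀ (E : C) (g g' : E ⟶ V), ∃ T ∈ J E, ∀ ⦃E' : C⦄ (e : E' ⟶ E), T e → U.mem E' ∨ e ≫ g = e ≫ g'

/-- `N` vanishes over `U`. -/
def Van (U : Opn C) (N : SheafOfModules.{u + 1} (R.over V)) : Prop :=
  ∀ ⦃E : C⦄, U.mem E → ∀ (g : E ⟶ V) (n : sec N g), n = 0

lemma van_iff (N : SheafOfModules.{u + 1} (R.over V)) :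
    IsZero ((lam (ovr U V) (R.over V)).obj N) ↔ Van U N := by
  rw [isZero_lam_iff]
  exact ⟨fun h E hE g n => h (Over.mk g) hE n, fun h X hX m => h hX X.hom m⟩

lemma Van.rsPS {N : SheafOfModules.{u + 1} (R.over V)} (h : Van U N) {E : C} (hE : U.mem E)
    (x : PS N E) : x = 0 := by
  induction x using induction_PS with
  | h0 => rfl
  | hi g n => rw [h hE g n, map_zero]
  | ha x y hx hy => rw [hx, hy, add_zero]

variable (H : Elem J V U W)

include H in
lemma exists_inj_of_van {N : SheafOfModules.{u + 1} (R.over V)} (hN : Van U N) {E : C} (g₀ : E ⟶ V)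
    (x : PS N E) : ∃ T ∈ J E, ∀ ⦃E' : C⦄ (e : E' ⟶ E), T e → ∃ n, rsPS N e x = inj N (e ≫ g₀) n := by
  induction x using induction_PS with
  | h0 => exact ⟨⊤, J.top_mem _, fun E' e _ => ⟨0, by rw [map_zero, map_zero]⟩⟩
  | hi g n =>
    obtain ⟨T, hT, h⟩ := H.uniq E g g₀
    refine ⟨T, hT, fun E' e he => ?_⟩
    rcases h e he with h1 | h1
    · exact ⟨0, (hN.rsPS h1 _).trans (hN.rsPS h1 _).symm⟩
    · rw [rsPS_inj, ← h1]
      exact ⟨_, rfl⟩
  | ha x y hx hy =>
    obtain ⟨T, hT, h⟩ := hx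
    obtain ⟨T', hT', h'⟩ := hy
    refine ⟨T ⊓ T', J.intersection_covering hT hT', fun E' e he => ?_⟩
    obtain ⟨a, ha⟩ := h e he.1
    obtain ⟨b, hb⟩ := h' e he.2
    exact ⟨a + b, by rw [map_add, map_add, ha, hb]⟩

include H in
/-- Excision: the unit `N ⟶ f^* f_! N` is an isomorphism if `N` vanishes over `U`. -/
theorem isIso_unit_of_van {N : SheafOfModules.{u + 1} (R.over V)} (hN : Van U N) :
    IsIso (unitHom N) := by
  refine isIso_of_local _ (fun X n hn => ?_) (fun X y => ?_)
  · have h1 : tos N X.left (inj N X.hom n) = 0 := hn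
    obtain ⟨T, hT, h⟩ := exists_rsPS_eq_zero N _ h1
    refine section_ext N ((Sieve.overEquiv X).symm T) (J.overEquiv_symm_mem_over X T hT) _ _ fun X' e he => ?_
    have h2 := h e.left ((Sieve.overEquiv_symm_iff T e).1 he)
    rw [rsPS_inj] at h2
    have h3 : rs N X.hom e.left n = 0 := by
      rw [← cmp_inj_self (N := N) (e.left ≫ X.hom) (rs N X.hom e.left n), h2, map_zero]
    have key : ∀ (g' : X'.left ⟶ V) (hg' : e.left ≫ X.hom = g'),
        N.val.map (Over.homMk e.left hg' : Over.mk g' ⟶ X).op n = 0 := by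
      intro g' hg'
      subst hg'
      exact h3
    exact (key X'.hom (Over.w e)).trans (map_zero _).symm
  · obtain ⟨T, hT, h⟩ := exists_tos N (E := X.left) y
    choose x hx using fun (E' : C) (e : E' ⟶ X.left) (he : T e) => h e he
    choose T₁ hT₁ hT₁' using fun (E' : C) (e : E' ⟶ X.left) (he : T e) =>
      exists_inj_of_van H hN (e ≫ X.hom) (x E' e he)
    refine ⟨(Sieve.overEquiv X).symm (Sieve.bind T.arrows fun E' e he => T₁ E' e he),
      J.overEquiv_symm_mem_over X _ (J.bind_covering hT fun E' e he => hT₁ E' e he), fun X' e he => ?_⟩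
    obtain ⟨E', e'', e', he', he'', h1⟩ := (Sieve.overEquiv_symm_iff _ e).1 he
    obtain ⟨n, hn⟩ := hT₁' E' e' he' e'' he''
    have h2 : res ((shriek R V).obj N) e.left y = tos N X'.left (inj N (e'' ≫ e' ≫ X.hom) n) := by
      rw [← h1, res_comp, ← hx E' e' he', res_tos, hn]
    have h3 : e'' ≫ e' ≫ X.hom = X'.hom := by
      rw [← Category.assoc, h1]
      exact Over.w e
    have key : ∀ (g' : X'.left ⟶ V) (hg' : g' = X'.hom) (n : sec N g'), ∃ n' : sec N X'.hom,
        tos N X'.left (inj N X'.hom n') = tos N X'.left (inj N g' n) := by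
      intro g' hg' n
      subst hg'
      exact ⟨n, rfl⟩
    obtain ⟨n', hn'⟩ := key _ h3 n
    refine ⟨n', ?_⟩
    exact hn'.trans h2.symm

/-- `M` vanishes over `U`. -/
def VanM (U : Opn C) (M : SheafOfModules.{u + 1} R) : Prop :=
  ∀ ⦃E : C⦄, U.mem E → ∀ m : M.val.obj (op E), m = 0

lemma vanM_iff (M : SheafOfModules.{u + 1} R) : IsZero ((lam U R).obj M) ↔ VanM U M :=
  isZero_lam_iff U M

lemma VanM.rst {M : SheafOfModules.{u + 1} R} (h : VanM U M) : Van U ((rst R V).obj M) :=
  fun _ hE _ n => h hE n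

include H in
lemma exists_inj_or_zero {N : SheafOfModules.{u + 1} (R.over V)} (hN : Van U N) {E : C} (x : PS N E) :
    ∃ T ∈ J E, ∀ ⦃E' : C⦄ (e : E' ⟶ E), T e → rsPS N e x = 0 ∨ ∃ g n, rsPS N e x = inj N g n := by
  by_cases h : Nonempty (E ⟶ V)
  · obtain ⟨g₀⟩ := h
    obtain ⟨T, hT, h⟩ := exists_inj_of_van H hN g₀ x
    exact ⟨T, hT, fun E' e he => Or.inr ⟨_, h e he⟩⟩
  · refine ⟨⊤, J.top_mem _, fun E' e _ => Or.inl ?_⟩
    have : x = 0 := by
      induction x using induction_PS with
      | h0 => rfl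
      | hi g n => exact (h ⟨g⟩).elim
      | ha x y hx hy => rw [hx, hy, add_zero]
    rw [this, map_zero]

include H in
/-- `f_! N` is supported in `W`. -/
theorem isIso_inc_W (N : SheafOfModules.{u + 1} (R.over V)) : IsIso (inc W ((shriek R V).obj N)) := by
  refine isIso_of_local _ (fun E x hx => ap_inc_injective _ _ E (by rw [hx, map_zero])) (fun E y => ?_)
  have hy : y ∈ (sub W ((shriek R V).obj N)).obj (op E) := by
    obtain ⟨T, hT, h⟩ := exists_tos _ y
    refine ⟨T, hT, fun E' e he => ?_⟩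
    by_cases h1 : Nonempty (E' ⟶ V)
    · exact Or.inl (W.down h1.some H.memV)
    · refine Or.inr ?_
      obtain ⟨x, hx⟩ := h e he
      rw [← hx]
      have : x = 0 := by
        clear hx
        induction x using induction_PS with
        | h0 => rfl
        | hi g n => exact (h1 ⟨g⟩).elim
        | ha x y hx hy => rw [hx, hy, add_zero]
      rw [this, map_zero]
  obtain ⟨t, ht⟩ := exists_ap_inc _ _ E y hy
  exact ⟨⊤, J.top_mem _, fun E' e _ => ⟨res _ e t, by rw [ap_res, ht]⟩⟩

/-- The counit lands in `j_! j^* M`, `j : W ⟶ X`. -/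
lemma counit_mem_sub (hV : W.mem V) (M : SheafOfModules.{u + 1} R) (E : C)
    (y : ((shriek R V).obj ((rst R V).obj M)).val.obj (op E)) :
    ap (counitHom M) E y ∈ (sub W M).obj (op E) := by
  obtain ⟨T, hT, h⟩ := exists_tos _ y
  refine mem_sub_of_local W M _ T hT fun E' e he => ?_
  obtain ⟨x, hx⟩ := h e he
  rw [← ap_res, ← hx]
  clear hx
  induction x using induction_PS with
  | h0 =>
    rw [map_zero, map_zero]
    exact Submodule.zero_mem _
  | hi g n => exact mem_sub_of_mem W M (W.down g hV) _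
  | ha x y hx hy =>
    rw [map_add, map_add]
    exact Submodule.add_mem _ hx hy

include H in
/-- If `M` vanishes over `U` then the counit `f_! f^* M ⟶ M` is a monomorphism. -/
theorem mono_counit_of_vanM {M : SheafOfModules.{u + 1} R} (hM : VanM U M) :
    Mono (counitHom (V := V) M) := by
  refine mono_of_injective _ fun E y hy => ?_
  obtain ⟨T, hT, h⟩ := exists_tos _ y
  refine section_ext _ T hT _ _ fun E' e he => ?_
  obtain ⟨x, hx⟩ := h e he
  rw [map_zero, ← hx]
  obtain ⟨T', hT', h'⟩ := exists_inj_or_zero H hM.rst x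
  refine section_ext _ T' hT' _ _ fun E'' e' he' => ?_
  rw [map_zero, res_tos]
  rcases h' e' he' with h1 | ⟨g, n, h1⟩
  · rw [h1, map_zero]
  · rw [h1]
    have h2 : ap (counitHom M) E'' (tos _ E'' (inj _ g n)) = secRst M g n := ap_counitHom M g n
    have h3 : secRst M g n = 0 := by
      rw [← h2, ← h1, ← res_tos, hx, ← res_comp, ap_res, hy, map_zero]
    have h4 : n = 0 := (secRst M g).injective (h3.trans (map_zero _).symm)
    rw [h4, map_zero, map_zero]

include H in
lemma exists_counit_eq (M : SheafOfModules.{u + 1} R) {E : C} (hE : W.mem E) (m : M.val.obj (op E)) :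
    ∃ T ∈ J E, ∀ ⦃E' : C⦄ (e : E' ⟶ E), T e → U.mem E' ∨
      ∃ y, ap (counitHom (V := V) M) E' y = res M e m := by
  obtain ⟨T, hT, h⟩ := H.cov E hE
  refine ⟨T, hT, fun E' e he => ?_⟩
  rcases h e he with h1 | ⟨⟨g⟩⟩
  · exact Or.inl h1
  · exact Or.inr ⟨ofs _ g ((secRst M g).symm (res M e m)), by
      rw [ap_counitHom, LinearEquiv.apply_symm_apply]⟩

include H in
/-- If `M` vanishes over `U` then `f_! f^* M ⟶ M` is an isomorphism over `W`. -/
theorem isIso_lam_counit_of_vanM {M : SheafOfModules.{u + 1} R} (hM : VanM U M) :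
    IsIso ((lam W R).map (counitHom (V := V) M)) := by
  have := mono_counit_of_vanM H hM
  have := lam_mono W (counitHom (V := V) M)
  have : Epi ((lam W R).map (counitHom (V := V) M)) := by
    refine epi_of_locSurj _ fun E z => ?_
    obtain ⟨T, hT, h⟩ := ap_inc_mem W M E z
    have key : ∀ ⦃E' : C⦄ (e : E' ⟶ E), T e → ∃ T₁ ∈ J E', ∀ ⦃E'' : C⦄ (e' : E'' ⟶ E'), T₁ e' →
        ∃ x, ap ((lam W R).map (counitHom (V := V) M)) E'' x = res _ (e' ≫ e) z := by
      intro E' e he
      rcases h e he with h1 | h1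
      · obtain ⟨T', hT', h'⟩ := exists_counit_eq H M h1 (res M e (ap (inc W M) E z))
        refine ⟨T', hT', fun E'' e' he' => ?_⟩
        rcases h' e' he' with h2 | ⟨y, hy⟩
        · refine ⟨0, ap_inc_injective W M E'' ?_⟩
          have h3 : ap (inc W M) E'' (ap ((lam W R).map (counitHom (V := V) M)) E'' 0) = 0 := by
            rw [map_zero, map_zero]
          refine h3.trans ?_
          exact (hM h2 _).symm
        · obtain ⟨t, ht⟩ := exists_ap_inc W _ E'' y (mem_sub_of_mem W _ (W.down e' h1) _)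
          refine ⟨t, ap_inc_injective W M E'' ?_⟩
          have h3 : ap (inc W M) E'' (ap ((lam W R).map (counitHom (V := V) M)) E'' t) =
            ap (counitHom M) E'' (ap (inc W _) E'' t) := ap_lam_map _ _ _ _
          refine h3.trans ?_
          rw [ht, hy, ap_res, res_comp]
      · refine ⟨⊤, J.top_mem _, fun E'' e' _ => ⟨0, ap_inc_injective W M E'' ?_⟩⟩
        have h3 : ap (inc W M) E'' (ap ((lam W R).map (counitHom (V := V) M)) E'' 0) = 0 := by
          rw [map_zero, map_zero]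
        refine h3.trans ?_
        rw [ap_res, res_comp, h1, map_zero]
    choose T₁ hT₁ hT₁' using key
    refine ⟨Sieve.bind T.arrows fun E' e he => T₁ e he, J.bind_covering hT fun E' e he => hT₁ e he, ?_⟩
    rintro E'' _ ⟨E', e'', e', he', he'', rfl⟩
    exact hT₁' e' he' e'' he''
  exact isIso_of_mono_of_epi _

end K645.Square
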