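import Groth.Agent.PerfB.KoszulOrth

/-!
# Orthogonality in triangulated categories
-/

set_option autoImplicit false
set_option linter.unusedSectionVars false

open CategoryTheory CategoryTheory.Limits Pretriangulated

namespace K645.OrthAbs

open Groth.Agent.PerfB.KoszulOrth

section basic

variable {D : Type*} [Category* D] [HasShift D ℤ] [Preadditive D] [∀ n : ℤ, (shiftFunctor D n).Additive]

theorem orth_of_forall {A E : D} (h : ∀ (m : ℤ) (φ : A ⟶ E⟦m⟧), φ = 0) : orth A E := fun n φ => by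
  apply (shiftFunctor D (-n)).map_injective
  rw [Functor.map_zero, ← cancel_epi ((shiftShiftNeg A n).inv), comp_zero]
  exact h (-n) _

theorem orth.hom_eq_zero {A E : D} (h : orth A E) (m : ℤ) (φ : A ⟶ E⟦m⟧) : φ = 0 := by
  rw [← cancel_epi ((shiftFunctorZero D ℤ).hom.app A), comp_zero]
  exact h.shift m 0 _

theorem orth_retract {A A' E : D} (i : A ⟶ A') (r : A' ⟶ A) (hir : i ≫ r = 𝟙 A) (h : orth A' E) :
    orth A E := fun n φ => by
  have h1 : r⟦n⟧' ≫ φ = 0 := h n _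
  have h2 : i⟦n⟧' ≫ r⟦n⟧' ≫ φ = φ := by
    rw [← Category.assoc, ← Functor.map_comp, hir, CategoryTheory.Functor.map_id, Category.id_comp]
  rw [← h2, h1, comp_zero]

theorem orth_of_isZero {A E : D} (hE : IsZero E) : orth A E := fun _ _ => hE.eq_of_tgt _ _

variable {B : Type*} [Category* B] [HasShift B ℤ] [Preadditive B] [∀ n : ℤ, (shiftFunctor B n).Additive]

theorem orth_of_orth_map {F : B ⥤ D} {G : D ⥤ B} (adj : F ⊣ G) [F.CommShift ℤ] [F.PreservesZeroMorphisms]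
    {K : B} {E : D} (h : orth (F.obj K) E) : orth K (G.obj E) := fun n φ => by
  apply (adj.homEquiv _ _).symm.injective
  have h1 : ∀ ψ : F.obj (K⟦n⟧) ⟶ E, ψ = 0 := fun ψ => by
    rw [← cancel_epi ((F.commShiftIso n).inv.app K), comp_zero]
    exact h n _
  rw [h1 ((adj.homEquiv _ _).symm φ), h1 ((adj.homEquiv _ _).symm 0)]

theorem orth_map_of_orth {F : B ⥤ D} {G : D ⥤ B} (adj : F ⊣ G) [F.CommShift ℤ]
    {K : B} {E : D} (h : orth K (G.obj E)) : orth (F.obj K) E := fun n φ => by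
  rw [← cancel_epi ((F.commShiftIso n).hom.app K)]
  apply (adj.homEquiv _ _).injective
  rw [h n (adj.homEquiv _ _ _), h n (adj.homEquiv _ _ _)]

end basic

section tri

variable {D : Type*} [Category* D] [HasShift D ℤ] [Preadditive D] [∀ n : ℤ, (shiftFunctor D n).Additive]
  [HasZeroObject D] [Pretriangulated D]

theorem orth_left_obj₁ (T : Triangle D) (hT : T ∈ distTriang D) {E : D} (h₂ : orth T.obj₂ E)
    (h₃ : orth T.obj₃ E) : orth T.obj₁ E := by
  refine orth_of_forall fun m φ => ?_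
  obtain ⟨g, hg⟩ := Triangle.yoneda_exact₂ T.invRotate (inv_rot_of_distTriang _ hT) φ
    ((h₃.shift m) (-1) _)
  have hg0 : g = 0 := orth.hom_eq_zero h₂ m g
  rw [hg, hg0]
  exact comp_zero

theorem orth_cone {P N Z E : D} {i : P ⟶ N} {p : N ⟶ Z} {q : Z ⟶ P⟦(1 : ℤ)⟧}
    (hT : Triangle.mk i p q ∈ distTriang D)
    (h : ∀ m : ℤ, Function.Bijective (fun χ : N ⟶ E⟦m⟧ => i ≫ χ)) : orth Z E := by
  refine orth_of_forall fun m φ => ?_
  let e := (shiftFunctorAdd' D (m - 1) 1 m (by lia)).app E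
  have h1 : p ≫ φ = 0 := by
    apply (h m).1
    have h2 : i ≫ p = 0 := comp_distTriang_mor_zero₁₂ _ hT
    dsimp only
    rw [← Category.assoc, h2, zero_comp, comp_zero]
  have h1' : p ≫ φ ≫ e.hom = 0 := by rw [← Category.assoc, h1, zero_comp]
  obtain ⟨ψ, hψ⟩ : ∃ ψ : P⟦(1 : ℤ)⟧ ⟶ (E⟦m - 1⟧)⟦(1 : ℤ)⟧, φ ≫ e.hom = q ≫ ψ :=
    Triangle.yoneda_exact₃ _ hT (φ ≫ e.hom) h1'
  obtain ⟨ψ', rfl⟩ := (shiftFunctor D (1 : ℤ)).map_surjective ψ
  obtain ⟨χ, rfl⟩ := (h (m - 1)).2 ψ'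
  have h3 : q ≫ i⟦(1 : ℤ)⟧' = 0 := comp_distTriang_mor_zero₃₁ _ hT
  dsimp only at hψ
  rw [← cancel_mono e.hom, zero_comp, hψ, Functor.map_comp, ← Category.assoc, h3, zero_comp]

theorem bij_post {P N E E' : D} {i : P ⟶ N} (e : E ≅ E')
    (h : Function.Bijective (fun χ : N ⟶ E => i ≫ χ)) : Function.Bijective (fun χ : N ⟶ E' => i ≫ χ) := by
  constructor
  · intro χ χ' h'
    have h5 : χ ≫ e.inv = χ' ≫ e.inv := h.1 (by
      dsimp only at h' ⊢
      rw [← Category.assoc, ← Category.assoc, h'])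
    exact (cancel_mono e.inv).1 h5
  · intro γ
    obtain ⟨β, hβ⟩ := h.2 (γ ≫ e.inv)
    refine ⟨β ≫ e.hom, ?_⟩
    dsimp only at hβ ⊢
    rw [← Category.assoc, hβ, Category.assoc, e.inv_hom_id, Category.comp_id]

end tri

end K645.OrthAbs
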