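import Groth.Agent.AlgSp.K645.Lift
import Groth.Agent.AlgSp.K645.OrthAbs
import Groth.Agent.AlgSp.K290.Tors

/-!
# Perfect generators along elementary squares
-/

set_option autoImplicit false
set_option linter.unusedSectionVars false

universe u

open CategoryTheory CategoryTheory.Limits AlgebraicGeometry Opposite Pretriangulated

attribute [local instance] HasDerivedCategory.standard

namespace K645.Gen

open K645.Ex K645.Lam K645.Shriek K645.Square K645.IsO K646.EtSite K290.DIdem K645.Zar K645.TE K645.BC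
  K645.Int Groth.Agent.PerfA.ExactD K290.DId K645.PsiUnit K645.OrthAbs K645.Lift K290.ElemSq
  K645.LocO K645.Glue K290.Thick K294.GlueOn K294.MapExt K294.MapLift Groth.Agent.PerfB.KoszulOrth

variable {S : Scheme.{u}} {X : AlgSp.Sp S}

/-- `G` generates over `O`. -/
def GenOn (O : Opn (AlgSp.EtOver X)) (G : AlgSp.DModEt X) : Prop :=
  ∀ L : AlgSp.DModEt X, DCoh.IsQCohDMod (AlgSp.OEtRing X) L → orth G L →
    IsZero ((lD O (AlgSp.OEtRing X)).obj L)

variable {V : AlgSp.EtOver X} [hV : IsAffine V.obj.left.left]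

/-- A Koszul-like object. -/
def KosAt (W' : Opn (Over V)) (K : Dual.D (B V)) : Prop :=
  DRing.IsPerfect (B V) K ∧ IsZero ((lD W' (AlgSp.OEtOn V)).obj ((TD V).obj K)) ∧
    ∀ C : Dual.D (B V), IsZero ((lD W' (AlgSp.OEtOn V)).obj ((TD V).obj C)) → orth K C → IsZero C

theorem exists_kosAt (W' : Opn (Over V)) (l : List Γ(sch V, ⊤)) (hl : W' = oo V (OL l)) :
    ∃ K : Dual.D (B V), KosAt W' K := by
  subst hl
  obtain ⟨K, h1, h2, h3⟩ := K290.Tors.exists_kos V (l.map ULift.up)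
  have h : K290.Tors.OB V (l.map ULift.up) = OL l := by
    change OL ((l.map ULift.up).map ULift.down) = OL l
    rw [List.map_map]
    exact congrArg OL (List.map_id l)
  have h4 : ∀ C, K290.Tors.torsP V (l.map ULift.up) C ↔
      IsZero ((lD (oo V (OL l)) (AlgSp.OEtOn V)).obj ((TD V).obj C)) := by
    intro C
    rw [K290.Tors.tors_iff, h]
  exact ⟨K, h1, (h4 K).1 h2, fun C hC h5 => h3 C ((h4 C).2 hC) h5⟩

/-- Objects orthogonal to the Koszul object are orthogonal to cones of `j_! j^* N~ ⟶ N~`. -/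
theorem orth_cone_TD {W' : Opn (Over V)} (l : List Γ(sch V, ⊤)) (hl : W' = oo V (OL l)) {K : Dual.D (B V)}
    (hK : KosAt W' K) {M : Dual.D (B V)} (hM : orth K M) {N : Dual.D (B V)} {Z : DR (AlgSp.OEtOn V)}
    {p : (TD V).obj N ⟶ Z} {q : Z ⟶ ((lD W' (AlgSp.OEtOn V)).obj ((TD V).obj N))⟦(1 : ℤ)⟧}
    (hT : Triangle.mk ((iD W' (AlgSp.OEtOn V)).app ((TD V).obj N)) p q ∈ distTriang (DR (AlgSp.OEtOn V))) :
    orth Z ((TD V).obj M) := by
  subst hl
  refine orth_cone hT fun m => ?_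
  exact bij_post (((TD V).commShiftIso m).app M) (bijective_iD l hK.2.1 hK.2.2 (hM.shift m) N)

theorem orth_of_orth_sD {K M : Dual.D (B V)} {L : AlgSp.DModEt X}
    (e : (TD V).obj M ≅ (rD (AlgSp.OEtRing X) V).obj L)
    (h : orth ((sD (AlgSp.OEtRing X) V).obj ((TD V).obj K)) L) : orth K M := by
  have h1 : orth ((TD V).obj K) ((rD (AlgSp.OEtRing X) V).obj L) :=
    orth_of_orth_map (adjSR (AlgSp.OEtRing X) V) h
  exact orth_of_map (TD V) (h1.of_iso e.symm)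

variable {O₁ O₂ : Opn (AlgSp.EtOver X)}

theorem orth_of_isGlue (l : List Γ(sch V, ⊤)) (hl : ovr O₁ V = oo V (OL l)) {K : Dual.D (B V)}
    (hK : KosAt (ovr O₁ V) K) {M : Dual.D (B V)} (hM : orth K M) {L : AlgSp.DModEt X}
    (e : (TD V).obj M ≅ (rD (AlgSp.OEtRing X) V).obj L) {Q G' : AlgSp.DModEt X} {N : Dual.D (B V)}
    (hG : IsGlue (V := V) O₁ Q G' ((TD V).obj N)) (hL : orth G' L) : orth Q L := by
  obtain ⟨Z, p, q, a, b, d, h1, h2⟩ := hG
  have h3 : orth Z ((TD V).obj M) := orth_cone_TD l hl hK hM h1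
  have h4 : orth ((sD (AlgSp.OEtRing X) V).obj Z) L :=
    orth_map_of_orth (adjSR (AlgSp.OEtRing X) V) (h3.of_iso e)
  exact orth_left_obj₁ _ h2 hL h4

theorem isZero_of_orth (H : Elem (AlgSp.etTop X) V O₁ O₂) {K : Dual.D (B V)}
    (hK : KosAt (ovr O₁ V) K) {M : Dual.D (B V)} (hM : orth K M) {L : AlgSp.DModEt X}
    (e : (TD V).obj M ≅ (rD (AlgSp.OEtRing X) V).obj L) (hL : IsZero ((lD O₁ (AlgSp.OEtRing X)).obj L)) :
    IsZero ((lD O₂ (AlgSp.OEtRing X)).obj L) := by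
  have h1 : IsZero ((lD (ovr O₁ V) (AlgSp.OEtOn V)).obj ((rD (AlgSp.OEtRing X) V).obj L)) :=
    isZero_lD_rD O₁ hL
  have h2 : IsZero ((lD (ovr O₁ V) (AlgSp.OEtOn V)).obj ((TD V).obj M)) :=
    h1.of_iso ((lD (ovr O₁ V) (AlgSp.OEtOn V)).mapIso e)
  have h3 : IsZero M := hK.2.2 M h2 hM
  exact isZero_lD_W H hL (((TD V).map_isZero h3).of_iso e.symm)

/-- The generator over `O₂`. -/
theorem exists_gen_step (H : Elem (AlgSp.etTop X) V O₁ O₂) (l : List Γ(sch V, ⊤))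
    (hl : ovr O₁ V = oo V (OL l)) (hT : TorsIff V (ovr O₁ V) (l.map ULift.up))
    (h₁ : ∃ G, PO O₁ G ∧ GenOn O₁ G) : ∃ G, PO O₂ G ∧ GenOn O₂ G := by
  obtain ⟨G₁, hG₁, hgen⟩ := h₁
  obtain ⟨K, hK⟩ := exists_kosAt (ovr O₁ V) l hl
  obtain ⟨N, G', hglue, hPO, -⟩ := exists_lift_full H l hl hT hG₁
  have hPO2 : PO O₂ ((sD (AlgSp.OEtRing X) V).obj ((TD V).obj K)) := PO_sD H hK.2.1 ⟨K, hK.1, ⟨Iso.refl _⟩⟩
  refine ⟨G' ⊞ (sD (AlgSp.OEtRing X) V).obj ((TD V).obj K),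
    (PO O₂).ext_of_isTriangulatedClosed₂ _ (binaryBiproductTriangle_distinguished _ _) hPO hPO2,
    fun L hL h => ?_⟩
  have h2 : orth G' L := orth_retract biprod.inl biprod.fst biprod.inl_fst h
  have h3 : orth ((sD (AlgSp.OEtRing X) V).obj ((TD V).obj K)) L :=
    orth_retract biprod.inr biprod.snd biprod.inr_snd h
  obtain ⟨M, ⟨e⟩⟩ := exists_TD_iso V ((rD (AlgSp.OEtRing X) V).obj L) (qcAt_of_isQCoh hL V)
  have hM : orth K M := orth_of_orth_sD e h3
  have h4 : orth (G₁ ⊞ G₁⟦(1 : ℤ)⟧) L := orth_of_isGlue l hl hK hM e hglue h2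
  have h5 : orth G₁ L := orth_retract biprod.inl biprod.fst biprod.inl_fst h4
  exact isZero_of_orth H hK hM e (hgen L hL h5)

end K645.Gen
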