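import Groth.Agent.AlgSp.K294.MapExt

/-!
# Elementary squares: glueing of objects on derived categories
-/

set_option autoImplicit false
set_option linter.unusedSectionVars false
universe u

open CategoryTheory CategoryTheory.Limits Opposite Pretriangulated

attribute [local instance] HasDerivedCategory.standard

namespace K645.Glue
open K645.Ex K645.Lam K645.Shriek K645.Square K290.DId K290.DIdem Groth.Agent.PerfA.ExactD K294.MapExt

variable {C : Type (u + 1)} [Category.{u} C] {J : GrothendieckTopology C} {R : Sheaf J RingCat.{u + 1}}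
  {V : C} {U W : Opn C}
  [HasSheafify J AddCommGrpCat.{u + 1}] [J.WEqualsLocallyBijective AddCommGrpCat.{u + 1}]

/-- Two triangles with isomorphic first and third vertices. -/
theorem exists_iso₂ {D : Type*} [Category* D] [HasZeroObject D] [HasShift D ℤ] [Preadditive D]
    [∀ n : ℤ, (shiftFunctor D n).Additive] [Pretriangulated D] (T₁ T₂ : Triangle D)
    (h₁ : T₁ ∈ distTriang D) (h₂ : T₂ ∈ distTriang D) (a : T₁.obj₁ ⟶ T₂.obj₁) (c : T₁.obj₃ ⟶ T₂.obj₃)
    (ha : IsIso a) (hc : IsIso c) (h : T₁.mor₃ ≫ a⟦(1 : ℤ)⟧' = c ≫ T₂.mor₃) :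
    Nonempty (T₁.obj₂ ≅ T₂.obj₂) := by
  obtain ⟨b, hb, hb'⟩ := complete_distinguished_triangle_morphism₂ T₁ T₂ h₁ h₂ a c h
  let φ : T₁ ⟶ T₂ := { hom₁ := a, hom₂ := b, hom₃ := c, comm₁ := hb, comm₂ := hb', comm₃ := h }
  have : IsIso b := isIso₂_of_isIso₁₃ φ h₁ h₂ ha hc
  exact ⟨asIso b⟩

/-- Glueing of `Q` on `U` with `N` on `V`, along an isomorphism over the intersection. -/
theorem exists_glue (H : Elem J V U W) {Q : DR R} (hQ : suppP U R Q) {N : DR (R.over V)}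
    (α : (lD (ovr U V) (R.over V)).obj N ≅ (rD R V).obj Q) :
    ∃ (K : DR R) (Z : DR (R.over V)) (p : N ⟶ Z) (q : Z ⟶ ((lD (ovr U V) (R.over V)).obj N)⟦(1 : ℤ)⟧)
      (a : Q ⟶ K) (b : K ⟶ (sD R V).obj Z) (d : (sD R V).obj Z ⟶ Q⟦(1 : ℤ)⟧),
      Triangle.mk ((iD (ovr U V) (R.over V)).app N) p q ∈ distTriang (DR (R.over V)) ∧
      Triangle.mk a b d ∈ distTriang (DR R) ∧ suppP W R K ∧ IsIso ((lD U R).map a) ∧
      Nonempty (N ≅ (rD R V).obj K) := by
  obtain ⟨Z, p, q, hZ⟩ := distinguished_cocone_triangle ((iD (ovr U V) (R.over V)).app N)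
  have hv : vanP (ovr U V) (R.over V) Z := vanP_cone hZ
  let q' : Z ⟶ (rD R V).obj (Q⟦(1 : ℤ)⟧) := q ≫ α.hom⟦(1 : ℤ)⟧' ≫ ((rD R V).commShiftIso (1 : ℤ)).inv.app Q
  let d : (sD R V).obj Z ⟶ Q⟦(1 : ℤ)⟧ := ((adjSR R V).homEquiv _ _).symm q'
  obtain ⟨K, a, b, hT⟩ := distinguished_cocone_triangle₂ d
  refine ⟨K, Z, p, q, a, b, d, hZ, hT, ?_, ?_, ?_⟩
  · exact suppP_ext₂ hT (isIso_iD_mono H.le hQ) (isIso_iD_W H Z)
  · exact (Triangle.isZero₃_iff_isIso₁ _ ((lD U R).map_distinguished _ hT)).1 (isZero_lD_sD U hv)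
  · refine exists_iso₂ _ _ hZ ((rD R V).map_distinguished _ hT) α.hom ((adjSR R V).unit.app Z)
      inferInstance (isIso_unit H hv) ?_
    have h1 : (adjSR R V).unit.app Z ≫ (rD R V).map d = q' :=
      ((adjSR R V).homEquiv_unit _ _ _).symm.trans (((adjSR R V).homEquiv _ _).apply_symm_apply q')
    change q ≫ α.hom⟦(1 : ℤ)⟧' = (adjSR R V).unit.app Z ≫ (rD R V).map d ≫
      ((rD R V).commShiftIso (1 : ℤ)).hom.app Q
    rw [← Category.assoc, h1]
    dsimp only [q']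
    rw [Category.assoc, Category.assoc, Iso.inv_hom_id_app]
    exact congrArg (fun z => q ≫ z) (Category.comp_id _).symm

end K645.Glue
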