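import Groth.Agent.AlgSp.K645.Mul
import Groth.Agent.AlgSp.K645.Int

/-!
# Maps from extensions by zero of affine objects into quasi-coherent complexes
-/

set_option autoImplicit false

universe u

open CategoryTheory CategoryTheory.Limits AlgebraicGeometry Opposite

attribute [local instance] HasDerivedCategory.standard

namespace K645.Good

open K645.Ex K645.Lam K645.Shriek K645.Square K645.IsO K646.EtSite K290.DIdem K645.Zar K645.TE
  K645.Loc4 K645.LocBase K645.Mul K645.Int Groth.Agent.PerfA.ExactD Groth.Agent.PerfA.PostHom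

section inter

variable {C : Type (u + 1)} [Category.{u} C] {J : GrothendieckTopology C} {R : Sheaf J RingCat.{u + 1}}
  [HasSheafify J AddCommGrpCat.{u + 1}] [J.WEqualsLocallyBijective AddCommGrpCat.{u + 1}]

theorem isIso_lam_incLE (U U' : Opn C) (M : SheafOfModules.{u + 1} R) :
    IsIso ((lam U R).map (incLE (J := J) (inter_le_right U U') M)) := by
  refine isIso_of_local _ (fun E x hx => ?_) (fun E t => ?_)
  · apply ap_inc_injective U (obj (inter U U') M) E
    apply ap_inc_injective (inter U U') M E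
    rw [map_zero, map_zero, ← ap_incLE (inter_le_right U U'), ← ap_lam_map]
    have h1 := congrArg (fun z => ap (inc U' M) E (ap (inc U (obj U' M)) E z)) hx
    dsimp only at h1
    rw [map_zero, map_zero] at h1
    exact h1
  · have hm : ap (inc U' M) E (ap (inc U (obj U' M)) E t) ∈ (sub (inter U U') M).obj (op E) := by
      obtain ⟨T, hT, h1⟩ := ap_inc_mem U (obj U' M) E t
      obtain ⟨T', hT', h2⟩ := ap_inc_mem U' M E (ap (inc U (obj U' M)) E t)
      refine ⟨T ⊓ T', J.intersection_covering hT hT', fun E' e he => ?_⟩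
      rcases h1 e he.1 with h3 | h3
      · rcases h2 e he.2 with h4 | h4
        · exact Or.inl ⟨h3, h4⟩
        · exact Or.inr h4
      · refine Or.inr ?_
        rw [← ap_res]
        refine (congrArg (ap (inc U' M) E') h3).trans (map_zero _)
    obtain ⟨y, hy⟩ := exists_ap_inc (inter U U') M E _ hm
    obtain ⟨T, hT, h1⟩ := ap_inc_mem (inter U U') M E y
    have hy' : y ∈ (sub U (obj (inter U U') M)).obj (op E) := by
      refine ⟨T, hT, fun E' e he => ?_⟩
      rcases h1 e he with h3 | h3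
      · exact Or.inl h3.1
      · refine Or.inr (ap_inc_injective (inter U U') M E' ?_)
        rw [map_zero, ap_res]
        exact h3
    obtain ⟨z, hz⟩ := exists_ap_inc U (obj (inter U U') M) E y hy'
    refine ⟨⊤, J.top_mem _, fun E' e _ => ⟨res _ e z, ?_⟩⟩
    rw [ap_res]
    congr 1
    apply ap_inc_injective U (obj U' M) E
    apply ap_inc_injective U' M E
    have h5 : ap (inc U (obj U' M)) E (ap ((lam U R).map (incLE (J := J) (inter_le_right U U') M)) E z) =
      ap (incLE (J := J) (inter_le_right U U') M) E (ap (inc U _) E z) := ap_lam_map _ _ _ _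
    refine (congrArg (ap (inc U' M) E) h5).trans ?_
    rw [hz, ap_incLE, hy]

/-- `j_! j^*` for an intersection. -/
theorem nonempty_inter (U U' : Opn C) (M : SheafOfModules.{u + 1} R) :
    Nonempty ((lam U R).obj ((lam U' R).obj M) ≅ (lam (inter U U') R).obj M) := by
  have h1 := isIso_lam_incLE (J := J) (R := R) U U' M
  have h2 := isIso_inc_obj (J := J) (R := R) (inter_le_left U U') M
  exact ⟨(asIso ((lam U R).map (incLE (J := J) (inter_le_right U U') M))).symm ≪≫
    asIso (inc U (obj (inter U U') M))⟩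

end inter

section gen

variable {A : Type*} [Category* A] [Abelian A] [HasDerivedCategory A]

theorem bij_of_iso {K K' Y : DerivedCategory A} (e : K ≅ K') (n : ℤ)
    (h : Function.Bijective (fun φ : K ⟶ Y => (DerivedCategory.homologyFunctor A n).map φ)) :
    Function.Bijective (fun φ : K' ⟶ Y => (DerivedCategory.homologyFunctor A n).map φ) := by
  have h1 : (fun φ : K' ⟶ Y => (DerivedCategory.homologyFunctor A n).map φ) =
      (fun ψ => (DerivedCategory.homologyFunctor A n).map e.inv ≫ ψ) ∘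
        (fun φ : K ⟶ Y => (DerivedCategory.homologyFunctor A n).map φ) ∘
          (fun φ : K' ⟶ Y => e.hom ≫ φ) := by
    funext φ
    simp
  rw [h1]
  refine Function.Bijective.comp ?_ (h.comp ?_)
  · exact (Iso.homFromEquiv ((DerivedCategory.homologyFunctor A n).mapIso e)).bijective
  · exact (Iso.homFromEquiv e.symm).bijective

open DerivedCategory Groth.Agent.PerfA.PostAbs Pretriangulated in
/-- Maps from an object in one degree into `F G`, when maps into the truncations vanish. -/
theorem bij_abs {A : Type*} [Category* A] [Abelian A] [HasDerivedCategory A]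
    {B : Type*} [Category* B] [Abelian B] [HasDerivedCategory B]
    (F : A ⥤ B) [F.Additive] [PreservesFiniteLimits F] [PreservesFiniteColimits F]
    (G : DerivedCategory A) (M : B) (m : ℤ) (P : DerivedCategory A → Prop)
    (h : ∀ K, P K → IsLE K (m - 1) → ∀ φ : (singleFunctor B m).obj M ⟶ F.mapDerivedCategory.obj K, φ = 0)
    (hP0 : P ((tt.truncLT m).obj G)) (hP1 : ∀ K, P K → P (K⟦(1 : ℤ)⟧)) :
    Function.Bijective (fun φ : (singleFunctor B m).obj M ⟶ F.mapDerivedCategory.obj G =>
      (homologyFunctor B m).map φ) := by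
  have h0 := h _ hP0 inferInstance
  have h1 := h _ (hP1 _ hP0) (by
    have := tt.isLE_shift ((tt.truncLT m).obj G) (m - 1) 1 (m - 2) (by lia)
    exact tt.isLE_of_le _ (m - 2) (m - 1) (by lia))
  have hT := F.mapDerivedCategory.map_distinguished _ (tt.triangleLTGE_distinguished m G)
  have h2 := bijective_comp_of_triangle _ hT ((singleFunctor B m).obj M) h0 (fun φ => by
    have h3 := h1 (φ ≫ (F.mapDerivedCategory.commShiftIso (1 : ℤ)).inv.app _)
    exact (cancel_mono ((F.mapDerivedCategory.commShiftIso (1 : ℤ)).inv.app _)).1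
      (h3.trans zero_comp.symm))
  have hGE : IsGE (F.mapDerivedCategory.obj ((tt.truncGE m).obj G)) m := isGE_map F _ m
  have h4 := bijective_homology_of_isGE M (F.mapDerivedCategory.obj ((tt.truncGE m).obj G)) m
  have h5 := isIso_homology_truncGEπ G m m le_rfl
  have h6 : IsIso ((homologyFunctor B m).map (F.mapDerivedCategory.map ((tt.truncGEπ m).app G))) :=
    (NatIso.isIso_map_iff (mapHomology F m) ((tt.truncGEπ m).app G)).2
      (inferInstanceAs (IsIso (F.map ((homologyFunctor A m).map ((tt.truncGEπ m).app G)))))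
  have h7 : (fun φ : (singleFunctor B m).obj M ⟶ F.mapDerivedCategory.obj G =>
      (homologyFunctor B m).map φ) = (fun f => f ≫ inv ((homologyFunctor B m).map
        (F.mapDerivedCategory.map ((tt.truncGEπ m).app G)))) ∘ (fun φ => (homologyFunctor B m).map φ) ∘
          (fun φ : (singleFunctor B m).obj M ⟶ F.mapDerivedCategory.obj G =>
            φ ≫ F.mapDerivedCategory.map ((tt.truncGEπ m).app G)) := by
    funext φ
    simp
  rw [h7]
  refine Function.Bijective.comp ?_ (h4.comp h2)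
  exact (Iso.homToEquiv (asIso ((homologyFunctor B m).map
    (F.mapDerivedCategory.map ((tt.truncGEπ m).app G)))).symm).bijective

end gen

section adj

variable {C D : Type*} [Category* C] [Category* D] [Preadditive C] [Preadditive D] {L : C ⥤ D} {R : D ⥤ C}
  (adj : L ⊣ R)

theorem eq_zero_of_symm [R.Additive] {A : C} {K : D} (φ : A ⟶ R.obj K)
    (h : (adj.homEquiv A K).symm φ = 0) : φ = 0 := by
  have h5 := congrArg (adj.homEquiv A K) h
  rw [Equiv.apply_symm_apply, Adjunction.homEquiv_unit, Functor.map_zero, comp_zero] at h5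
  exact h5

theorem eq_zero_of_homEquiv [L.Additive] {A : C} {K : D} (φ : L.obj A ⟶ K)
    (h : adj.homEquiv A K φ = 0) : φ = 0 := by
  have h5 := congrArg (adj.homEquiv A K).symm h
  rw [Equiv.symm_apply_apply, Adjunction.homEquiv_counit, Functor.map_zero, zero_comp] at h5
  exact h5

end adj

section good

open DerivedCategory

variable {S : Scheme.{u}} {X : AlgSp.Sp S} {V : AlgSp.EtOver X}

theorem pb_of_cor {E : Over V} (hE : IsAffine (sch E.left)) {A : AlgSp.ModEtOn V} (hA : Cor E A) :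
    PB V A := ⟨E, hE, hA.iso (cor_OU.{u + 1} (R := AlgSp.OEtOn V) E)⟩

/-- Maps into quasi-coherent complexes. -/
theorem good_qc {E : Over V} (hE : IsAffine (sch E.left)) {A : AlgSp.ModEtOn V} (hA : Cor E A)
    {Y : DCoh.DMod (AlgSp.OEtOn V)} (hY : DCoh.IsQCohDMod (AlgSp.OEtOn V) Y) (n : ℤ) :
    Function.Bijective (fun φ : (singleFunctor _ n).obj A ⟶ Y => (homologyFunctor _ n).map φ) :=
  (acycE V).bijective_homology hY (pb_of_cor hE hA) n

theorem isLE_rD (Q : AlgSp.EtOver X) (K : AlgSp.DModEt X) (b : ℤ) [h : K.IsLE b] :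
    DerivedCategory.IsLE ((rD (AlgSp.OEtRing X) Q).obj K) b :=
  isLE_map (rst (AlgSp.OEtRing X) Q) K b

theorem van_u {Q : AlgSp.EtOver X} (hQ : IsAffine (sch Q)) {u : AlgSp.ModEtOn Q}
    (hu : Cor (Over.mk (𝟙 Q)) u) {K : AlgSp.DModEt X}
    (hK : DCoh.IsQCohDMod (AlgSp.OEtOn Q) ((AlgSp.resDEt Q).obj K))
    (b m : ℤ) (hbm : b < m) [K.IsLE b] (ψ : (singleFunctor _ m).obj u ⟶ (rD (AlgSp.OEtRing X) Q).obj K) :
    ψ = 0 := by
  have hLE := isLE_rD Q K b
  refine (acycE Q).hom_eq_zero_of_isLE (K := (rD (AlgSp.OEtRing X) Q).obj K) hK _ b (fun q χ => ?_) ψ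
  by_cases hq : q < m
  · exact (acycE Q).van (pb_of_cor (V := Q) (E := Over.mk (𝟙 Q)) hQ hu) (hK q) m q hq χ
  · exact ((singleFunctor _ q).map_isZero (isZero_of_isLE _ b q (by lia))).eq_of_tgt _ _

theorem van_s {Q : AlgSp.EtOver X} (hQ : IsAffine (sch Q)) {A : AlgSp.ModEt X}
    (hA : Cor Q A) {K : AlgSp.DModEt X}
    (hK : DCoh.IsQCohDMod (AlgSp.OEtOn Q) ((AlgSp.resDEt Q).obj K))
    (b m : ℤ) (hbm : b < m) [K.IsLE b] (φ : (singleFunctor _ m).obj A ⟶ K) : φ = 0 := by
  have hu : Cor (Over.mk (𝟙 Q)) (SheafOfModules.unit (AlgSp.OEtOn Q)) := cor_unit Over.mkIdTerminal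
  obtain ⟨i⟩ := (cor_shriek (Over.mk (𝟙 Q)) hu).iso hA
  let e : (sD (AlgSp.OEtRing X) Q).obj ((singleFunctor _ m).obj (SheafOfModules.unit (AlgSp.OEtOn Q))) ≅
      (singleFunctor _ m).obj A := K290.Thick.sDSingle _ m ≪≫ (singleFunctor _ m).mapIso i
  have h4 := eq_zero_of_homEquiv (adjSR (AlgSp.OEtRing X) Q) (e.hom ≫ φ) (van_u hQ hu hK b m hbm _)
  exact (cancel_epi e.hom).1 (h4.trans comp_zero.symm)

theorem van_r {E : Over V} (hE : IsAffine (sch E.left)) {A : AlgSp.ModEtOn V} (hA : Cor E A)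
    {K : AlgSp.DModEt X} (hK : DCoh.IsQCohDMod (AlgSp.OEtOn E.left) ((AlgSp.resDEt E.left).obj K))
    (b m : ℤ) (hbm : b < m) (hb : DerivedCategory.IsLE K b)
    (φ : (singleFunctor _ m).obj A ⟶ (rD (AlgSp.OEtRing X) V).obj K) : φ = 0 := by
  refine eq_zero_of_symm (adjSR (AlgSp.OEtRing X) V) φ ?_
  have h4 := van_s hE (cor_shriek E hA) hK b m hbm
    ((K290.Thick.sDSingle A m).inv ≫ ((adjSR (AlgSp.OEtRing X) V).homEquiv _ _).symm φ)
  exact (cancel_epi (K290.Thick.sDSingle A m).inv).1 (h4.trans comp_zero.symm)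

open Groth.Agent.PerfA.PostAbs Pretriangulated in
theorem qcAt_truncLT {Q : AlgSp.EtOver X} {G : AlgSp.DModEt X}
    (hG : DCoh.IsQCohDMod (AlgSp.OEtOn Q) ((AlgSp.resDEt Q).obj G)) (m : ℤ) :
    DCoh.IsQCohDMod (AlgSp.OEtOn Q) ((AlgSp.resDEt Q).obj ((tt.truncLT m).obj G)) := by
  intro i
  by_cases h : i < m
  · have := isIso_homology_truncLTι G m i h
    let e : (homologyFunctor _ i).obj ((AlgSp.resDEt Q).obj ((tt.truncLT m).obj G)) ≅
        (homologyFunctor _ i).obj ((AlgSp.resDEt Q).obj G) :=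
      (mapHomology (AlgSp.resModEt Q) i).app _ ≪≫ (AlgSp.resModEt Q).mapIso (asIso ((homologyFunctor _ i).map
        ((tt.truncLTι m).app G))) ≪≫ ((mapHomology (AlgSp.resModEt Q) i).app _).symm
    exact (acycE Q).iso e.symm (hG i)
  · refine (acycE Q).zero ?_
    exact ((AlgSp.resModEt Q).map_isZero (isZero_of_isLE _ (m - 1) i (by lia))).of_iso
      ((mapHomology (AlgSp.resModEt Q) i).app _)

open Groth.Agent.PerfA.PostAbs in
theorem qcAt_shift {Q : AlgSp.EtOver X} {G : AlgSp.DModEt X}
    (hG : DCoh.IsQCohDMod (AlgSp.OEtOn Q) ((AlgSp.resDEt Q).obj G)) (n : ℤ) :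
    DCoh.IsQCohDMod (AlgSp.OEtOn Q) ((AlgSp.resDEt Q).obj (G⟦n⟧)) := by
  intro i
  let e : (homologyFunctor _ i).obj ((AlgSp.resDEt Q).obj (G⟦n⟧)) ≅
      (homologyFunctor _ (n + i)).obj ((AlgSp.resDEt Q).obj G) :=
    (homologyFunctor _ i).mapIso (((AlgSp.resDEt Q).commShiftIso n).app G) ≪≫
      ((homologyFunctor _ 0).shiftIso n i (n + i) rfl).app _
  exact (acycE Q).iso e.symm (hG (n + i))

open Groth.Agent.PerfA.PostAbs in
/-- Maps into restrictions of complexes which are quasi-coherent over `E`. -/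
theorem good_r {E : Over V} (hE : IsAffine (sch E.left)) {A : AlgSp.ModEtOn V} (hA : Cor E A)
    {G : AlgSp.DModEt X} (hG : DCoh.IsQCohDMod (AlgSp.OEtOn E.left) ((AlgSp.resDEt E.left).obj G)) (m : ℤ) :
    Function.Bijective (fun φ : (singleFunctor _ m).obj A ⟶ (rD (AlgSp.OEtRing X) V).obj G =>
      (homologyFunctor _ m).map φ) := by
  exact bij_abs (rst (AlgSp.OEtRing X) V) G A m
    (fun K => DCoh.IsQCohDMod (AlgSp.OEtOn E.left) ((AlgSp.resDEt E.left).obj K))
    (fun K hK hb φ => van_r hE hA hK (m - 1) m (by lia) hb φ) (qcAt_truncLT hG m)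
    (fun K hK => qcAt_shift hK 1)

end good

end K645.Good
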