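import Groth.Agent.AlgSp.K645.Tilde
import Groth.Agent.AlgSp.K645.ElemMV
import Groth.Agent.AlgSp.K646.Free

/-!
# Modules corepresenting the sections over an object
-/

set_option autoImplicit false

universe w v d u

open CategoryTheory CategoryTheory.Limits AlgebraicGeometry Opposite

namespace K645.IsO

open K645.Tilde

section

variable {D : Type d} [Category.{v} D] {J : GrothendieckTopology D} {R : Sheaf J RingCat.{w}}

/-- `A` corepresents the sections over `E`. -/
def Cor (E : D) (A : SheafOfModules.{w} R) : Prop :=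
  ∃ a : A.val.obj (op E), ∀ (M : SheafOfModules.{w} R) (m : M.val.obj (op E)),
    ∃! φ : A ⟶ M, φ.val.app (op E) a = m

theorem Cor.iso {E : D} {A A' : SheafOfModules.{w} R} (h : Cor E A) (h' : Cor E A') :
    Nonempty (A ≅ A') := by
  obtain ⟨a, ha⟩ := h
  obtain ⟨a', ha'⟩ := h'
  obtain ⟨f, hf, -⟩ := ha A' a'
  obtain ⟨g, hg, -⟩ := ha' A a
  refine ⟨⟨f, g, ?_, ?_⟩⟩
  · refine (ha A a).unique ?_ rfl
    change g.val.app (op E) (f.val.app (op E) a) = a
    rw [hf, hg]
  · refine (ha' A' a').unique ?_ rfl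
    change f.val.app (op E) (g.val.app (op E) a') = a'
    rw [hg, hf]

theorem Cor.of_iso {E : D} {A A' : SheafOfModules.{w} R} (h : Cor E A) (e : A ≅ A') : Cor E A' := by
  obtain ⟨a, ha⟩ := h
  refine ⟨e.hom.val.app (op E) a, fun M m => ?_⟩
  obtain ⟨f, hf, hu⟩ := ha M m
  refine ⟨e.inv ≫ f, ?_, fun g hg => ?_⟩
  · change f.val.app (op E) (e.inv.val.app (op E) (e.hom.val.app (op E) a)) = m
    have : e.inv.val.app (op E) (e.hom.val.app (op E) a) = a :=
      congrArg (fun k : A ⟶ A => k.val.app (op E) a) e.hom_inv_id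
    rw [this, hf]
  · rw [← hu (e.hom ≫ g) hg, Iso.inv_hom_id_assoc]

end

section

variable {D : Type d} [Category.{v} D] {J : GrothendieckTopology D} {R : Sheaf J RingCat.{max w v}}
  [HasSheafify J AddCommGrpCat.{max w v}] [J.WEqualsLocallyBijective AddCommGrpCat.{max w v}]

theorem cor_OU (E : D) : Cor E (K646.Free.OU.{w} R E) := by
  refine ⟨K646.Free.OUequiv.{w} (𝟙 _), fun M m => ⟨K646.Free.OUequiv.{w}.symm m, ?_, ?_⟩⟩
  · dsimp only
    rw [← K646.Free.OUequiv_comp.{w}, Category.id_comp, Equiv.apply_symm_apply]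
  · intro φ hφ
    rw [← K646.Free.OUequiv_comp.{w}, Category.id_comp] at hφ
    rw [← hφ, Equiv.symm_apply_apply]

end

section

variable {D : Type d} [Category.{v} D] {J : GrothendieckTopology D} {R : Sheaf J RingCat.{u + 1}}
  [HasSheafify J AddCommGrpCat.{u + 1}] [J.WEqualsLocallyBijective AddCommGrpCat.{u + 1}]
  {t : D} (ht : IsTerminal t)

theorem cor_tl : Cor t (tl (R := R) ht (ModuleCat.of (R.obj.obj (op t)) (R.obj.obj (op t)))) := by
  refine ⟨eta ht (ModuleCat.of (R.obj.obj (op t)) (R.obj.obj (op t))) (1 : R.obj.obj (op t)), fun M m => ?_⟩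
  refine ⟨desc ht (LinearMap.toSpanSingleton (R.obj.obj (op t)) (M.val.obj (op t)) m), ?_, ?_⟩
  · refine (ev_desc ht _ _).trans ?_
    exact one_smul _ m
  · intro φ hφ
    apply tl_hom_ext ht
    intro n
    rw [ev_desc]
    have h1 : n = (n : R.obj.obj (op t)) • (1 : R.obj.obj (op t)) := (mul_one n).symm
    have h2 : eta ht (ModuleCat.of (R.obj.obj (op t)) (R.obj.obj (op t))) n =
        (n : R.obj.obj (op t)) •
          eta ht (ModuleCat.of (R.obj.obj (op t)) (R.obj.obj (op t))) (1 : R.obj.obj (op t)) := by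
      refine Eq.trans ?_ (map_smul (eta ht (ModuleCat.of (R.obj.obj (op t)) (R.obj.obj (op t))))
        (n : R.obj.obj (op t)) (1 : R.obj.obj (op t)))
      exact congrArg _ h1
    rw [h2, map_smul]
    exact congrArg (fun z => (n : R.obj.obj (op t)) • z) hφ

omit [HasSheafify J AddCommGrpCat.{u + 1}] [J.WEqualsLocallyBijective AddCommGrpCat.{u + 1}] in
include ht in
theorem cor_unit : Cor t (SheafOfModules.unit R) := by
  refine ⟨(1 : R.obj.obj (op t)), fun M m => ?_⟩
  refine ⟨M.unitHomEquiv.symm (K644.Pres.secOf ht m), ?_, fun φ hφ => ?_⟩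
  · have h := Equiv.apply_symm_apply M.unitHomEquiv (K644.Pres.secOf ht m)
    have h1 := congrArg (fun s : M.sections => K644.Free.secAt s t) h
    rw [K644.Pres.secAt_secOf_self] at h1
    exact h1
  · rw [Equiv.eq_symm_apply]
    apply sections_ext ht
    rw [K644.Pres.secAt_secOf_self]
    exact hφ

end

section shriek

open K645.Shriek

variable {C : Type (u + 1)} [Category.{u} C] {J : GrothendieckTopology C} {R : Sheaf J RingCat.{u + 1}}

/-- `f_!` of a corepresenting module. -/
theorem cor_shriek {V : C} (U : Over V) {A : SheafOfModules.{u + 1} (R.over V)} (h : Cor U A) :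
    Cor U.left ((shriek R V).obj A) := by
  obtain ⟨a, ha⟩ := h
  refine ⟨((adj R V).unit.app A).val.app (op U) a, fun M m => ?_⟩
  obtain ⟨f, hf, hu⟩ := ha ((rst R V).obj M) m
  refine ⟨((adj R V).homEquiv _ _).symm f, ?_, fun φ hφ => ?_⟩
  · have h1 := Equiv.apply_symm_apply ((adj R V).homEquiv A M) f
    rw [Adjunction.homEquiv_unit] at h1
    exact (congrArg (fun k : A ⟶ (rst R V).obj M => k.val.app (op U) a) h1).trans hf
  · rw [Equiv.eq_symm_apply]
    apply hu
    rw [Adjunction.homEquiv_unit]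
    exact hφ

end shriek

end K645.IsO
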