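import Groth.Agent.AlgSp.K645.Ex
import Mathlib.Algebra.Category.ModuleCat.Presheaf.Submodule
import Mathlib.CategoryTheory.Sites.Over
import Mathlib.Algebra.Homology.ShortComplex.ExactFunctor

/-!
# Sections supported in an open

For a class `U` of objects of a site closed under precomposition ("an open of the final object") and a sheaf of
modules `M`, `lam U M = j_! j^* M` is the submodule of the sections of `M` which locally vanish or live on `U`.
-/

set_option autoImplicit false
set_option linter.unusedSectionVars false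
universe u

open CategoryTheory CategoryTheory.Limits Opposite

namespace K645.Lam
open K645.Ex

/-- A class of objects of `C` closed under precomposition. -/
structure Opn (C : Type (u + 1)) [Category.{u} C] where
  /-- the predicate -/
  mem : C → Prop
  down : ∀ {E' E : C}, (E' ⟶ E) → mem E → mem E'

variable {C : Type (u + 1)} [Category.{u} C] {J : GrothendieckTopology C} {R : Sheaf J RingCat.{u + 1}}

/-- A local submodule of a sheaf of modules is a sheaf. -/
theorem isSheaf_submodule (M : SheafOfModules.{u + 1} R) (N : M.val.Submodule)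
    (hN : ∀ (E : C) (m : M.val.obj (op E)) (T : Sieve E), T ∈ J E →
      (∀ ⦃E' : C⦄ (e : E' ⟶ E), T e → res M e m ∈ N.obj (op E')) → m ∈ N.obj (op E)) :
    Presheaf.IsSheaf J N.toPresheafOfModules.presheaf := by
  rw [Presheaf.isSheaf_iff_isSheaf_forget J _ (forget AddCommGrpCat), isSheaf_iff_isSheaf_of_type]
  have hM := (isSheaf_iff_isSheaf_of_type J _).1
    ((Presheaf.isSheaf_iff_isSheaf_forget J _ (forget AddCommGrpCat)).1 M.isSheaf)
  intro E T hT x hx
  let x' : Presieve.FamilyOfElements (M.val.presheaf ⋙ forget AddCommGrpCat) (T : Presieve E) :=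
    fun E' e he => (x e he : N.obj (op E')).1
  have hx' : x'.Compatible := by
    intro E₁ E₂ F g₁ g₂ f₁ f₂ h₁ h₂ fac
    exact congrArg Subtype.val (hx g₁ g₂ h₁ h₂ fac)
  obtain ⟨m, hm, hm'⟩ := hM T hT x' hx'
  have hmem : (show M.val.obj (op E) from m) ∈ N.obj (op E) := by
    refine hN E m T hT fun E' e he => ?_
    have h1 : res M e m = x' e he := hm e he
    rw [h1]
    exact (x e he : N.obj (op E')).2
  refine ⟨⟨m, hmem⟩, fun E' e he => Subtype.ext (hm e he), fun m₂ hm₂ => Subtype.ext ?_⟩
  exact hm' _ (fun E' e he => congrArg Subtype.val (hm₂ e he))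

variable (U : Opn C)

/-- The sections of `M` which locally vanish or live over an object of `U`. -/
noncomputable def sub (M : SheafOfModules.{u + 1} R) : M.val.Submodule where
  obj E :=
    { carrier := {m | ∃ T ∈ J E.unop, ∀ ⦃E' : C⦄ (e : E' ⟶ E.unop), T e →
        U.mem E' ∨ res M e m = 0}
      zero_mem' := ⟨⊤, J.top_mem _, fun E' e _ => Or.inr (map_zero _)⟩
      add_mem' := by
        rintro a b ⟨T, hT, ha⟩ ⟨T', hT', hb⟩
        refine ⟨T ⊓ T', J.intersection_covering hT hT', fun E' e he => ?_⟩
        rcases ha e he.1 with h | h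
        · exact Or.inl h
        rcases hb e he.2 with h' | h'
        · exact Or.inl h'
        · exact Or.inr (by rw [map_add, h, h', add_zero])
      smul_mem' := by
        rintro r a ⟨T, hT, ha⟩
        refine ⟨T, hT, fun E' e he => ?_⟩
        rcases ha e he with h | h
        · exact Or.inl h
        · exact Or.inr (by rw [map_smulₛₗ, h, smul_zero]) }
  map {E E'} f := by
    rintro a ⟨T, hT, ha⟩
    refine ⟨T.pullback f.unop, J.pullback_stable f.unop hT, fun E'' e he => ?_⟩
    rcases ha _ he with h | h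
    · exact Or.inl h
    · exact Or.inr (by
        rw [← h]
        exact (res_comp M f.unop e a).symm)

lemma mem_sub_iff (M : SheafOfModules.{u + 1} R) {E : C} (m : M.val.obj (op E)) :
    m ∈ (sub U M).obj (op E) ↔ ∃ T ∈ J E, ∀ ⦃E' : C⦄ (e : E' ⟶ E), T e →
        U.mem E' ∨ res M e m = 0 := Iff.rfl

lemma mem_sub_of_mem (M : SheafOfModules.{u + 1} R) {E : C} (hE : U.mem E) (m : M.val.obj (op E)) :
    m ∈ (sub U M).obj (op E) := ⟨⊤, J.top_mem _, fun _ e _ => Or.inl (U.down e hE)⟩

lemma mem_sub_of_local (M : SheafOfModules.{u + 1} R) {E : C} (m : M.val.obj (op E)) (T : Sieve E)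
    (hT : T ∈ J E) (h : ∀ ⦃E' : C⦄ (e : E' ⟶ E), T e → res M e m ∈ (sub U M).obj (op E')) :
    m ∈ (sub U M).obj (op E) := by
  choose T' hT' hT'' using fun (E' : C) (e : E' ⟶ E) (he : T e) => (mem_sub_iff U M _).1 (h e he)
  refine ⟨Sieve.bind T.arrows fun E' e he => T' E' e he, J.bind_covering hT fun E' e he => hT' E' e he, ?_⟩
  rintro E'' _ ⟨E', e'', e', he', he'', rfl⟩
  rcases hT'' E' e' he' e'' he'' with h | h
  · exact Or.inl h
  · exact Or.inr (by rw [res_comp, h])

/-- `j_! j^* M` as a sheaf of modules. -/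
noncomputable def obj (M : SheafOfModules.{u + 1} R) : SheafOfModules.{u + 1} R where
  val := (sub U M).toPresheafOfModules
  isSheaf := isSheaf_submodule M _ fun _ m T hT h => mem_sub_of_local U M m T hT h

/-- The inclusion `j_! j^* M ⟶ M`. -/
noncomputable def inc (M : SheafOfModules.{u + 1} R) : obj U M ⟶ M := ⟨(sub U M).ι⟩

lemma ap_inc (M : SheafOfModules.{u + 1} R) (E : C) (x : (obj U M).val.obj (op E)) :
    ap (inc U M) E x = (x : (sub U M).obj (op E)).1 := rfl

lemma ap_inc_mem (M : SheafOfModules.{u + 1} R) (E : C) (x : (obj U M).val.obj (op E)) :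
    ap (inc U M) E x ∈ (sub U M).obj (op E) := (x : (sub U M).obj (op E)).2

lemma ap_inc_injective (M : SheafOfModules.{u + 1} R) (E : C) : Function.Injective (ap (inc U M) E) :=
  fun _ _ h => Subtype.ext h

lemma exists_ap_inc (M : SheafOfModules.{u + 1} R) (E : C) (m : M.val.obj (op E))
    (hm : m ∈ (sub U M).obj (op E)) : ∃ x, ap (inc U M) E x = m := ⟨⟨m, hm⟩, rfl⟩

instance (M : SheafOfModules.{u + 1} R) : Mono (inc U M) :=
  mono_of_injective _ fun E x h => ap_inc_injective U M E (by rw [h, map_zero])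

lemma ap_mem_sub {M N : SheafOfModules.{u + 1} R} (f : M ⟶ N) {E : C} {m : M.val.obj (op E)}
    (hm : m ∈ (sub U M).obj (op E)) : ap f E m ∈ (sub U N).obj (op E) := by
  obtain ⟨T, hT, h⟩ := hm
  refine ⟨T, hT, fun E' e he => ?_⟩
  rcases h e he with h | h
  · exact Or.inl h
  · exact Or.inr (by rw [← ap_res, h, map_zero])

lemma res_mem_sub (M : SheafOfModules.{u + 1} R) {E E' : C} (e : E' ⟶ E) {m : M.val.obj (op E)}
    (hm : m ∈ (sub U M).obj (op E)) : res M e m ∈ (sub U M).obj (op E') :=
  (sub U M).map e.op hm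

/-- A morphism whose values are supported in `U` factors through `j_! j^*`. -/
noncomputable def lift {M N : SheafOfModules.{u + 1} R} (f : M ⟶ N)
    (h : ∀ (E : C) (m : M.val.obj (op E)), ap f E m ∈ (sub U N).obj (op E)) : M ⟶ obj U N where
  val := PresheafOfModules.homMk
    { app := fun E => AddCommGrpCat.ofHom
        (((f.val.app E).hom.codRestrict ((sub U N).obj E) (h E.unop)).toAddMonoidHom)
      naturality := fun E E' e => by
        ext m
        apply Subtype.ext
        exact ap_res f e.unop m }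
    (fun E r m => Subtype.ext (map_smul (f.val.app E).hom r m))

lemma lift_inc {M N : SheafOfModules.{u + 1} R} (f : M ⟶ N)
    (h : ∀ (E : C) (m : M.val.obj (op E)), ap f E m ∈ (sub U N).obj (op E)) : lift U f h ≫ inc U N = f :=
  Ex.hom_ext fun _ _ => rfl

/-- The functor `j_! j^*`. -/
noncomputable abbrev lam (R : Sheaf J RingCat.{u + 1}) : SheafOfModules.{u + 1} R ⥤ SheafOfModules.{u + 1} R where
  obj M := obj U M
  map {M N} f := lift U (inc U M ≫ f) fun E m => ap_mem_sub U f (ap_inc_mem U M E m)
  map_id M := by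
    rw [← cancel_mono (inc U M), lift_inc, Category.comp_id, Category.id_comp]
  map_comp {M N P} f g := by
    rw [← cancel_mono (inc U P), lift_inc, Category.assoc, lift_inc, ← Category.assoc (inc U M) f g,
      ← Category.assoc (lift U _ _), lift_inc]

/-- The inclusion `j_! j^* ⟶ 𝟭`. -/
noncomputable abbrev ι (R : Sheaf J RingCat.{u + 1}) : lam U R ⟶ 𝟭 _ where
  app M := inc U M
  naturality M N f := lift_inc U (inc U M ≫ f) (fun E m => ap_mem_sub U f (ap_inc_mem U M E m))

@[simp] lemma ι_app (M : SheafOfModules.{u + 1} R) : (ι U R).app M = inc U M := rfl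

@[reassoc] lemma lam_map_inc {M N : SheafOfModules.{u + 1} R} (f : M ⟶ N) :
    (lam U R).map f ≫ inc U N = inc U M ≫ f := (ι U R).naturality f

lemma ap_lam_map {M N : SheafOfModules.{u + 1} R} (f : M ⟶ N) (E : C) (x : (obj U M).val.obj (op E)) :
    ap (inc U N) E (ap ((lam U R).map f) E x) = ap f E (ap (inc U M) E x) := rfl

instance : (lam U R).Additive where
  map_add {M N f g} := by
    rw [← cancel_mono (inc U N), lam_map_inc, Preadditive.add_comp, lam_map_inc, lam_map_inc,
      Preadditive.comp_add]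

section Exact

variable [HasSheafify J AddCommGrpCat.{u + 1}] [J.WEqualsLocallyBijective AddCommGrpCat.{u + 1}]

lemma lam_mono {M N : SheafOfModules.{u + 1} R} (f : M ⟶ N) [Mono f] : Mono ((lam U R).map f) := by
  have : Mono ((lam U R).map f ≫ inc U N) := by
    rw [lam_map_inc]; infer_instance
  exact mono_of_mono _ (inc U N)

lemma lam_epi {M N : SheafOfModules.{u + 1} R} (f : M ⟶ N) [Epi f] : Epi ((lam U R).map f) := by
  refine epi_of_locSurj _ fun E y => ?_
  obtain ⟨T, hT, h⟩ := ap_inc_mem U N E y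
  obtain ⟨T', hT', h'⟩ := locSurj_of_epi f E (ap (inc U N) E y)
  refine ⟨T ⊓ T', J.intersection_covering hT hT', fun E' e he => ?_⟩
  rcases h e he.1 with h1 | h1
  · obtain ⟨x, hx⟩ := h' e he.2
    obtain ⟨x', hx'⟩ := exists_ap_inc U M E' x (mem_sub_of_mem U M h1 x)
    refine ⟨x', ap_inc_injective U N E' ?_⟩
    rw [ap_lam_map, hx', hx, ap_res]
  · refine ⟨0, ap_inc_injective U N E' ?_⟩
    rw [map_zero, map_zero, ap_res, h1]

lemma lam_exact (S : ShortComplex (SheafOfModules.{u + 1} R)) (hS : S.Exact) [Mono S.f] :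
    (S.map (lam U R)).Exact := by
  refine exact_of_local _ fun E y hy => ?_
  have h1 : ap S.g E (ap (inc U S.X₂) E y) = 0 := by
    rw [← ap_lam_map]
    refine (congrArg (ap (inc U S.X₃) E) hy).trans (map_zero _)
  obtain ⟨x, hx⟩ := exists_of_exact S hS E _ h1
  obtain ⟨T, hT, h⟩ := ap_inc_mem U S.X₂ E y
  have hx' : x ∈ (sub U S.X₁).obj (op E) := by
    refine ⟨T, hT, fun E' e he => ?_⟩
    rcases h e he with h1 | h1
    · exact Or.inl h1
    · refine Or.inr (injective_of_mono S.f E' ?_)
      rw [ap_res, hx, h1, map_zero]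
  obtain ⟨x', rfl⟩ := exists_ap_inc U _ E x hx'
  refine ⟨⊤, J.top_mem _, fun E' e _ => ⟨res _ e x', ap_inc_injective U _ E' ?_⟩⟩
  change ap (inc U S.X₂) E' (ap ((lam U R).map S.f) E' (res (obj U S.X₁) e x')) =
    ap (inc U S.X₂) E' (res (obj U S.X₂) e y)
  rw [ap_lam_map, ap_res, ap_res, ap_res, hx]

lemma lam_shortExact (S : ShortComplex (SheafOfModules.{u + 1} R)) (hS : S.ShortExact) :
    (S.map (lam U R)).ShortExact := by
  have := hS.mono_f
  have := hS.epi_g
  exact { exact := lam_exact U S hS.exact, mono_f := lam_mono U S.f, epi_g := lam_epi U S.g }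

instance : PreservesFiniteLimits (lam U R) := by
  have h := ((lam U R).exact_tfae.out 0 3).1 (lam_shortExact U)
  exact h.1

instance : PreservesFiniteColimits (lam U R) := by
  have h := ((lam U R).exact_tfae.out 0 3).1 (lam_shortExact U)
  exact h.2

end Exact

end K645.Lam
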