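import Groth.Agent.AlgSp.K645.Lam
import Groth.Agent.PerfA.MVAbs

/-!
# Compositions and Mayer–Vietoris for `j_! j^*`
-/

set_option autoImplicit false
set_option linter.unusedSectionVars false
universe u

open CategoryTheory CategoryTheory.Limits Opposite

namespace K645.Lam
open K645.Ex

variable {C : Type (u + 1)} [Category.{u} C] {J : GrothendieckTopology C} {R : Sheaf J RingCat.{u + 1}}

variable (J) in
/-- `U ≤ V` locally. -/
def LE (U V : Opn C) : Prop := ∀ E : C, U.mem E → ∃ T ∈ J E, ∀ ⦃E' : C⦄ (e : E' ⟶ E), T e → V.mem E'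

variable {U V W : Opn C}

lemma mem_sub_mono (h : LE J U V) (M : SheafOfModules.{u + 1} R) {E : C} {m : M.val.obj (op E)}
    (hm : m ∈ (sub U M).obj (op E)) : m ∈ (sub V M).obj (op E) := by
  obtain ⟨T, hT, h'⟩ := hm
  refine mem_sub_of_local V M m T hT fun E' e he => ?_
  rcases h' e he with h1 | h1
  · obtain ⟨T', hT', h2⟩ := h E' h1
    exact ⟨T', hT', fun E'' e' he' => Or.inl (h2 e' he')⟩
  · rw [h1]
    exact Submodule.zero_mem _

/-- The inclusion for `U ≤ V`. -/
noncomputable def incLE (h : LE J U V) (M : SheafOfModules.{u + 1} R) : obj U M ⟶ obj V M :=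
  lift V (inc U M) fun E m => mem_sub_mono h M (ap_inc_mem U M E m)

@[reassoc (attr := simp)] lemma incLE_inc (h : LE J U V) (M : SheafOfModules.{u + 1} R) :
    incLE h M ≫ inc V M = inc U M := lift_inc _ _ _

/-- The inclusion for `U ≤ V`, as a natural transformation. -/
noncomputable abbrev ιLE (h : LE J U V) (R : Sheaf J RingCat.{u + 1}) : lam U R ⟶ lam V R where
  app M := incLE h M
  naturality M N f := by
    rw [← cancel_mono (inc V N), Category.assoc, incLE_inc, Category.assoc, lam_map_inc, lam_map_inc,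
      ← Category.assoc, incLE_inc]

lemma isIso_lam_map_inc (h : LE J U V) (M : SheafOfModules.{u + 1} R) : IsIso ((lam U R).map (inc V M)) := by
  refine isIso_of_local _ (fun E x hx => ?_) (fun E y => ?_)
  · apply ap_inc_injective U (obj V M) E
    apply ap_inc_injective V M E
    have h1 : ap (inc U M) E (ap ((lam U R).map (inc V M)) E x) = ap (inc V M) E (ap (inc U (obj V M)) E x) :=
      ap_lam_map U (inc V M) E x
    rw [← h1, hx]
    simp only [map_zero]
  · have hy : ap (inc U M) E y ∈ (sub V M).obj (op E) := mem_sub_mono h M (ap_inc_mem U M E y)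
    obtain ⟨z, hz⟩ := exists_ap_inc V M E _ hy
    obtain ⟨T, hT, h'⟩ := ap_inc_mem U M E y
    have hz' : z ∈ (sub U (obj V M)).obj (op E) := by
      refine ⟨T, hT, fun E' e he => ?_⟩
      rcases h' e he with h1 | h1
      · exact Or.inl h1
      · refine Or.inr (ap_inc_injective V M E' ?_)
        rw [ap_res, hz, map_zero]
        exact h1
    obtain ⟨t, ht⟩ := exists_ap_inc U (obj V M) E z hz'
    refine ⟨⊤, J.top_mem _, fun E' e _ => ⟨res _ e t, ?_⟩⟩
    apply ap_inc_injective U M E'
    have h1 : ap (inc U M) E' (ap ((lam U R).map (inc V M)) E' (res (obj U (obj V M)) e t)) =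
      ap (inc V M) E' (ap (inc U (obj V M)) E' (res (obj U (obj V M)) e t)) :=
      ap_lam_map U (inc V M) E' _
    refine h1.trans ?_
    rw [ap_res, ap_res, ht, hz, ← ap_res]

lemma isIso_inc_obj (h : LE J V U) (M : SheafOfModules.{u + 1} R) : IsIso (inc U (obj V M)) := by
  refine isIso_of_local _ (fun E x hx => ?_) (fun E y => ?_)
  · exact ap_inc_injective U _ E (by rw [hx, map_zero])
  · obtain ⟨T, hT, h'⟩ := mem_sub_mono h M (ap_inc_mem V M E y)
    have hy : y ∈ (sub U (obj V M)).obj (op E) := by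
      refine ⟨T, hT, fun E' e he => ?_⟩
      rcases h' e he with h1 | h1
      · exact Or.inl h1
      · refine Or.inr (ap_inc_injective V M E' ?_)
        rw [ap_res, map_zero]
        exact h1
    obtain ⟨t, ht⟩ := exists_ap_inc U (obj V M) E y hy
    exact ⟨⊤, J.top_mem _, fun E' e _ => ⟨res _ e t, by rw [ap_res, ht]⟩⟩

/-- `j_! j^* M = 0` iff `M` vanishes on `U`. -/
lemma isZero_lam_iff (U : Opn C) (M : SheafOfModules.{u + 1} R) :
    IsZero ((lam U R).obj M) ↔ ∀ E : C, U.mem E → ∀ m : M.val.obj (op E), m = 0 := by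
  constructor
  · intro h E hE m
    obtain ⟨x, rfl⟩ := exists_ap_inc U M E m (mem_sub_of_mem U M hE m)
    have h1 : inc U M = 0 := h.eq_of_src _ _
    rw [h1, ap_zero]
  · intro h
    rw [IsZero.iff_id_eq_zero, ← cancel_mono (inc U M)]
    refine hom_ext_of_cover fun E x => ?_
    obtain ⟨T, hT, h'⟩ := ap_inc_mem U M E x
    refine ⟨T, hT, fun E' e he => ?_⟩
    rw [zero_comp, ap_zero, Category.id_comp, ap_res]
    rcases h' e he with h1 | h1
    · exact h E' h1 _
    · exact h1

section MV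

/-- The intersection of two opens. -/
def inter (U V : Opn C) : Opn C where
  mem E := U.mem E ∧ V.mem E
  down f h := ⟨U.down f h.1, V.down f h.2⟩

lemma inter_le_left (U V : Opn C) : LE J (inter U V) U :=
  fun _ h => ⟨⊤, J.top_mem _, fun _ e _ => U.down e h.1⟩

lemma inter_le_right (U V : Opn C) : LE J (inter U V) V :=
  fun _ h => ⟨⊤, J.top_mem _, fun _ e _ => V.down e h.2⟩

variable (h₁ : LE J U W) (h₂ : LE J V W)
  (hW : ∀ E : C, W.mem E → ∃ T ∈ J E, ∀ ⦃E' : C⦄ (e : E' ⟶ E), T e → U.mem E' ∨ V.mem E')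

/-- Elementwise criterion for Mayer–Vietoris sequences. -/
lemma shortExact_mv {A B B' D : SheafOfModules.{u + 1} R} (α : A ⟶ B) (α' : A ⟶ B') (β : B ⟶ D) (β' : B' ⟶ D)
    (zero : biprod.lift α (-α') ≫ biprod.desc β β' = 0)
    (hinj : ∀ (E : C) (x : A.val.obj (op E)), ap α E x = 0 → ap α' E x = 0 → x = 0)
    (hmid : ∀ (E : C) (y : B.val.obj (op E)) (y' : B'.val.obj (op E)), ap β E y + ap β' E y' = 0 →
      ∃ T ∈ J E, ∀ ⦃E' : C⦄ (e : E' ⟶ E), T e → ∃ x, ap α E' x = res B e y ∧ ap α' E' x = - res B' e y')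
    (hsurj : ∀ (E : C) (z : D.val.obj (op E)), ∃ T ∈ J E, ∀ ⦃E' : C⦄ (e : E' ⟶ E), T e →
      ∃ y y', ap β E' y + ap β' E' y' = res D e z) :
    (ShortComplex.mk (biprod.lift α (-α')) (biprod.desc β β') zero).ShortExact := by
  have hfst : ∀ (E : C) (x : A.val.obj (op E)),
      ap (biprod.fst (X := B) (Y := B')) E (ap (biprod.lift α (-α')) E x) = ap α E x := fun E x => by
    rw [← ap_comp, biprod.lift_fst]
  have hsnd : ∀ (E : C) (x : A.val.obj (op E)),
      ap (biprod.snd (X := B) (Y := B')) E (ap (biprod.lift α (-α')) E x) = -ap α' E x := fun E x => by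
    rw [← ap_comp, biprod.lift_snd, ap_neg]
  have htot : ∀ (E : C) (z : (B ⊞ B' : SheafOfModules.{u + 1} R).val.obj (op E)),
      z = ap biprod.inl E (ap biprod.fst E z) + ap biprod.inr E (ap biprod.snd E z) := fun E z => by
    have h1 := congrArg (fun t => ap t E z) (biprod.total (X := B) (Y := B'))
    simp only [ap_add, ap_comp, ap_id] at h1
    exact h1.symm
  have hext : ∀ (E : C) (z z' : (B ⊞ B' : SheafOfModules.{u + 1} R).val.obj (op E)),
      ap biprod.fst E z = ap biprod.fst E z' → ap biprod.snd E z = ap biprod.snd E z' → z = z' := by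
    intro E z z' h1 h2
    rw [htot E z, htot E z', h1, h2]
  have hdesc : ∀ (E : C) (z : (B ⊞ B' : SheafOfModules.{u + 1} R).val.obj (op E)),
      ap (biprod.desc β β') E z = ap β E (ap biprod.fst E z) + ap β' E (ap biprod.snd E z) := fun E z => by
    have h1 : ap (biprod.desc β β') E (ap biprod.inl E (ap biprod.fst E z)) = ap β E (ap biprod.fst E z) := by
      rw [← ap_comp biprod.inl, biprod.inl_desc]
    have h2 : ap (biprod.desc β β') E (ap biprod.inr E (ap biprod.snd E z)) = ap β' E (ap biprod.snd E z) := by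
      rw [← ap_comp biprod.inr, biprod.inr_desc]
    conv_lhs => rw [htot E z]
    rw [map_add, h1, h2]
  refine shortExact_of_local _ (fun E x hx => ?_) (fun E z hz => ?_) (fun E z => ?_)
  · have hx' : ap (biprod.lift α (-α')) E x = 0 := hx
    refine hinj E x ?_ ?_
    · rw [← hfst, hx', map_zero]
    · rw [← neg_eq_zero, ← hsnd, hx', map_zero]
  · obtain ⟨T, hT, h⟩ := hmid E (ap biprod.fst E z) (ap biprod.snd E z) (by rw [← hdesc]; exact hz)
    refine ⟨T, hT, fun E' e he => ?_⟩
    obtain ⟨x, hx, hx'⟩ := h e he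
    refine ⟨x, hext _ _ _ ?_ ?_⟩
    · rw [hfst, hx, ap_res]
    · rw [hsnd, hx', neg_neg, ap_res]
  · obtain ⟨T, hT, h⟩ := hsurj E z
    refine ⟨T, hT, fun E' e he => ?_⟩
    obtain ⟨y, y', hy⟩ := h e he
    refine ⟨ap biprod.inl E' y + ap biprod.inr E' y', ?_⟩
    change ap (biprod.desc β β') E' _ = _
    rw [map_add, ← ap_comp, ← ap_comp, biprod.inl_desc, biprod.inr_desc, hy]

lemma ap_incLE (h : LE J U V) (M : SheafOfModules.{u + 1} R) (E : C) (x : (obj U M).val.obj (op E)) :
    ap (inc V M) E (ap (incLE h M) E x) = ap (inc U M) E x := by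
  rw [← ap_comp, incLE_inc]

lemma incLE_comm (M : SheafOfModules.{u + 1} R) :
    (ιLE (inter_le_left U V) R).app M ≫ (ιLE h₁ R).app M =
      (ιLE (inter_le_right U V) R).app M ≫ (ιLE h₂ R).app M := by
  rw [← cancel_mono (inc W M), Category.assoc, Category.assoc, incLE_inc, incLE_inc, incLE_inc, incLE_inc]

include hW in
/-- Mayer–Vietoris. -/
theorem mv_shortExact (M : SheafOfModules.{u + 1} R) :
    (Groth.Agent.PerfA.MVAbs.mv (ιLE (inter_le_left U V) R) (ιLE (inter_le_right U V) R)
      (ιLE h₁ R) (ιLE h₂ R) (incLE_comm h₁ h₂) M).ShortExact := by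
  refine shortExact_mv _ _ _ _ _ (fun E x hx _ => ?_) (fun E y y' h => ?_) (fun E z => ?_)
  · apply ap_inc_injective (inter U V) M E
    rw [← ap_incLE (inter_le_left U V)]
    refine (congrArg (ap (inc U M) E) hx).trans ?_
    simp only [map_zero]
  · have h0 : ap (inc U M) E y = - ap (inc V M) E y' := by
      have h' := congrArg (ap (inc W M) E) h
      rw [map_add, map_zero] at h'
      have h1 : ap (inc W M) E (ap (incLE h₁ M) E y) = ap (inc U M) E y := ap_incLE _ _ _ _
      have h2 : ap (inc W M) E (ap (incLE h₂ M) E y') = ap (inc V M) E y' := ap_incLE _ _ _ _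
      rw [← h1, ← h2]
      exact eq_neg_of_add_eq_zero_left h'
    have hm : ap (inc U M) E y ∈ (sub (inter U V) M).obj (op E) := by
      obtain ⟨T, hT, h1⟩ := ap_inc_mem U M E y
      obtain ⟨T', hT', h2⟩ := ap_inc_mem V M E y'
      refine ⟨T ⊓ T', J.intersection_covering hT hT', fun E' e he => ?_⟩
      rcases h1 e he.1 with h3 | h3
      · rcases h2 e he.2 with h4 | h4
        · exact Or.inl ⟨h3, h4⟩
        · refine Or.inr ?_
          rw [h0, map_neg]
          exact neg_eq_zero.2 h4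
      · exact Or.inr h3
    obtain ⟨x, hx⟩ := exists_ap_inc (inter U V) M E _ hm
    refine ⟨⊤, J.top_mem _, fun E' e _ => ⟨res _ e x, ?_, ?_⟩⟩
    · apply ap_inc_injective U M E'
      have h1 : ap (inc U M) E' (ap (incLE (inter_le_left U V) M) E' (res _ e x)) =
        ap (inc (inter U V) M) E' (res _ e x) := ap_incLE _ _ _ _
      refine h1.trans ?_
      rw [ap_res, hx, ap_res]
    · apply ap_inc_injective V M E'
      have h1 : ap (inc V M) E' (ap (incLE (inter_le_right U V) M) E' (res _ e x)) =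
        ap (inc (inter U V) M) E' (res _ e x) := ap_incLE _ _ _ _
      refine h1.trans ?_
      rw [ap_res, hx, h0, map_neg, map_neg, ap_res]
  · obtain ⟨T, hT, h⟩ := ap_inc_mem W M E z
    choose T' hT' hT'' using fun (E' : C) (hE' : W.mem E') => hW E' hE'
    have key : ∀ ⦃E' : C⦄ (e : E' ⟶ E), T e → ∃ T₁ ∈ J E', ∀ ⦃E'' : C⦄ (e' : E'' ⟶ E'), T₁ e' →
        U.mem E'' ∨ V.mem E'' ∨ res M (e' ≫ e) (ap (inc W M) E z) = 0 := by
      intro E' e he
      rcases h e he with h1 | h1
      · exact ⟨T' E' h1, hT' E' h1, fun E'' e' he' => by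
          rcases hT'' E' h1 e' he' with h2 | h2
          · exact Or.inl h2
          · exact Or.inr (Or.inl h2)⟩
      · exact ⟨⊤, J.top_mem _, fun E'' e' _ => Or.inr (Or.inr (by rw [res_comp, h1, map_zero]))⟩
    choose T₁ hT₁ hT₁' using key
    refine ⟨Sieve.bind T.arrows fun E' e he => T₁ e he, J.bind_covering hT fun E' e he => hT₁ e he, ?_⟩
    rintro E'' _ ⟨E', e'', e', he', he'', rfl⟩
    rcases hT₁' e' he' e'' he'' with h1 | h1 | h1
    · obtain ⟨y, hy⟩ := exists_ap_inc U M E'' _ (mem_sub_of_mem U M h1 (res M (e'' ≫ e') (ap (inc W M) E z)))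
      refine ⟨y, 0, ?_⟩
      rw [map_zero, add_zero]
      apply ap_inc_injective W M E''
      have h2 : ap (inc W M) E'' (ap (incLE h₁ M) E'' y) = ap (inc U M) E'' y := ap_incLE _ _ _ _
      refine h2.trans ?_
      rw [hy, ap_res]
    · obtain ⟨y, hy⟩ := exists_ap_inc V M E'' _ (mem_sub_of_mem V M h1 (res M (e'' ≫ e') (ap (inc W M) E z)))
      refine ⟨0, y, ?_⟩
      rw [map_zero, zero_add]
      apply ap_inc_injective W M E''
      have h2 : ap (inc W M) E'' (ap (incLE h₂ M) E'' y) = ap (inc V M) E'' y := ap_incLE _ _ _ _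
      refine h2.trans ?_
      rw [hy, ap_res]
    · refine ⟨0, 0, ?_⟩
      rw [map_zero, map_zero, zero_add]
      apply ap_inc_injective W M E''
      rw [map_zero, ap_res]
      exact h1.symm

end MV

end K645.Lam
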