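import Groth.Agent.AlgSp.K645.PsiMain
import Groth.Agent.PerfB.KoszulOrth

/-!
# The unit `M ⟶ RΓ(W, M~)`, and objects orthogonal to the Koszul complex
-/

set_option autoImplicit false
set_option linter.unusedSectionVars false

universe u

open CategoryTheory CategoryTheory.Limits Pretriangulated

namespace K645.PsiUnit

section abs

open Groth.Agent.PerfB.KoszulOrth

variable {A D : Type*} [Category* A] [Category* D] [Preadditive A] [Preadditive D] [HasZeroObject A]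
  [HasZeroObject D] [HasShift A ℤ] [HasShift D ℤ] [∀ n : ℤ, (shiftFunctor A n).Additive]
  [∀ n : ℤ, (shiftFunctor D n).Additive] [Pretriangulated A] [Pretriangulated D]
  (T : A ⥤ D) [T.CommShift ℤ] [T.IsTriangulated] (G : D ⥤ D) [G.CommShift ℤ] [G.IsTriangulated]
  (ι : G ⟶ 𝟭 D)

/-- The unit. -/
theorem exists_eta (hι : ∀ X, IsIso (G.map (ι.app X))) {M R : A} {c : G.obj (T.obj R) ⟶ T.obj M}
    (hc : ∀ N : A, Function.Bijective (fun ψ : N ⟶ R => G.map (T.map ψ) ≫ c)) (hc' : IsIso (G.map c)) :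
    ∃ η : M ⟶ R, G.map (T.map η) ≫ c = ι.app (T.obj M) ∧ IsIso (G.map (T.map η)) := by
  obtain ⟨η, hη⟩ := (hc M).2 (ι.app (T.obj M))
  dsimp only at hη
  refine ⟨η, hη, ?_⟩
  have h1 : IsIso (G.map (G.map (T.map η))) := by
    have h2 : G.map (G.map (T.map η)) ≫ G.map c = G.map (ι.app (T.obj M)) := by
      rw [← Functor.map_comp, hη]
    have h3 : IsIso (G.map (G.map (T.map η)) ≫ G.map c) := by
      rw [h2]
      exact hι _
    exact IsIso.of_isIso_comp_right _ (G.map c)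
  have h4 := hι (T.obj M)
  have h5 := hι (T.obj R)
  have h6 : G.map (G.map (T.map η)) ≫ G.map (ι.app (T.obj R)) =
      G.map (ι.app (T.obj M)) ≫ G.map (T.map η) := by
    rw [← Functor.map_comp, ← Functor.map_comp]
    exact congrArg _ (ι.naturality (T.map η))
  have h7 : IsIso (G.map (ι.app (T.obj M)) ≫ G.map (T.map η)) := by
    rw [← h6]
    infer_instance
  exact IsIso.of_isIso_comp_left (G.map (ι.app (T.obj M))) _

theorem abs_exists (hι : ∀ X, IsIso (G.map (ι.app X))) (M : A)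
    (h : ∃ (R : A) (c : G.obj (T.obj R) ⟶ T.obj M),
      (∀ N : A, Function.Bijective (fun ψ : N ⟶ R => G.map (T.map ψ) ≫ c)) ∧ IsIso (G.map c)) :
    ∃ (R : A) (η : M ⟶ R) (c : G.obj (T.obj R) ⟶ T.obj M), IsIso (G.map (T.map η)) ∧
      G.map (T.map η) ≫ c = ι.app (T.obj M) ∧
      ∀ (N : A) (a : G.obj (T.obj N) ⟶ T.obj M), ∃ ψ : N ⟶ R, G.map (T.map ψ) ≫ c = a := by
  obtain ⟨R, c, hc, hc'⟩ := h
  obtain ⟨η, h1, h2⟩ := exists_eta T G ι hι hc hc'
  exact ⟨R, η, c, h2, h1, fun N a => (hc N).2 a⟩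

/-- The unit is an isomorphism at objects orthogonal to `K`. -/
theorem isIso_eta {M R : A} {c : G.obj (T.obj R) ⟶ T.obj M}
    (hc : ∀ N : A, Function.Bijective (fun ψ : N ⟶ R => G.map (T.map ψ) ≫ c))
    {K : A} (hK0 : IsZero (G.obj (T.obj K)))
    (hK : ∀ C : A, IsZero (G.obj (T.obj C)) → orth K C → IsZero C) (hM : orth K M)
    (η : M ⟶ R) (hη : IsIso (G.map (T.map η))) : IsIso η := by
  obtain ⟨C, g, h, hT⟩ := distinguished_cocone_triangle η
  refine (Triangle.isZero₃_iff_isIso₁ _ hT).1 (hK C ?_ ?_)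
  · exact (Triangle.isZero₃_iff_isIso₁ _ (G.map_distinguished _ (T.map_distinguished _ hT))).2 hη
  · refine orth.obj₃ _ hT hM fun n φ => ?_
    have h1 : IsZero (G.obj (T.obj (K⟦n⟧))) :=
      ((shiftFunctor D n).map_isZero hK0).of_iso
        (G.mapIso ((T.commShiftIso n).app K) ≪≫ (G.commShiftIso n).app (T.obj K))
    exact (hc _).1 (h1.eq_of_src _ _)

/-- Maps from `T N` and from `G (T N)` to objects orthogonal to `K`. -/
theorem bijective_of_orth [T.Full] [T.Faithful] (hι : ∀ X, IsIso (G.map (ι.app X))) {M R : A}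
    {c : G.obj (T.obj R) ⟶ T.obj M}
    (hc : ∀ N : A, Function.Bijective (fun ψ : N ⟶ R => G.map (T.map ψ) ≫ c)) (hc' : IsIso (G.map c))
    {K : A} (hK0 : IsZero (G.obj (T.obj K)))
    (hK : ∀ C : A, IsZero (G.obj (T.obj C)) → orth K C → IsZero C) (hM : orth K M) (N : A) :
    Function.Bijective (fun χ : T.obj N ⟶ T.obj M => ι.app (T.obj N) ≫ χ) := by
  obtain ⟨η, h1, h2⟩ := exists_eta T G ι hι hc hc'
  have h3 := isIso_eta T G hc hK0 hK hM η h2
  have key : ∀ ψ : N ⟶ M, ι.app (T.obj N) ≫ T.map ψ = G.map (T.map (ψ ≫ η)) ≫ c := by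
    intro ψ
    rw [Functor.map_comp, Functor.map_comp, Category.assoc, h1]
    exact (ι.naturality (T.map ψ)).symm
  constructor
  · intro χ χ' h
    obtain ⟨ψ, rfl⟩ := T.map_surjective χ
    obtain ⟨ψ', rfl⟩ := T.map_surjective χ'
    dsimp only at h
    rw [key, key] at h
    have h4 := (hc N).1 h
    rw [(cancel_mono η).1 h4]
  · intro b
    obtain ⟨ψ, hψ⟩ := (hc N).2 b
    refine ⟨T.map (ψ ≫ inv η), ?_⟩
    dsimp only at hψ ⊢
    rw [key, Category.assoc, IsIso.inv_hom_id, Category.comp_id, hψ]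

end abs

attribute [local instance] HasDerivedCategory.standard

open AlgebraicGeometry Opposite K645.Lam K646.EtSite K290.DIdem K645.Zar K645.TE K645.LocO K645.Psi
  K645.PsiMain K290.Thick Groth.Agent.PerfB.KoszulOrth

variable {S : Scheme.{u}} {X : AlgSp.Sp S} {V : AlgSp.EtOver X} [hV : IsAffine V.obj.left.left]
  (l : List Γ(sch V, ⊤))

/-- The object `RΓ(W, Y)` with its properties. -/
theorem exists_psi' {Y : DCoh.DMod (AlgSp.OEtOn V)} (hY : GoodOn Y (OL l)) :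
    ∃ (M : Dual.D (B V)) (c : (lD (oo V (OL l)) (AlgSp.OEtOn V)).obj ((TD V).obj M) ⟶ Y),
      (∀ N : Dual.D (B V), Function.Bijective
        (fun ψ : N ⟶ M => (lD (oo V (OL l)) (AlgSp.OEtOn V)).map ((TD V).map ψ) ≫ c)) ∧
      IsIso ((lD (oo V (OL l)) (AlgSp.OEtOn V)).map c) := by
  obtain ⟨M, c, hc⟩ := exists_psi (OL l) Y
  exact ⟨M, c, hc, isIso_lD_map hY hc⟩

/-- `RΓ(W, M~)` with the unit. -/
theorem exists_unit (M : Dual.D (B V)) :
    ∃ (R : Dual.D (B V)) (η : M ⟶ R) (c : (lD (oo V (OL l)) (AlgSp.OEtOn V)).obj ((TD V).obj R) ⟶ (TD V).obj M),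
      IsIso ((lD (oo V (OL l)) (AlgSp.OEtOn V)).map ((TD V).map η)) ∧
      (lD (oo V (OL l)) (AlgSp.OEtOn V)).map ((TD V).map η) ≫ c =
        (iD (oo V (OL l)) (AlgSp.OEtOn V)).app ((TD V).obj M) ∧
      ∀ (N : Dual.D (B V)) (a : (lD (oo V (OL l)) (AlgSp.OEtOn V)).obj ((TD V).obj N) ⟶ (TD V).obj M),
        ∃ ψ : N ⟶ R, (lD (oo V (OL l)) (AlgSp.OEtOn V)).map ((TD V).map ψ) ≫ c = a :=
  abs_exists (TD V) (lD (oo V (OL l)) (AlgSp.OEtOn V))
    (iD (oo V (OL l)) (AlgSp.OEtOn V)) isIso_lD_map_iD_self M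
    (exists_psi' l (goodOn_qc (isQCoh_TD V M) (OL l)))

/-- Maps to `M~` extend uniquely from `W` if `M` is orthogonal to the Koszul complex. -/
theorem bijective_iD {K : Dual.D (B V)}
    (hK0 : IsZero ((lD (oo V (OL l)) (AlgSp.OEtOn V)).obj ((TD V).obj K)))
    (hK : ∀ C : Dual.D (B V), IsZero ((lD (oo V (OL l)) (AlgSp.OEtOn V)).obj ((TD V).obj C)) →
      orth K C → IsZero C) {M : Dual.D (B V)} (hM : orth K M) (N : Dual.D (B V)) :
    Function.Bijective (fun χ : (TD V).obj N ⟶ (TD V).obj M =>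
      (iD (oo V (OL l)) (AlgSp.OEtOn V)).app ((TD V).obj N) ≫ χ) := by
  obtain ⟨R, c, hc, hc'⟩ := exists_psi' l (Y := (TD V).obj M) (goodOn_qc (isQCoh_TD V M) (OL l))
  exact bijective_of_orth (TD V) (lD (oo V (OL l)) (AlgSp.OEtOn V))
    (iD (oo V (OL l)) (AlgSp.OEtOn V)) (isIso_lD_map_iD_self) hc hc' hK0 hK hM N

end K645.PsiUnit
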