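import Groth.Agent.AlgSp.K645.LiftAway
import Groth.Agent.AlgSp.K645.PsiUnit
import Groth.Agent.AlgSp.K645.Glue
import Groth.Agent.AlgSp.K294.TorsVan
import Groth.Agent.DRing.K231.LiftPerf

/-!
# Lifting perfect objects along elementary squares
-/

set_option autoImplicit false
set_option linter.unusedSectionVars false

universe u

open CategoryTheory CategoryTheory.Limits AlgebraicGeometry Opposite Pretriangulated

attribute [local instance] HasDerivedCategory.standard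

namespace K645.Lift

section abs

variable {A D : Type*} [Category* A] [Category* D] [Preadditive A] [Preadditive D] [HasShift A ℤ]
  [HasShift D ℤ] [HasBinaryBiproducts A] [HasBinaryBiproducts D]

theorem exists_dbl (F : A ⥤ D) [F.Additive] [F.CommShift ℤ] (K : A) {L : D} (e : F.obj K ≅ L) :
    Nonempty (F.obj (K ⊞ K⟦(1 : ℤ)⟧) ≅ L ⊞ L⟦(1 : ℤ)⟧) := by
  have hpb := CategoryTheory.Functor.preservesFiniteBiproductsOfAdditive (F := F)
  have hpb2 : PreservesBinaryBiproduct K (K⟦(1 : ℤ)⟧) F :=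
    (preservesBinaryBiproducts_of_preservesBiproducts F).preserves
  exact ⟨F.mapBiprod _ _ ≪≫ biprod.mapIso e ((F.commShiftIso (1 : ℤ)).app K ≪≫
    (shiftFunctor D (1 : ℤ)).mapIso e)⟩

theorem exists_dbl' {B : Type*} [Category* B] [Preadditive B] [HasShift B ℤ] [HasBinaryBiproducts B]
    (F : A ⥤ D) [F.Additive] [F.CommShift ℤ] (G : B ⥤ D) [G.Additive] [G.CommShift ℤ] (K : A) (L : B)
    (e : F.obj K ≅ G.obj L) : Nonempty (F.obj (K ⊞ K⟦(1 : ℤ)⟧) ≅ G.obj (L ⊞ L⟦(1 : ℤ)⟧)) := by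
  obtain ⟨e1⟩ := exists_dbl F K e
  obtain ⟨e2⟩ := exists_dbl G L (Iso.refl _)
  exact ⟨e1 ≪≫ e2.symm⟩

end abs

open K645.Ex K645.Lam K645.Shriek K645.Square K645.IsO K646.EtSite K290.DIdem K645.Zar K645.TE K645.BC
  K645.Mul K645.Int K645.AwayL Groth.Agent.PerfA.ExactD K290.DId K645.PsiIso K645.LiftAway K645.PsiUnit
  K645.LocO K645.Glue K290.Thick K294.GlueOn K294.MapExt K294.MapLift

variable {S : Scheme.{u}} {X : AlgSp.Sp S} {V : AlgSp.EtOver X} [hV : IsAffine V.obj.left.left]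

/-- Perfect objects are quasi-coherent. -/
theorem qc_of_perfAt {K : AlgSp.DModEt X} {E : AlgSp.EtOver X} [IsAffine E.obj.left.left] (h : PerfAt K E) :
    DCoh.IsQCohDMod (AlgSp.OEtOn E) ((AlgSp.resDEt E).obj K) := ((strictAt_iff K E).2 h).isQCoh

theorem isIso_of_supp {C : Type (u + 1)} [Category.{u} C] {J : GrothendieckTopology C} {R : Sheaf J RingCat.{u + 1}}
    [HasSheafify J AddCommGrpCat.{u + 1}] [J.WEqualsLocallyBijective AddCommGrpCat.{u + 1}] {U : Opn C}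
    {Y₁ Y₂ : DR R} (w : Y₁ ⟶ Y₂) (h₁ : IsIso ((iD U R).app Y₁)) (h₂ : IsIso ((iD U R).app Y₂))
    (hw : IsIso ((lD U R).map w)) : IsIso w := by
  have h1 := lD_map_iD U w
  have h3 : IsIso ((iD U R).app Y₁ ≫ w) := by
    rw [← h1]
    infer_instance
  exact IsIso.of_isIso_comp_left ((iD U R).app Y₁) w

/-- A complex of modules representing `G` on the open. -/
theorem exists_rep (l : List Γ(sch V, ⊤)) {Y : DCoh.DMod (AlgSp.OEtOn V)} (hY : GoodOn Y (OL l))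
    (hs : IsIso ((iD (oo V (OL l)) (AlgSp.OEtOn V)).app Y)) :
    ∃ (K : DRing.Cx (B V)) (w : (lD (oo V (OL l)) (AlgSp.OEtOn V)).obj ((TD V).obj (DRing.toD K)) ⟶ Y),
      IsIso w := by
  obtain ⟨M, c, hc, hc'⟩ := exists_psi' l hY
  let K : DRing.Cx (B V) := DerivedCategory.Q.objPreimage M
  let e : DRing.toD K ≅ M := DerivedCategory.Q.objObjPreimageIso M
  have h1 : IsIso c := isIso_of_supp (U := oo V (OL l)) (R := AlgSp.OEtOn V) c
    (isIso_iD_lD_self (U := oo V (OL l)) (R := AlgSp.OEtOn V) ((TD V).obj M)) hs hc'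
  exact ⟨K, (lD (oo V (OL l)) (AlgSp.OEtOn V)).map ((TD V).map e.hom) ≫ c, inferInstance⟩

/-- The localized complex. -/
theorem exists_lift_K (l : List Γ(sch V, ⊤)) {G : AlgSp.DModEt X}
    (hG : ∀ (E : Over V) (_ : IsAffine E.left.obj.left.left), (oo V (OL l)).mem E → PerfAt G E.left)
    (K : DRing.Cx (B V))
    (w : (lD (oo V (OL l)) (AlgSp.OEtOn V)).obj ((TD V).obj (DRing.toD K)) ⟶ (rD (AlgSp.OEtRing X) V).obj G)
    (hw : IsIso w) :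
    ∃ (N C : Dual.D (B V)) (φ : N ⟶ DRing.toD K ⊞ (DRing.toD K)⟦(1 : ℤ)⟧)
      (g : DRing.toD K ⊞ (DRing.toD K)⟦(1 : ℤ)⟧ ⟶ C) (h : C ⟶ N⟦(1 : ℤ)⟧),
      DRing.IsPerfect (B V) N ∧ Triangle.mk φ g h ∈ distTriang (Dual.D (B V)) ∧
      ∀ (i : Fin l.length) (n : ℤ), Groth.Agent.PerfC.KosFactor.Tors (ULift.up (l.get i) : B V) C n := by
  have hV' : IsAffine (sch V) := hV
  have hle : ∀ f ∈ l, (sch V).basicOpen f ≤ OL l := fun f hf x hx => (mem_OL l x).2 ⟨f, hf, hx⟩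
  refine K231.LiftPerf.exists_lift (fun i : Fin l.length => (ULift.up (l.get i) : B V)) K (fun i => ?_)
  have hi := hle (l.get i) (List.get_mem l i)
  have hmem : (oo V (OL l)).mem (xo V (Df (ULift.up (l.get i) : B V))) := (mem_xo V _).trans hi
  exact isPerfect_of_iso (ULift.up (l.get i)) hi
    (hG (xo V (Df (ULift.up (l.get i) : B V))) (isAffine_opn (ULift.up (l.get i))) hmem) K w inferInstance

theorem isZero_of_tors (l : List Γ(sch V, ⊤)) (hT : TorsIff V (oo V (OL l)) (l.map ULift.up))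
    (C : Dual.D (B V))
    (h : ∀ (i : Fin l.length) (n : ℤ), Groth.Agent.PerfC.KosFactor.Tors (ULift.up (l.get i) : B V) C n) :
    IsZero ((lD (oo V (OL l)) (AlgSp.OEtOn V)).obj ((TD V).obj C)) := by
  refine (hT.vanP_iff C).2 fun f hf i => ?_
  obtain ⟨f₀, hf₀, rfl⟩ := List.mem_map.1 hf
  obtain ⟨j, hj⟩ := List.mem_iff_get.1 hf₀
  rw [← hj]
  exact h j i

theorem abs_lift {A D E : Type*} [Category* A] [Category* D] [Category* E] [Preadditive A] [Preadditive D]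
    [Preadditive E] [HasShift A ℤ] [HasShift D ℤ] [HasShift E ℤ]
    [∀ n : ℤ, (shiftFunctor A n).Additive] [∀ n : ℤ, (shiftFunctor D n).Additive]
    [HasZeroObject A] [HasZeroObject D] [Pretriangulated A] [Pretriangulated D]
    [HasBinaryBiproducts A] [HasBinaryBiproducts D] [HasBinaryBiproducts E]
    (F : A ⥤ D) [F.Additive] [F.CommShift ℤ] [F.IsTriangulated] (G : E ⥤ D) [G.Additive] [G.CommShift ℤ]
    {N K C : A} {L : E} {φ : N ⟶ K ⊞ K⟦(1 : ℤ)⟧} {g : K ⊞ K⟦(1 : ℤ)⟧ ⟶ C} {h : C ⟶ N⟦(1 : ℤ)⟧}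
    (hT : Triangle.mk φ g h ∈ distTriang A) (hC : IsZero (F.obj C)) (w : F.obj K ⟶ G.obj L) (hw : IsIso w) :
    Nonempty (F.obj N ≅ G.obj (L ⊞ L⟦(1 : ℤ)⟧)) := by
  have hφ : IsIso (F.map φ) := (Triangle.isZero₃_iff_isIso₁ _ (F.map_distinguished _ hT)).1 hC
  obtain ⟨i⟩ := exists_dbl' F G K L (asIso w)
  exact ⟨asIso (F.map φ) ≪≫ i⟩

/-- A perfect complex of modules representing `G ⊞ G⟦1⟧` on the open. -/
theorem exists_lift_V (l : List Γ(sch V, ⊤)) {G : AlgSp.DModEt X}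
    (hT : TorsIff V (oo V (OL l)) (l.map ULift.up))
    (hG : ∀ (E : Over V) (_ : IsAffine E.left.obj.left.left), (oo V (OL l)).mem E → PerfAt G E.left)
    (hs : IsIso ((iD (oo V (OL l)) (AlgSp.OEtOn V)).app ((rD (AlgSp.OEtRing X) V).obj G))) :
    ∃ N : Dual.D (B V), DRing.IsPerfect (B V) N ∧
      Nonempty ((TD V ⋙ lD (oo V (OL l)) (AlgSp.OEtOn V)).obj N ≅
        (rD (AlgSp.OEtRing X) V).obj (G ⊞ G⟦(1 : ℤ)⟧)) := by
  have hY : GoodOn ((rD (AlgSp.OEtRing X) V).obj G) (OL l) := goodOn_r fun E hE hEW => by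
    have hE' : IsAffine E.left.obj.left.left := hE
    exact qc_of_perfAt (hG E hE' hEW)
  obtain ⟨K, w, hw⟩ := exists_rep l hY hs
  obtain ⟨N, C, φ, g, h, hN, hTr, htors⟩ := exists_lift_K l hG K w hw
  exact ⟨N, hN, abs_lift (TD V ⋙ lD (oo V (OL l)) (AlgSp.OEtOn V)) (rD (AlgSp.OEtRing X) V) hTr
    (isZero_of_tors l hT C htors) w hw⟩

theorem exists_lift_V' (W' : Opn (Over V)) (l : List Γ(sch V, ⊤)) (hW' : W' = oo V (OL l))
    {G : AlgSp.DModEt X} (hT : TorsIff V W' (l.map ULift.up))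
    (hG : ∀ (E : Over V) (_ : IsAffine E.left.obj.left.left), W'.mem E → PerfAt G E.left)
    (hs : IsIso ((iD W' (AlgSp.OEtOn V)).app ((rD (AlgSp.OEtRing X) V).obj G))) :
    ∃ N : Dual.D (B V), DRing.IsPerfect (B V) N ∧
      Nonempty ((lD W' (AlgSp.OEtOn V)).obj ((TD V).obj N) ≅
        (rD (AlgSp.OEtRing X) V).obj (G ⊞ G⟦(1 : ℤ)⟧)) := by
  subst hW'
  exact exists_lift_V l hT hG hs

theorem PO_dbl {O : Opn (AlgSp.EtOver X)} {G : AlgSp.DModEt X} (hG : PO O G) : PO O (G ⊞ G⟦(1 : ℤ)⟧) :=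
  (PO O).ext_of_isTriangulatedClosed₂ _ (binaryBiproductTriangle_distinguished _ _) hG
    ((PO O).le_shift (1 : ℤ) _ hG)

/-- Perfectness over `O₁` only depends on the restriction to `O₁`. -/
theorem perfOn_of_iso {O : Opn (AlgSp.EtOver X)} {K L : AlgSp.DModEt X} (hK : PerfOn O K)
    (e : (lD O (AlgSp.OEtRing X)).obj K ≅ (lD O (AlgSp.OEtRing X)).obj L) : PerfOn O L := fun E hE hO => by
  have h1 := perfAt_lD hO (hK E hE hO)
  have h2 := h1.of_iso ((rD (AlgSp.OEtRing X) E).mapIso e)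
  have h3 := isIso_rD_map_iD hO L
  exact h2.of_iso (asIso ((rD (AlgSp.OEtRing X) E).map ((iD O (AlgSp.OEtRing X)).app L)))

variable {O₁ O₂ : Opn (AlgSp.EtOver X)}

/-- `G'` is obtained from `Q` by glueing with `N~` over `V`. -/
def IsGlue (O₁ : Opn (AlgSp.EtOver X)) (Q G' : AlgSp.DModEt X) (T : DR (AlgSp.OEtOn V)) : Prop :=
  ∃ (Z : DR (AlgSp.OEtOn V)) (p : T ⟶ Z)
      (q : Z ⟶ ((lD (ovr O₁ V) (AlgSp.OEtOn V)).obj T)⟦(1 : ℤ)⟧)
      (a : Q ⟶ G') (b : G' ⟶ (sD (AlgSp.OEtRing X) V).obj Z)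
      (d : (sD (AlgSp.OEtRing X) V).obj Z ⟶ Q⟦(1 : ℤ)⟧),
      Triangle.mk ((iD (ovr O₁ V) (AlgSp.OEtOn V)).app T) p q ∈ distTriang (DR (AlgSp.OEtOn V)) ∧
      Triangle.mk a b d ∈ distTriang (AlgSp.DModEt X)

theorem exists_glue_PO (H : Elem (AlgSp.etTop X) V O₁ O₂) {Q : AlgSp.DModEt X} (hQ : PO O₁ Q)
    {N : Dual.D (B V)} (hN : DRing.IsPerfect (B V) N)
    (α : (lD (ovr O₁ V) (AlgSp.OEtOn V)).obj ((TD V).obj N) ≅ (rD (AlgSp.OEtRing X) V).obj Q) :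
    ∃ G' : AlgSp.DModEt X, IsGlue (V := V) O₁ Q G' ((TD V).obj N) ∧ PO O₂ G' ∧
      Nonempty ((lD O₁ (AlgSp.OEtRing X)).obj G' ≅ Q) := by
  obtain ⟨G', Z, p, q, a, b, d, h1, h2, h3, h4, ⟨e⟩⟩ := exists_glue H hQ.1 α
  refine ⟨G', ⟨Z, p, q, a, b, d, h1, h2⟩, ⟨h3, ?_⟩, ?_⟩
  · exact perfOn_of_elem H (perfOn_of_iso hQ.2 (asIso ((lD O₁ (AlgSp.OEtRing X)).map a))) ⟨N, hN, ⟨e⟩⟩
  · have h5 : IsIso ((iD O₁ (AlgSp.OEtRing X)).app Q) := hQ.1
    exact ⟨(asIso ((lD O₁ (AlgSp.OEtRing X)).map a)).symm ≪≫ asIso ((iD O₁ (AlgSp.OEtRing X)).app Q)⟩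

/-- Lifting of `G ⊞ G⟦1⟧` with the triangle. -/
theorem exists_lift_full (H : Elem (AlgSp.etTop X) V O₁ O₂) (l : List Γ(sch V, ⊤))
    (hl : ovr O₁ V = oo V (OL l)) (hT : TorsIff V (ovr O₁ V) (l.map ULift.up))
    {G : AlgSp.DModEt X} (hG : PO O₁ G) :
    ∃ (N : Dual.D (B V)) (G' : AlgSp.DModEt X), IsGlue (V := V) O₁ (G ⊞ G⟦(1 : ℤ)⟧) G' ((TD V).obj N) ∧
      PO O₂ G' ∧ Nonempty ((lD O₁ (AlgSp.OEtRing X)).obj G' ≅ G ⊞ G⟦(1 : ℤ)⟧) := by
  obtain ⟨N, hN, ⟨α⟩⟩ := exists_lift_V' (ovr O₁ V) l hl hT (fun E hE hEW => hG.2 E.left hE hEW)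
    (isIso_iD_rD O₁ hG.1)
  obtain ⟨G', h1, h2, h3⟩ := exists_glue_PO H (PO_dbl hG) hN α
  exact ⟨N, G', h1, h2, h3⟩

end K645.Lift
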