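import Groth.Agent.AlgSp.K645.PsiMain
import Groth.Agent.PerfB.DescPerf

/-!
# Perfectness of the localizations
-/

set_option autoImplicit false
set_option linter.unusedSectionVars false

universe u

open CategoryTheory CategoryTheory.Limits AlgebraicGeometry Opposite

attribute [local instance] HasDerivedCategory.standard

namespace K645.LiftAway

section ring

variable {A C : Type u} [CommRing A] [CommRing C] (φ : A →+* C) (f : A)

/-- Being perfect over a localization. -/
theorem isPerfect_away [PreservesFiniteLimits (ModuleCat.extendScalars.{u, u, u} φ)]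
    (hφ : @IsLocalization.Away A _ f C _ φ.toAlgebra) (K : DRing.Cx A)
    (hK : DRing.IsPerfect C ((ModuleCat.extendScalars.{u, u, u} φ).mapDerivedCategory.obj (DRing.toD K))) :
    DRing.IsPerfect (Localization.Away f) (DRing.toD (((ModuleCat.extendScalars.{u, u, u}
      (algebraMap A (Localization.Away f))).mapHomologicalComplex (ComplexShape.up ℤ)).obj K)) := by
  let _ : Algebra A C := φ.toAlgebra
  let e : C ≃ₐ[A] Localization.Away f := IsLocalization.algEquiv (Submonoid.powers f) C (Localization.Away f)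
  let ψ : C →+* Localization.Away f := e.toRingEquiv.toRingHom
  have h1 : algebraMap A (Localization.Away f) = ψ.comp φ := RingHom.ext fun a => (e.commutes a).symm
  have hψ : ψ.Flat := RingHom.Flat.of_bijective e.bijective
  have := ModuleCat.preservesFiniteLimits_extendScalars_of_flat hψ
  have h2 := Groth.Agent.PerfB.DescPerf.perfect_baseChange ψ hK
  rw [h1]
  refine Groth.Agent.PerfB.DescPerf.perfect_of_iso ?_ h2
  refine (ModuleCat.extendScalars.{u, u, u} ψ).mapDerivedCategory.mapIso
    ((ModuleCat.extendScalars.{u, u, u} φ).mapDerivedCategoryFactors.app K) ≪≫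
    (ModuleCat.extendScalars.{u, u, u} ψ).mapDerivedCategoryFactors.app _ ≪≫
    DerivedCategory.Q.mapIso ((NatIso.mapHomologicalComplex
      (ModuleCat.extendScalarsComp.{u} φ ψ) (ComplexShape.up ℤ)).symm.app K)

theorem away_equiv {R S R' S' : Type*} [CommRing R] [CommRing S] [CommRing R'] [CommRing S']
    (φ : R →+* S) (φ' : R' →+* S') (e : R' ≃+* R) (e' : S' ≃+* S) (h : ∀ x, e' (φ' x) = φ (e x)) (f : R')
    (hφ : @IsLocalization.Away R _ (e f) S _ φ.toAlgebra) :
    @IsLocalization.Away R' _ f S' _ φ'.toAlgebra := by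
  let _ : Algebra R S := φ.toAlgebra
  let _ : Algebra R' S' := φ'.toAlgebra
  have hφ' : IsLocalization.Away (e f) S := hφ
  have hinj := e'.injective
  obtain ⟨h1, h2, h3⟩ := (isLocalization_iff (Submonoid.powers (e f)) S).1 hφ'
  refine (isLocalization_iff (Submonoid.powers f) S').2 ⟨?_, ?_, ?_⟩
  · rintro ⟨_, k, rfl⟩
    have h4 := h1 ⟨_, k, rfl⟩
    refine (MulEquiv.isUnit_map e').1 ?_
    change IsUnit (e' (φ' (f ^ k)))
    rw [h, map_pow e]
    exact h4
  · intro z
    obtain ⟨⟨x, ⟨_, k, rfl⟩⟩, hx⟩ := h2 (e' z)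
    refine ⟨⟨e.symm x, ⟨_, k, rfl⟩⟩, hinj ?_⟩
    change e' (z * φ' (f ^ k)) = e' (φ' (e.symm x))
    rw [map_mul, h, h, e.apply_symm_apply, map_pow e]
    exact hx
  · intro x y hxy
    have h4 : φ (e x) = φ (e y) := by
      rw [← h, ← h]
      exact congrArg e' hxy
    obtain ⟨⟨_, k, rfl⟩, hk⟩ := h3 h4
    refine ⟨⟨_, k, rfl⟩, e.injective ?_⟩
    change e (f ^ k * x) = e (f ^ k * y)
    rw [map_mul, map_mul, map_pow]
    exact hk

end ring

open K645.Ex K645.Lam K645.Shriek K645.Square K645.IsO K646.EtSite K290.DIdem K645.Zar K645.TE K645.BC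
  K645.Mul K645.Int K645.AwayL Groth.Agent.PerfA.ExactD K290.DId K645.PsiIso

variable {S : Scheme.{u}} {X : AlgSp.Sp S} {V : AlgSp.EtOver X}

section gst

variable {C : Type (u + 1)} [Category.{u} C] {J : GrothendieckTopology C} {R : Sheaf J RingCat.{u + 1}}
  [HasSheafify J AddCommGrpCat.{u + 1}] [J.WEqualsLocallyBijective AddCommGrpCat.{u + 1}]

theorem isIso_gst_map {V' V : C} (g : V' ⟶ V) {U : Opn (Over V)} (hU : U.mem (Over.mk g))
    {M N : SheafOfModules.{u + 1} (R.over V)} (v : M ⟶ N) (hv : IsIso ((lam U (R.over V)).map v)) :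
    IsIso ((gst R g).map v) := by
  have hmem : ∀ E : Over V', U.mem ((Over.map g).obj E) := fun E =>
    U.down (Over.homMk E.hom : (Over.map g).obj E ⟶ Over.mk g) hU
  refine isIso_of_local _ (fun E x hx => ?_) (fun E y => ⟨⊤, GrothendieckTopology.top_mem _ _,
    fun E' e _ => ?_⟩)
  · exact (bijective_ap v hv (hmem E)).1 (hx.trans (map_zero (ap v ((Over.map g).obj E))).symm)
  · exact (bijective_ap v hv (hmem E')).2 _

/-- Morphisms which are isomorphisms over `U` restrict to isomorphisms on objects of `U`. -/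
theorem isIso_gstD_map {V' V : C} (g : V' ⟶ V) {U : Opn (Over V)} (hU : U.mem (Over.mk g))
    {M N : DR (R.over V)} (v : M ⟶ N) (hv : IsIso ((lD U (R.over V)).map v)) :
    IsIso ((gst R g).mapDerivedCategory.map v) := by
  rw [isIso_map_iff]
  intro n
  exact isIso_gst_map g hU _ ((isIso_map_iff (lam U (R.over V)) v).1 hv n)

end gst

theorem isLoc_phi [hV : IsAffine V.obj.left.left] (f : B V) :
    @IsLocalization.Away (B V) _ f (B (opn V (Df f))) _ (phi (opnι V (Df f))).toAlgebra := by
  have hV' : IsAffine (sch V) := hV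
  have h0 : IsOpenImmersion (Df f).ι := inferInstance
  have h1 : IsOpenImmersion (mor (opnι V (Df f))) := h0
  have h2 := away_of_range (mor (opnι V (Df f))) f.down (range_opnι V (Df f))
  exact away_equiv (mor (opnι V (Df f))).appTop.hom (phi (opnι V (Df f))) ULift.ringEquiv
    (ULift.ringEquiv (R := Γ(sch (opn V (Df f)), ⊤))) (fun _ => rfl) f h2

instance isAffine_opn [hV : IsAffine V.obj.left.left] (f : B V) :
    IsAffine (opn V (Df f)).obj.left.left :=
  have hV' : IsAffine (sch V) := hV
  (isAffineOpen_top (sch V)).basicOpen f.down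

/-- Base change to an affine object over which `M` is perfect. -/
theorem isPerfect_eD [hV : IsAffine V.obj.left.left] {E : AlgSp.EtOver X} [hE : IsAffine E.obj.left.left]
    (g : E ⟶ V) {G : AlgSp.DModEt X} (hG : PerfAt G E) {M : Dual.D (B V)}
    (i : (gD g).obj ((TD V).obj M) ≅ (AlgSp.resDEt E).obj G) : DRing.IsPerfect (B E) ((eD g).obj M) := by
  obtain ⟨P, hP, ⟨j⟩⟩ := hG
  exact Groth.Agent.PerfB.DescPerf.perfect_of_iso
    ((TD E).preimageIso (j ≪≫ i.symm ≪≫ ((egD g).app M).symm)) hP

/-- If `j_! j^* M~` is `j_! j^* G` for `G` perfect over `D(f)` then `M_f` is perfect. -/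
theorem isPerfect_of_iso [hV : IsAffine V.obj.left.left] (f : B V) {W : (sch V).Opens} (hf : Df f ≤ W)
    {G : AlgSp.DModEt X} (hG : PerfAt G (opn V (Df f))) (K : DRing.Cx (B V))
    (w : (lD (oo V W) (AlgSp.OEtOn V)).obj ((TD V).obj (DRing.toD K)) ⟶ (rD (AlgSp.OEtRing X) V).obj G)
    (hw : IsIso ((lD (oo V W) (AlgSp.OEtOn V)).map w)) :
    DRing.IsPerfect (Localization.Away f) (DRing.toD (((ModuleCat.extendScalars.{u + 1, u + 1, u + 1}
      (algebraMap (B V) (Localization.Away f))).mapHomologicalComplex (ComplexShape.up ℤ)).obj K)) := by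
  refine isPerfect_away (phi (opnι V (Df f))) f (isLoc_phi f) K ?_
  have hmem : (oo V W).mem (Over.mk (opnι V (Df f))) := (mem_xo V (Df f)).trans hf
  have h1 : IsIso ((gD (opnι V (Df f))).map w) := isIso_gstD_map (opnι V (Df f)) hmem w hw
  have h2 : IsIso ((gD (opnι V (Df f))).map ((iD (oo V W) (AlgSp.OEtOn V)).app
      ((TD V).obj (DRing.toD K)))) :=
    isIso_gstD_map (opnι V (Df f)) hmem _ (isIso_lD_map_iD_self _)
  exact isPerfect_eD (opnι V (Df f)) hG
    ((asIso ((gD (opnι V (Df f))).map ((iD (oo V W) (AlgSp.OEtOn V)).app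
      ((TD V).obj (DRing.toD K))))).symm ≪≫ asIso ((gD (opnι V (Df f))).map w) ≪≫
      (rgD (opnι V (Df f))).app G)

end K645.LiftAway
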