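import Mathlib.CategoryTheory.Triangulated.Functor
import Mathlib.CategoryTheory.Triangulated.Subcategory
import Mathlib.CategoryTheory.Triangulated.Pretriangulated

/-!
# Maps into an object, localized at an endomorphism

For an exact functor `F` with a natural transformation `F ⟶ 𝟭` and an endomorphism `m` of `Y`, the objects `A`
such that `Hom(A⟦n⟧, Y) → Hom(F A⟦n⟧, Y)` is a localization at `m` for all `n` form a triangulated subcategory.
-/

set_option autoImplicit false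
set_option linter.unusedSectionVars false

universe v u

open CategoryTheory CategoryTheory.Limits Pretriangulated

namespace K645.Loc4

section basic

variable {C : Type u} [Category.{v} C] [Preadditive C] (F : C ⥤ C) (ι : F ⟶ 𝟭 C) {Y : C} (m : End Y)

/-- The `k`-th power of an endomorphism. -/
def pw (k : ℕ) : Y ⟶ Y := m ^ k

lemma pw_zero : pw m 0 = 𝟙 Y := pow_zero m

lemma pw_add (k l : ℕ) : pw m (k + l) = pw m k ≫ pw m l := by
  have : m ^ (k + l) = m ^ l * m ^ k := by rw [add_comm, pow_add]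
  exact this

lemma pw_comm (k l : ℕ) : pw m k ≫ pw m l = pw m l ≫ pw m k := by
  rw [← pw_add, ← pw_add, add_comm]

/-- Injectivity up to torsion. -/
def P1 (A : C) : Prop := ∀ a : A ⟶ Y, ι.app A ≫ a = 0 → ∃ k : ℕ, a ≫ pw m k = 0

/-- Surjectivity up to torsion. -/
def P2 (A : C) : Prop := ∀ b : F.obj A ⟶ Y, ∃ (k : ℕ) (a : A ⟶ Y), b ≫ pw m k = ι.app A ≫ a

variable {F ι m}

lemma nat {A B : C} (f : A ⟶ B) : F.map f ≫ ι.app B = ι.app A ≫ f := ι.naturality f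

lemma P1.of_iso {A B : C} (e : A ≅ B) (h : P1 F ι m A) : P1 F ι m B := by
  intro a ha
  obtain ⟨k, hk⟩ := h (e.hom ≫ a) (by rw [← Category.assoc, ← nat, Category.assoc, ha, comp_zero])
  refine ⟨k, ?_⟩
  rw [← cancel_epi e.hom, ← Category.assoc, hk, comp_zero]

lemma P2.of_iso {A B : C} (e : A ≅ B) (h : P2 F ι m A) : P2 F ι m B := by
  intro b
  obtain ⟨k, a, hk⟩ := h (F.map e.hom ≫ b)
  refine ⟨k, e.inv ≫ a, ?_⟩
  rw [← cancel_epi (F.map e.hom), ← Category.assoc, hk, ← Category.assoc (F.map e.hom), nat,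
    Category.assoc, Iso.hom_inv_id_assoc]

end basic

variable {C : Type u} [Category.{v} C] [Preadditive C] [HasZeroObject C] [HasShift C ℤ]
  [∀ n : ℤ, (shiftFunctor C n).Additive] [Pretriangulated C]
  {F : C ⥤ C} [F.CommShift ℤ] [F.IsTriangulated] {ι : F ⟶ 𝟭 C} {Y : C} {m : End Y}

lemma P1_obj₃ (T : Triangle C) (hT : T ∈ distTriang C) (h2 : P1 F ι m T.obj₂)
    (h2' : P2 F ι m (T.obj₂⟦(1 : ℤ)⟧)) (h1 : P1 F ι m (T.obj₁⟦(1 : ℤ)⟧)) : P1 F ι m T.obj₃ := by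
  intro a ha
  obtain ⟨k, hk⟩ := h2 (T.mor₂ ≫ a) (by rw [← Category.assoc, ← nat, Category.assoc, ha, comp_zero])
  obtain ⟨b, hb⟩ := Triangle.yoneda_exact₃ T hT (a ≫ pw m k) (by rw [← Category.assoc, hk])
  have hFT := F.map_distinguished T hT
  have hb0 : F.map T.mor₃ ≫ ι.app _ ≫ b = 0 := by
    rw [← Category.assoc, nat, Category.assoc, ← hb, ← Category.assoc, ha, zero_comp]
  have hb1 : (F.map T.mor₃ ≫ (F.commShiftIso (1 : ℤ)).hom.app T.obj₁) ≫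
      (F.commShiftIso (1 : ℤ)).inv.app T.obj₁ ≫ ι.app _ ≫ b = 0 := by
    rw [Category.assoc, Iso.hom_inv_id_app_assoc, hb0]
  obtain ⟨b', hb'⟩ := Triangle.yoneda_exact₃ _ (rot_of_distTriang _ hFT)
    ((F.commShiftIso (1 : ℤ)).inv.app T.obj₁ ≫ ι.app _ ≫ b) hb1
  obtain ⟨l, a2, hl⟩ := h2' (-((F.commShiftIso (1 : ℤ)).hom.app T.obj₂ ≫ b'))
  have h3 : ι.app (T.obj₁⟦(1 : ℤ)⟧) ≫ b = F.map (T.mor₁⟦(1 : ℤ)⟧') ≫
      (-((F.commShiftIso (1 : ℤ)).hom.app T.obj₂ ≫ b')) := by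
    rw [← cancel_epi ((F.commShiftIso (1 : ℤ)).inv.app T.obj₁)]
    refine hb'.trans ?_
    change (-((F.map T.mor₁)⟦(1 : ℤ)⟧')) ≫ b' = _
    have h4 := (F.commShiftIso (1 : ℤ)).hom.naturality T.mor₁
    dsimp only [Functor.comp_map] at h4
    rw [Preadditive.comp_neg, ← Category.assoc (F.map _), h4, Category.assoc, Preadditive.comp_neg,
      Iso.inv_hom_id_app_assoc, Preadditive.neg_comp]
  obtain ⟨p, hp⟩ := h1 (b ≫ pw m l - T.mor₁⟦(1 : ℤ)⟧' ≫ a2) (by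
    rw [Preadditive.comp_sub, ← Category.assoc, h3, Category.assoc, hl, ← Category.assoc, nat,
      Category.assoc, sub_self])
  refine ⟨k + (l + p), ?_⟩
  rw [pw_add, ← Category.assoc, hb, pw_add, Category.assoc]
  have h5 : b ≫ pw m l ≫ pw m p = T.mor₁⟦(1 : ℤ)⟧' ≫ a2 ≫ pw m p := by
    rw [Preadditive.sub_comp, sub_eq_zero, Category.assoc, Category.assoc] at hp
    exact hp
  rw [h5, ← Category.assoc, comp_distTriang_mor_zero₃₁ T hT, zero_comp]

lemma P2_obj₃ (T : Triangle C) (hT : T ∈ distTriang C) (h2 : P2 F ι m T.obj₂)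
    (h1' : P1 F ι m T.obj₁) (h1 : P2 F ι m (T.obj₁⟦(1 : ℤ)⟧)) : P2 F ι m T.obj₃ := by
  intro b
  have hFT := F.map_distinguished T hT
  obtain ⟨k, a2, hk⟩ := h2 (F.map T.mor₂ ≫ b)
  obtain ⟨l, hl⟩ := h1' (T.mor₁ ≫ a2) (by
    have h4 : F.map T.mor₁ ≫ F.map T.mor₂ = 0 := by
      rw [← Functor.map_comp, comp_distTriang_mor_zero₁₂ T hT, Functor.map_zero]
    rw [← Category.assoc, ← nat, Category.assoc, ← hk, ← Category.assoc, ← Category.assoc, h4,
      zero_comp, zero_comp])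
  obtain ⟨a3, ha3⟩ := Triangle.yoneda_exact₂ T hT (a2 ≫ pw m l) (by rw [← Category.assoc, hl])
  obtain ⟨b', hb'⟩ := Triangle.yoneda_exact₃ _ hFT (b ≫ pw m (k + l) - ι.app _ ≫ a3) (by
    change F.map T.mor₂ ≫ _ = 0
    rw [Preadditive.comp_sub, pw_add, ← Category.assoc, ← Category.assoc, hk, ← Category.assoc, nat,
      Category.assoc, Category.assoc, ha3, sub_self])
  obtain ⟨p, a1, hp⟩ := h1 ((F.commShiftIso (1 : ℤ)).hom.app T.obj₁ ≫ b')
  refine ⟨(k + l) + p, a3 ≫ pw m p + T.mor₃ ≫ a1, ?_⟩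
  have h5 : b ≫ pw m (k + l) = ι.app _ ≫ a3 + F.map T.mor₃ ≫ (F.commShiftIso (1 : ℤ)).hom.app T.obj₁ ≫ b' := by
    rw [← sub_eq_iff_eq_add', hb']
    exact Category.assoc _ _ _
  rw [pw_add, ← Category.assoc, h5, Preadditive.add_comp, Category.assoc, Category.assoc, hp,
    ← Category.assoc (F.map _), nat, Preadditive.comp_add, Category.assoc]

variable (F ι m)

/-- `Hom(A⟦n⟧, Y) → Hom(F A⟦n⟧, Y)` is a localization at `m` for all `n`. -/
def Loc : ObjectProperty C := fun A => ∀ n : ℤ, P1 F ι m (A⟦n⟧) ∧ P2 F ι m (A⟦n⟧)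

instance : (Loc F ι m).IsClosedUnderIsomorphisms where
  of_iso e h n := ⟨(h n).1.of_iso ((shiftFunctor C n).mapIso e), (h n).2.of_iso ((shiftFunctor C n).mapIso e)⟩

instance : (Loc F ι m).IsStableUnderShift ℤ where
  isStableUnderShiftBy a := ⟨fun A h n =>
    ⟨(h (a + n)).1.of_iso ((shiftFunctorAdd C a n).app A), (h (a + n)).2.of_iso ((shiftFunctorAdd C a n).app A)⟩⟩

lemma loc_of_isZero {A : C} (h : IsZero A) : Loc F ι m A := by
  intro n
  have h' : IsZero (A⟦n⟧) := (shiftFunctor C n).map_isZero h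
  exact ⟨fun a _ => ⟨0, h'.eq_of_src _ _⟩, fun b => ⟨0, 0, (F.map_isZero h').eq_of_src _ _⟩⟩

lemma loc_obj₃ (T : Triangle C) (hT : T ∈ distTriang C) (h1 : Loc F ι m T.obj₁) (h2 : Loc F ι m T.obj₂) :
    Loc F ι m T.obj₃ := by
  intro n
  have hT' := Triangle.shift_distinguished T hT n
  have e1 : (T.obj₁⟦n⟧)⟦(1 : ℤ)⟧ ≅ T.obj₁⟦n + 1⟧ := (shiftFunctorAdd C n 1).symm.app T.obj₁
  have e2 : (T.obj₂⟦n⟧)⟦(1 : ℤ)⟧ ≅ T.obj₂⟦n + 1⟧ := (shiftFunctorAdd C n 1).symm.app T.obj₂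
  exact ⟨P1_obj₃ _ hT' (h2 n).1 ((h2 (n + 1)).2.of_iso e2.symm) ((h1 (n + 1)).1.of_iso e1.symm),
    P2_obj₃ _ hT' (h2 n).2 (h1 n).1 ((h1 (n + 1)).2.of_iso e1.symm)⟩

instance : (Loc F ι m).ContainsZero where
  exists_zero := ⟨_, isZero_zero C, loc_of_isZero F ι m (isZero_zero C)⟩

instance : (Loc F ι m).IsTriangulatedClosed₂ :=
  .mk' fun _ hT h1 h3 => loc_obj₃ F ι m _ (inv_rot_of_distTriang _ hT)
    ((Loc F ι m).le_shift (-1 : ℤ) _ h3) h1

instance : (Loc F ι m).IsTriangulated where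

end K645.Loc4
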