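import Groth.Agent.AlgSp.K645.Loc4
import Groth.Agent.AlgSp.K290.DId

/-!
# Localization of `Hom(K, Y)`: reduction to cohomology objects
-/

set_option autoImplicit false

universe w v u

open CategoryTheory CategoryTheory.Limits

namespace K645.LocBase

open K645.DNat K645.Loc4 K290.DId Groth.Agent.PerfA.ExactD

variable {A : Type u} [Category.{v} A] [Abelian A] [HasDerivedCategory.{w} A]

/-- A natural endomorphism of the identity, on the derived category. -/
noncomputable def endD (α : 𝟭 A ⟶ 𝟭 A) : 𝟭 (DerivedCategory A) ⟶ 𝟭 (DerivedCategory A) :=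
  (mapDId A).inv ≫ toId α

theorem homology_endD (α : 𝟭 A ⟶ 𝟭 A) (K : DerivedCategory A) (n : ℤ) :
    (DerivedCategory.homologyFunctor A n).map ((endD α).app K) =
      α.app ((DerivedCategory.homologyFunctor A n).obj K) := by
  have h1 := mapD_homology α K n
  have h2 : (DerivedCategory.homologyFunctor A n).map ((endD α).app K) =
      (DerivedCategory.homologyFunctor A n).map ((mapDId A).inv.app K) ≫
      (DerivedCategory.homologyFunctor A n).map ((mapD α).app K) ≫
      (DerivedCategory.homologyFunctor A n).map ((mapDId A).hom.app K) := by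
    rw [← Functor.map_comp, ← Functor.map_comp]
    rfl
  have h3 : (DerivedCategory.homologyFunctor A n).map ((mapD α).app K) =
      (mapHomology (𝟭 A) n).hom.app K ≫ α.app ((DerivedCategory.homologyFunctor A n).obj K) ≫
        inv ((mapHomology (𝟭 A) n).hom.app K) := by
    rw [← Category.assoc, h1, Category.assoc, IsIso.hom_inv_id, Category.comp_id]
  let c : (DerivedCategory.homologyFunctor A n).obj K ⟶ (DerivedCategory.homologyFunctor A n).obj K :=
    inv ((mapHomology (𝟭 A) n).hom.app K) ≫
      (DerivedCategory.homologyFunctor A n).map ((mapDId A).hom.app K)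
  have h4 := α.naturality c
  dsimp only [Functor.id_map] at h4
  have h5 : (DerivedCategory.homologyFunctor A n).map ((mapDId A).inv.app K) ≫
      (mapHomology (𝟭 A) n).hom.app K ≫ c = 𝟙 _ := by
    dsimp only [c]
    rw [IsIso.hom_inv_id_assoc, ← Functor.map_comp, Iso.inv_hom_id_app]
    exact (DerivedCategory.homologyFunctor A n).map_id _
  rw [h2, h3]
  simp only [Category.assoc]
  refine (congrArg (fun z => (DerivedCategory.homologyFunctor A n).map ((mapDId A).inv.app K) ≫
    (mapHomology (𝟭 A) n).hom.app K ≫ z) h4.symm).trans ?_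
  rw [← Category.assoc, ← Category.assoc, Category.assoc _ _ c, h5, Category.id_comp]

theorem homology_pw (α : 𝟭 A ⟶ 𝟭 A) (Y : DerivedCategory A) (n : ℤ) (k : ℕ) :
    (DerivedCategory.homologyFunctor A n).map (pw ((endD α).app Y) k) =
      pw (α.app ((DerivedCategory.homologyFunctor A n).obj Y)) k := by
  induction k with
  | zero =>
    rw [pw_zero, pw_zero]
    exact (DerivedCategory.homologyFunctor A n).map_id _
  | succ k ih =>
    rw [pw_add, pw_add, Functor.map_comp, ih]
    congr 1
    have h1 : pw ((endD α).app Y) 1 = (endD α).app Y := pow_one (M := End Y) ((endD α).app Y)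
    have h2 : pw (α.app ((DerivedCategory.homologyFunctor A n).obj Y)) 1 =
      α.app ((DerivedCategory.homologyFunctor A n).obj Y) :=
        pow_one (M := End ((DerivedCategory.homologyFunctor A n).obj Y)) _
    rw [h1, h2, homology_endD]

variable {F : A ⥤ A} [F.Additive] [PreservesFiniteLimits F] [PreservesFiniteColimits F] (ι : F ⟶ 𝟭 A)

theorem homology_toId' (K : DerivedCategory A) (n : ℤ) :
    ∃ a : (DerivedCategory.homologyFunctor A n).obj (F.mapDerivedCategory.obj K) ⟶
        F.obj ((DerivedCategory.homologyFunctor A n).obj K), IsIso a ∧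
      (DerivedCategory.homologyFunctor A n).map ((toId ι).app K) =
        a ≫ ι.app ((DerivedCategory.homologyFunctor A n).obj K) := by
  obtain ⟨a, b, ha, hb, h⟩ := homology_toId ι K n
  refine ⟨a ≫ F.map b, inferInstance, ?_⟩
  rw [h, Category.assoc]
  congr 1
  exact (ι.naturality b).symm

variable (α : 𝟭 A ⟶ 𝟭 A) (K Y : DerivedCategory A) (n : ℤ)

theorem loc_base
    (g1 : Function.Bijective (fun φ : K ⟶ Y => (DerivedCategory.homologyFunctor A n).map φ))
    (g2 : Function.Injective (fun φ : F.mapDerivedCategory.obj K ⟶ Y =>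
      (DerivedCategory.homologyFunctor A n).map φ))
    (p1 : P1 F ι (α.app ((DerivedCategory.homologyFunctor A n).obj Y))
      ((DerivedCategory.homologyFunctor A n).obj K))
    (p2 : P2 F ι (α.app ((DerivedCategory.homologyFunctor A n).obj Y))
      ((DerivedCategory.homologyFunctor A n).obj K)) :
    P1 F.mapDerivedCategory (toId ι) ((endD α).app Y) K ∧
      P2 F.mapDerivedCategory (toId ι) ((endD α).app Y) K := by
  obtain ⟨c, hc, hc'⟩ := homology_toId' ι K n
  constructor
  · intro a ha
    obtain ⟨k, hk⟩ := p1 ((DerivedCategory.homologyFunctor A n).map a) (by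
      rw [← cancel_epi c, ← Category.assoc, ← hc', ← Functor.map_comp, ha, Functor.map_zero, comp_zero])
    refine ⟨k, g1.1 ?_⟩
    dsimp only
    rw [Functor.map_comp, homology_pw, Functor.map_zero]
    exact hk
  · intro b
    obtain ⟨k, a', hk⟩ := p2 (inv c ≫ (DerivedCategory.homologyFunctor A n).map b)
    obtain ⟨a, ha⟩ := g1.2 a'
    refine ⟨k, a, g2 ?_⟩
    dsimp only at ha ⊢
    rw [Functor.map_comp, Functor.map_comp, homology_pw, ha, hc', Category.assoc]
    rw [Category.assoc, IsIso.inv_comp_eq] at hk
    exact hk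

end K645.LocBase
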