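import Groth.Agent.AlgSp.K645.Good

/-!
# Localization of the maps out of the extension by zero of the structure sheaf of an open
-/

set_option autoImplicit false

universe u

open CategoryTheory CategoryTheory.Limits AlgebraicGeometry Opposite

attribute [local instance] HasDerivedCategory.standard

namespace K645.LocO

open K645.Ex K645.Lam K645.Shriek K645.Square K645.IsO K646.EtSite K290.DIdem K645.Zar K645.TE
  K645.Loc4 K645.LocBase K645.Mul K645.Int K645.Good Groth.Agent.PerfA.ExactD K290.Thick K290.DId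

variable {S : Scheme.{u}} {X : AlgSp.Sp S} {V : AlgSp.EtOver X}

/-- `Y` is quasi-coherent on the open `W`, and maps into `Y` from the extensions by zero of affine objects over
`W` are computed by the cohomology sheaves. -/
structure GoodOn (Y : DCoh.DMod (AlgSp.OEtOn V)) (W : (sch V).Opens) : Prop where
  bij : ∀ E : Over V, IsAffine (sch E.left) → (oo V W).mem E → ∀ A : AlgSp.ModEtOn V, Cor E A → ∀ n : ℤ,
    Function.Bijective (fun φ : (DerivedCategory.singleFunctor _ n).obj A ⟶ Y =>
      (DerivedCategory.homologyFunctor _ n).map φ)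
  cart : ∀ E : Over V, IsAffine (sch E.left) → (oo V W).mem E → ∀ n : ℤ,
    K644.Local.CartOver (K644.Slice.oT (AlgSp.EtOver.toScheme X) V)
      ((DerivedCategory.homologyFunctor _ n).obj Y) E

theorem goodOn_qc {Y : DCoh.DMod (AlgSp.OEtOn V)} (hY : DCoh.IsQCohDMod (AlgSp.OEtOn V) Y)
    (W : (sch V).Opens) : GoodOn Y W where
  bij E hE _ A hA n := good_qc hE hA hY n
  cart E hE _ n := by
    have := hY n
    have h1 : K644.Psh.IsQC (K644.Slice.oT (AlgSp.EtOver.toScheme X) V)
      ((DerivedCategory.homologyFunctor _ n).obj Y).val := K644.QCoh.isQC_of_isQuasicoherent _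
    exact fun W' W h p hW' hW => h1 h hW' hW

theorem isBC_res_of_iso {M N : AlgSp.ModEtOn V} (e : M ≅ N) {E' E : Over V} (g : E' ⟶ E)
    (h : Groth.Agent.Etbase.FFExact.IsBC
      ((K644.Slice.oT (AlgSp.EtOver.toScheme X) V).map g).appTop.hom (K644.Exact.res M g)) :
    Groth.Agent.Etbase.FFExact.IsBC
      ((K644.Slice.oT (AlgSp.EtOver.toScheme X) V).map g).appTop.hom (K644.Exact.res N g) := by
  let TT := K644.Slice.oT (AlgSp.EtOver.toScheme X) V
  have hb : ∀ E : Over V, Function.Bijective (K644.Exact.smap TT e.hom E) := fun E => by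
    have hi : IsIso ((SheafOfModules.evaluation (AlgSp.OEtOn V) (op E)).map e.hom) := inferInstance
    exact ConcreteCategory.bijective_of_isIso ((SheafOfModules.evaluation (AlgSp.OEtOn V) (op E)).map e.hom)
  exact K644.Alg.IsBC.of_equiv h (LinearEquiv.ofBijective _ (hb E)) (LinearEquiv.ofBijective _ (hb E'))
    _ (fun m => (K644.Exact.smap_res (T := TT) e.hom g m).symm)

theorem cartOver_of_iso {M N : AlgSp.ModEtOn V} (e : M ≅ N) {E : Over V}
    (h : K644.Local.CartOver (K644.Slice.oT (AlgSp.EtOver.toScheme X) V) M E) :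
    K644.Local.CartOver (K644.Slice.oT (AlgSp.EtOver.toScheme X) V) N E :=
  fun _ _ g p hW' hW => isBC_res_of_iso e g (h g p hW' hW)

theorem goodOn_r {G : AlgSp.DModEt X} {W : (sch V).Opens}
    (hG : ∀ E : Over V, IsAffine (sch E.left) → (oo V W).mem E →
      DCoh.IsQCohDMod (AlgSp.OEtOn E.left) ((AlgSp.resDEt E.left).obj G)) :
    GoodOn ((rD (AlgSp.OEtRing X) V).obj G) W where
  bij E hE hEW A hA n := good_r hE hA (hG E hE hEW) n
  cart E hE hEW n := by
    have h1 := (qcAt_iff G E.left).1 (hG E hE hEW) n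
    refine cartOver_of_iso ((mapHomology (rst (AlgSp.OEtRing X) V) n).app G).symm ?_
    intro W' W g p hW' hW
    exact h1 g.left p.left hW' hW

section loc

variable {Y : DCoh.DMod (AlgSp.OEtOn V)} {W' : (sch V).Opens} (hY : GoodOn Y W') (f : B V)

theorem inter_oo_Df (W : (sch V).Opens) : inter (oo V (Df f)) (oo V W) = oo V (W ⊓ Df f) := by
  rw [inter_opV, Set.inter_comm]
  rfl

/-- `j_! j^*` of the extension by zero of the structure sheaf, placed in one degree. -/
theorem nonempty_lD_single (W : (sch V).Opens) (m : ℤ) :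
    Nonempty ((DerivedCategory.singleFunctor _ m).obj (AO V (W ⊓ Df f)) ≅
      (lD (oo V (Df f)) (AlgSp.OEtOn V)).obj ((DerivedCategory.singleFunctor _ m).obj (AO V W))) := by
  obtain ⟨i⟩ := nonempty_inter (R := AlgSp.OEtOn V) (oo V (Df f)) (oo V W)
    (SheafOfModules.unit (AlgSp.OEtOn V))
  rw [inter_oo_Df] at i
  exact ⟨(DerivedCategory.singleFunctor _ m).mapIso i.symm ≪≫
    (((lam (oo V (Df f)) (AlgSp.OEtOn V)).mapDerivedCategorySingleFunctor m).app (AO V W)).symm⟩

include hY in
theorem loc_AO {W : (sch V).Opens} (hW : IsAffineOpen W) (hW' : IsAffineOpen (W ⊓ Df f)) (hWW : W ≤ W') :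
    Loc (lD (oo V (Df f)) (AlgSp.OEtOn V)) (iD (oo V (Df f)) (AlgSp.OEtOn V)) ((endD (mu f)).app Y)
      ((DerivedCategory.singleFunctor _ 0).obj (AO V W)) := by
  intro n
  have e : (DerivedCategory.singleFunctor _ (-n)).obj (AO V W) ≅
      ((DerivedCategory.singleFunctor _ 0).obj (AO V W))⟦n⟧ :=
    (((DerivedCategory.singleFunctors _).shiftIso n (-n) 0 (by lia)).app (AO V W)).symm
  have hm : ∀ W₀ : (sch V).Opens, W₀ ≤ W' → (oo V W').mem (xo V W₀) := fun W₀ h =>
    (mem_xo V W₀).trans h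
  have h := loc_base (ι (oo V (Df f)) (AlgSp.OEtOn V)) (mu f)
    ((DerivedCategory.singleFunctor _ (-n)).obj (AO V W)) Y (-n)
    (hY.bij (xo V W) hW (hm W hWW) (AO V W) (cor_AO V W) (-n))
    (by
      obtain ⟨i⟩ := nonempty_lD_single f W (-n)
      exact (bij_of_iso i (-n) (hY.bij (xo V (W ⊓ Df f)) hW' (hm _ (inf_le_left.trans hWW)) _
        (cor_AO V (W ⊓ Df f)) (-n))).1)
    ((p1 f W hW (hY.cart (xo V W) hW (hm W hWW) (-n))).of_iso
      ((DerivedCategory.singleFunctorCompHomologyFunctorIso _ (-n)).app (AO V W)).symm)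
    ((p2 f W hW (hY.cart (xo V W) hW (hm W hWW) (-n))).of_iso
      ((DerivedCategory.singleFunctorCompHomologyFunctorIso _ (-n)).app (AO V W)).symm)
  exact ⟨h.1.of_iso e, h.2.of_iso e⟩

variable [hV : IsAffine V.obj.left.left]

include hY in
theorem loc_OL (l : List Γ(sch V, ⊤)) (hl : OL l ≤ W') :
    Loc (lD (oo V (Df f)) (AlgSp.OEtOn V)) (iD (oo V (Df f)) (AlgSp.OEtOn V)) ((endD (mu f)).app Y)
      ((lD (oo V (OL l)) (AlgSp.OEtOn V)).obj
        ((DerivedCategory.singleFunctor _ 0).obj (SheafOfModules.unit (AlgSp.OEtOn V)))) := by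
  have hV' : IsAffine (sch V) := hV
  refine zar_ind V (Loc (lD (oo V (Df f)) (AlgSp.OEtOn V)) (iD (oo V (Df f)) (AlgSp.OEtOn V))
    ((endD (mu f)).app Y)) _ l.length l rfl (fun g hg => ?_)
  refine ObjectProperty.prop_of_iso _ (((lam (opV V ((sch V).basicOpen g))
    (AlgSp.OEtOn V)).mapDerivedCategorySingleFunctor 0).app (SheafOfModules.unit (AlgSp.OEtOn V))).symm ?_
  have hg' : IsAffineOpen ((sch V).basicOpen g) := (isAffineOpen_top (sch V)).basicOpen g
  refine loc_AO hY f (W := (sch V).basicOpen g) hg' ?_ (hg.trans hl)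
  have h8 : (sch V).basicOpen g ⊓ Df f = (sch V).basicOpen (g * f.down) := by
    rw [Scheme.basicOpen_mul]
  rw [h8]
  exact (isAffineOpen_top (sch V)).basicOpen _

end loc

end K645.LocO
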