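import Groth.Agent.AlgSp.K645.Zar
import Groth.Agent.AlgSp.K645.AwayL
import Groth.Agent.AlgSp.K645.LocBase
import Groth.Agent.AlgSp.K644.Local

/-!
# Multiplication by functions, and maps out of the extensions by zero of basic opens
-/

set_option autoImplicit false

universe u

open CategoryTheory CategoryTheory.Limits AlgebraicGeometry Opposite

attribute [local instance] HasDerivedCategory.standard

namespace K645.Mul

open K645.Ex K645.Lam K645.Shriek K645.Square K645.IsO K646.EtSite K290.DIdem K645.Zar K645.TE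
  K645.Loc4 K645.AwayL

variable {S : Scheme.{u}} {X : AlgSp.Sp S} {V : AlgSp.EtOver X}

section mu

variable (f : B V)

/-- The restriction of a function. -/
noncomputable def fr (E : Over V) : (AlgSp.OEtOn V).obj.obj (op E) :=
  ((AlgSp.OEtOn V).obj.map (Over.mkIdTerminal.from E).op).hom f

theorem fr_res {E' E : Over V} (e : E' ⟶ E) : ((AlgSp.OEtOn V).obj.map e.op).hom (fr f E) = fr f E' := by
  have h : (Over.mkIdTerminal (X := V)).from E' = e ≫ Over.mkIdTerminal.from E :=
    (Over.mkIdTerminal (X := V)).hom_ext _ _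
  rw [fr, fr, h, op_comp, Functor.map_comp]
  rfl

theorem mul_comm' {E : Over V} (a b : (AlgSp.OEtOn V).obj.obj (op E)) : a * b = b * a :=
  mul_comm (G := B E.left) a b

/-- Multiplication by a function on a module. -/
noncomputable def muApp (M : AlgSp.ModEtOn V) : M ⟶ M where
  val := PresheafOfModules.homMk
    { app := fun E => AddCommGrpCat.ofHom
        { toFun := fun m => fr f E.unop • m
          map_zero' := smul_zero _
          map_add' := fun a b => smul_add _ a b }
      naturality := fun E E' e => by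
        ext m
        refine Eq.symm ?_
        refine ((res M e.unop).map_smulₛₗ (fr f E.unop) m).trans ?_
        exact congrArg (fun c => c • res M e.unop m) (fr_res f e.unop) }
    (fun E r m => by
      change fr f E.unop • (r • m) = r • (fr f E.unop • m)
      rw [smul_smul, smul_smul, mul_comm'])

theorem ap_muApp (M : AlgSp.ModEtOn V) (E : Over V) (m : M.val.obj (op E)) :
    ap (muApp f M) E m = fr f E • m := rfl

/-- Multiplication by a function. -/
noncomputable def mu : 𝟭 (AlgSp.ModEtOn V) ⟶ 𝟭 (AlgSp.ModEtOn V) where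
  app M := muApp f M
  naturality M N g := Ex.hom_ext fun E m => by
    dsimp only [Functor.id_map, Functor.id_obj]
    rw [ap_comp, ap_comp, ap_muApp, ap_muApp]
    exact (map_smul (ap g E) (fr f E) m).symm

theorem ap_pw (M : AlgSp.ModEtOn V) (k : ℕ) (E : Over V) (m : M.val.obj (op E)) :
    ap (pw ((mu f).app M) k) E m = fr f E ^ k • m := by
  induction k with
  | zero => rw [pw_zero, pow_zero, one_smul]; rfl
  | succ k ih =>
    rw [pw_add]
    change ap (pw ((mu f).app M) 1) E (ap (pw ((mu f).app M) k) E m) = _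
    have h1 : pw ((mu f).app M) 1 = (mu f).app M := pow_one (M := End M) _
    rw [ih, h1]
    change fr f E • (fr f E ^ k • m) = _
    rw [smul_smul, pow_succ']

end mu

section one

variable (W : (sch V).Opens)

theorem exists_one : ∃ s : (AO V W).val.obj (op (xo V W)),
    ap (inc (oo V W) (SheafOfModules.unit (AlgSp.OEtOn V))) (xo V W) s =
      (1 : (AlgSp.OEtOn V).obj.obj (op (xo V W))) ∧
    ∀ (M : AlgSp.ModEtOn V) (m : M.val.obj (op (xo V W))), ∃! φ : AO V W ⟶ M, ap φ (xo V W) s = m := by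
  obtain ⟨s, hs⟩ := exists_ap_inc (oo V W) (SheafOfModules.unit (AlgSp.OEtOn V)) (xo V W)
    (1 : (AlgSp.OEtOn V).obj.obj (op (xo V W))) (mem_sub_of_mem _ _ (mem_xo V W) _)
  refine ⟨s, hs, fun M m => ?_⟩
  obtain ⟨s0, h0⟩ := cor_AO V W
  let c : (AlgSp.OEtOn V).obj.obj (op (xo V W)) :=
    ap (inc (oo V W) (SheafOfModules.unit (AlgSp.OEtOn V))) (xo V W) s0
  have hc : s0 = c • s := by
    apply ap_inc_injective (oo V W) (SheafOfModules.unit (AlgSp.OEtOn V)) (xo V W)
    rw [map_smul, hs]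
    exact (mul_one c).symm
  have key : ∀ (M : AlgSp.ModEtOn V) (ψ : AO V W ⟶ M), ap ψ (xo V W) s0 = c • ap ψ (xo V W) s := by
    intro M ψ
    rw [hc, map_smul]
  obtain ⟨ψ1, h1, -⟩ := h0 (SheafOfModules.unit (AlgSp.OEtOn V)) (1 : (AlgSp.OEtOn V).obj.obj (op (xo V W)))
  let d : (AlgSp.OEtOn V).obj.obj (op (xo V W)) := ap ψ1 (xo V W) s
  have hcd : c * d = 1 := (key _ ψ1).symm.trans h1
  have hinj : ∀ (M : AlgSp.ModEtOn V) (x y : M.val.obj (op (xo V W))), c • x = c • y → x = y := by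
    intro M x y h
    have h2 : d • (c • x) = d • (c • y) := congrArg (fun z => d • z) h
    rw [smul_smul, smul_smul, mul_comm' d c, hcd, one_smul, one_smul] at h2
    exact h2
  obtain ⟨ψ, h2, h3⟩ := h0 M (c • m)
  refine ⟨ψ, hinj M _ _ ?_, fun φ hφ => h3 φ ?_⟩
  · exact (key M ψ).symm.trans h2
  · exact (key M φ).trans (congrArg (fun z => c • z) hφ)

/-- The canonical section. -/
noncomputable def one : (AO V W).val.obj (op (xo V W)) := (exists_one W).choose

theorem inc_one : ap (inc (oo V W) (SheafOfModules.unit (AlgSp.OEtOn V))) (xo V W) (one W) =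
    (1 : (AlgSp.OEtOn V).obj.obj (op (xo V W))) := (exists_one W).choose_spec.1

theorem one_univ (M : AlgSp.ModEtOn V) (m : M.val.obj (op (xo V W))) :
    ∃! φ : AO V W ⟶ M, ap φ (xo V W) (one W) = m := (exists_one W).choose_spec.2 M m

theorem eq_smul_one {E : Over V} (e : E ⟶ xo V W) (t : (AO V W).val.obj (op E)) :
    t = (show (AlgSp.OEtOn V).obj.obj (op E) from
      ap (inc (oo V W) (SheafOfModules.unit (AlgSp.OEtOn V))) E t) • res (AO V W) e (one W) := by
  apply ap_inc_injective (oo V W) (SheafOfModules.unit (AlgSp.OEtOn V)) E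
  rw [map_smul, ap_res, inc_one]
  have h1 : res (SheafOfModules.unit (AlgSp.OEtOn V)) e (1 : (AlgSp.OEtOn V).obj.obj (op (xo V W))) =
      (1 : (AlgSp.OEtOn V).obj.obj (op E)) := map_one ((AlgSp.OEtOn V).obj.map e.op).hom
  rw [h1]
  exact (mul_one (M := (AlgSp.OEtOn V).obj.obj (op E)) _).symm

end one

section P

variable (f : B V) (W : (sch V).Opens)

/-- The basic open. -/
noncomputable abbrev Df : (sch V).Opens := (sch V).basicOpen (f.down : Γ(sch V, ⊤))

/-- The inclusion of an intersection. -/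
noncomputable def xoι (W W' : (sch V).Opens) : xo V (W ⊓ W') ⟶ xo V W :=
  (nonempty_hom_xo V (W := W) (E := xo V (W ⊓ W')) ((mem_xo V (W ⊓ W')).trans
    (fun _ h => h.1))).some

theorem exists_z : ∃ z : ((lam (oo V (Df f)) (AlgSp.OEtOn V)).obj (AO V W)).val.obj (op (xo V (W ⊓ Df f))),
    ap (inc (oo V (Df f)) (AO V W)) _ z = res (AO V W) (xoι W (Df f)) (one W) :=
  exists_ap_inc _ _ _ _ (mem_sub_of_mem _ _ ((mem_xo V (W ⊓ Df f)).trans (fun _ h => h.2)) _)

/-- Morphisms out of `j_! j^*` of the extension by zero are determined by one section. -/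
theorem hom_ext_z {M : AlgSp.ModEtOn V} (b b' : (lam (oo V (Df f)) (AlgSp.OEtOn V)).obj (AO V W) ⟶ M)
    (z : ((lam (oo V (Df f)) (AlgSp.OEtOn V)).obj (AO V W)).val.obj (op (xo V (W ⊓ Df f))))
    (hz : ap (inc (oo V (Df f)) (AO V W)) _ z = res (AO V W) (xoι W (Df f)) (one W))
    (h : ap b _ z = ap b' _ z) : b = b' := by
  refine hom_ext_of_cover fun E t => ?_
  obtain ⟨T, hT, h1⟩ := ap_inc_mem (oo V (Df f)) (AO V W) E t
  obtain ⟨T', hT', h2⟩ := ap_inc_mem (oo V W) (SheafOfModules.unit (AlgSp.OEtOn V)) E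
    (ap (inc (oo V (Df f)) (AO V W)) E t)
  refine ⟨T ⊓ T', GrothendieckTopology.intersection_covering _ hT hT', fun E' e he => ?_⟩
  have hzero : res _ e t = 0 → ap b E' (res _ e t) = ap b' E' (res _ e t) := fun h0 => by
    rw [h0, map_zero, map_zero]
  rcases h1 e he.1 with h3 | h3
  · rcases h2 e he.2 with h4 | h4
    · have h5 : (oo V (W ⊓ Df f)).mem E' := Set.subset_inter h4 h3
      obtain ⟨g⟩ := nonempty_hom_xo V h5
      have h6 : res _ e t = (show (AlgSp.OEtOn V).obj.obj (op E') from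
          ap (inc (oo V W) (SheafOfModules.unit (AlgSp.OEtOn V))) E'
            (ap (inc (oo V (Df f)) (AO V W)) E' (res _ e t))) • res _ g z := by
        apply ap_inc_injective (oo V (Df f)) (AO V W) E'
        rw [map_smul, ap_res (inc (oo V (Df f)) (AO V W)) g z, hz, ← res_comp]
        exact eq_smul_one W (g ≫ xoι W (Df f)) _
      have h7 : ap b E' (res _ g z) = ap b' E' (res _ g z) := by
        rw [ap_res b, ap_res b', h]
      rw [h6, map_smul, map_smul, h7]
    · apply hzero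
      apply ap_inc_injective (oo V (Df f)) (AO V W) E'
      apply ap_inc_injective (oo V W) (SheafOfModules.unit (AlgSp.OEtOn V)) E'
      rw [map_zero, map_zero, ap_res (inc (oo V (Df f)) (AO V W)), ap_res (inc (oo V W) _)]
      exact h4
  · apply hzero
    apply ap_inc_injective (oo V (Df f)) (AO V W) E'
    rw [map_zero, ap_res]
    exact h3

/-- The function on the open, as a function on the scheme. -/
noncomputable def rr : Γ((K644.Slice.oT (AlgSp.EtOver.toScheme X) V).obj (xo V W), ⊤) :=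
  ((K644.Slice.oT (AlgSp.EtOver.toScheme X) V).map
    (Over.mkIdTerminal.from (xo V W))).appTop.hom f.down

theorem fr_xo : fr f (xo V W) = K644.Psh.Str.ρ (T := K644.Slice.oT (AlgSp.EtOver.toScheme X) V)
    (R := (AlgSp.OEtOn V).obj) (xo V W) (rr f W) :=
  K644.Psh.Str.nat (T := K644.Slice.oT (AlgSp.EtOver.toScheme X) V)
    (R := (AlgSp.OEtOn V).obj) (Over.mkIdTerminal.from (xo V W)) f.down

theorem rr_eq : rr f W = (mor (xo V W).hom).appTop.hom f.down := by
  have h : Over.mkIdTerminal.from (xo V W) = Over.homMk (U := xo V W) (V := Over.mk (𝟙 V)) (xo V W).hom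
      (Category.comp_id _) := Over.mkIdTerminal.hom_ext _ _
  rw [rr, h]
  rfl

theorem range_xoι : Set.range ((K644.Slice.oT (AlgSp.EtOver.toScheme X) V).map (xoι W (Df f))) =
    ((K644.Slice.oT (AlgSp.EtOver.toScheme X) V).obj (xo V W)).basicOpen (rr f W) := by
  let j : (W ⊓ Df f).toScheme ⟶ W.toScheme := (K644.Slice.oT (AlgSp.EtOver.toScheme X) V).map (xoι W (Df f))
  have h2 : j ≫ W.ι = (W ⊓ Df f).ι := congrArg mor (Over.w (xoι W (Df f)))
  have h3 : rr f W = ((mor (xo V W).hom).appTop.hom f.down) := rr_eq f W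
  have h4 : W.toScheme.basicOpen (rr f W) = W.ι ⁻¹ᵁ (Df f) := by
    rw [h3]
    exact (Scheme.preimage_basicOpen_top W.ι f.down).symm
  change Set.range j = (W.toScheme.basicOpen (rr f W) : Set W.toScheme)
  rw [h4]
  ext x
  constructor
  · rintro ⟨y, rfl⟩
    change W.ι (j y) ∈ Df f
    rw [← Scheme.Hom.comp_apply, h2]
    have h5 : (W ⊓ Df f).ι y ∈ Set.range (W ⊓ Df f).ι := ⟨y, rfl⟩
    rw [(W ⊓ Df f).range_ι] at h5
    exact h5.2
  · intro hx
    have h5 : W.ι x ∈ Set.range (W ⊓ Df f).ι := by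
      rw [(W ⊓ Df f).range_ι]
      refine ⟨?_, hx⟩
      have h6 : W.ι x ∈ Set.range W.ι := ⟨x, rfl⟩
      rwa [W.range_ι] at h6
    obtain ⟨y, hy⟩ := h5
    refine ⟨y, W.ι.isOpenEmbedding.injective ?_⟩
    rw [← hy, ← Scheme.Hom.comp_apply, h2]

theorem isLoc (hW : IsAffineOpen W) {M : AlgSp.ModEtOn V}
    (hM : K644.Local.CartOver (K644.Slice.oT (AlgSp.EtOver.toScheme X) V) M (xo V W)) :
    (∀ x : M.val.obj (op (xo V W)), res M (xoι W (Df f)) x = 0 → ∃ k : ℕ, fr f (xo V W) ^ k • x = 0) ∧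
    (∀ y : M.val.obj (op (xo V (W ⊓ Df f))), ∃ (k : ℕ) (x : M.val.obj (op (xo V W))),
      fr f (xo V (W ⊓ Df f)) ^ k • y = res M (xoι W (Df f)) x) := by
  let TT := K644.Slice.oT (AlgSp.EtOver.toScheme X) V
  have h2 : (TT.map (xoι W (Df f))) ≫ W.ι = (W ⊓ Df f).ι := congrArg mor (Over.w (xoι W (Df f)))
  have h0 : ∀ W : (sch V).Opens, IsOpenImmersion W.ι := fun W => inferInstance
  have h3 : IsOpenImmersion (TT.map (xoι W (Df f)) ≫ W.ι) := by
    rw [h2]
    exact h0 _
  have h0' := h0 W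
  have h4 : IsOpenImmersion (TT.map (xoι W (Df f))) :=
    @IsOpenImmersion.of_comp _ _ _ (TT.map (xoι W (Df f))) W.ι h0' h3
  have h5 : IsAffine (TT.obj (xo V W)) := hW
  have h6 := away_of_range (TT.map (xoι W (Df f))) (rr f W) (range_xoι f W)
  have h7 : IsAffine (TT.obj (xo V (W ⊓ Df f))) := by
    have h8 : W ⊓ Df f = (sch V).basicOpen ((sch V).presheaf.map (homOfLE (le_top : W ≤ ⊤)).op f.down) := by
      rw [Scheme.basicOpen_res]
    have : IsAffineOpen (W ⊓ Df f) := by
      rw [h8]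
      exact hW.basicOpen _
    exact this
  obtain ⟨h8, h9⟩ := isLocalizedModule_of_isBC (hM (xoι W (Df f)) (𝟙 _) h7 h5) (rr f W) h6
  constructor
  · intro x hx
    obtain ⟨k, hk⟩ := h8 x hx
    refine ⟨k, ?_⟩
    rw [fr_xo, ← map_pow]
    exact hk
  · intro y
    obtain ⟨k, x, hk⟩ := h9 y
    refine ⟨k, x, ?_⟩
    have h10 : fr f (xo V (W ⊓ Df f)) = K644.Psh.Str.ρ (T := TT) (R := (AlgSp.OEtOn V).obj)
        (xo V (W ⊓ Df f)) ((TT.map (xoι W (Df f))).appTop.hom (rr f W)) := by
      rw [← K644.Psh.Str.nat, ← fr_xo]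
      exact (fr_res f (xoι W (Df f))).symm
    rw [h10, ← map_pow]
    exact hk

end P

section P12

variable (f : B V) (W : (sch V).Opens) (hW : IsAffineOpen W) {M : AlgSp.ModEtOn V}
    (hM : K644.Local.CartOver (K644.Slice.oT (AlgSp.EtOver.toScheme X) V) M (xo V W))

include hW hM

theorem p1 : P1 (lam (oo V (Df f)) (AlgSp.OEtOn V)) (ι (oo V (Df f)) (AlgSp.OEtOn V)) ((mu f).app M)
    (AO V W) := by
  intro a ha
  obtain ⟨z, hz⟩ := exists_z f W
  have h1 : res M (xoι W (Df f)) (ap a _ (one W)) = 0 := by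
    rw [← ap_res, ← hz, ← ap_comp]
    exact (congrArg (fun k => ap k _ z) ha).trans (ap_zero _ _)
  obtain ⟨k, hk⟩ := (isLoc f W hW hM).1 _ h1
  refine ⟨k, (one_univ W M 0).unique ?_ ?_⟩
  · change ap (a ≫ pw ((mu f).app M) k) _ (one W) = 0
    exact (ap_pw f M k _ _).trans hk
  · exact ap_zero _ _

theorem p2 : P2 (lam (oo V (Df f)) (AlgSp.OEtOn V)) (ι (oo V (Df f)) (AlgSp.OEtOn V)) ((mu f).app M)
    (AO V W) := by
  intro b
  obtain ⟨z, hz⟩ := exists_z f W
  obtain ⟨k, x, hk⟩ := (isLoc f W hW hM).2 (ap b _ z)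
  obtain ⟨a, ha, -⟩ := one_univ W M x
  refine ⟨k, a, hom_ext_z f W _ _ z hz ?_⟩
  have e1 : ap (b ≫ pw ((mu f).app M) k) _ z = res M (xoι W (Df f)) x := (ap_pw f M k _ _).trans hk
  refine e1.trans ?_
  rw [← ha, ← ap_res, ← hz]
  rfl

end P12

end K645.Mul
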