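import Groth.Agent.AlgSp.K645.LocO
import Groth.Agent.PerfB.DQAdj

/-!
# The right adjoint `RΓ(W, -)` of `M ↦ j_! j^* M~`
-/

set_option autoImplicit false

universe w₁ w₂ v₁ v₂ u₁ u₂ u

open CategoryTheory CategoryTheory.Limits AlgebraicGeometry Opposite

namespace K645.Psi

section abs

open DerivedCategory Groth.Agent.PerfB.DQAdj Groth.Agent.PerfA.ExactD

variable {A : Type u₁} {B : Type u₂} [Category.{v₁} A] [Category.{v₂} B] [Abelian A] [Abelian B]
  [HasDerivedCategory.{w₁} A] [HasDerivedCategory.{w₂} B]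
  (L : A ⥤ B) [L.Additive] [PreservesFiniteLimits L] [PreservesFiniteColimits L]

/-- The derived right adjoint, at an object. -/
theorem exists_right {R : B ⥤ A} (adj : L ⊣ R)
    (hres : ∀ K : CochainComplex B ℤ, ∃ (I : CochainComplex B ℤ) (s : K ⟶ I), I.IsKInjective ∧ QuasiIso s)
    (Y : DerivedCategory B) :
    ∃ (M : DerivedCategory A) (c : L.mapDerivedCategory.obj M ⟶ Y), ∀ N : DerivedCategory A,
      Function.Bijective (fun ψ : N ⟶ M => L.mapDerivedCategory.map ψ ≫ c) := by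
  have : R.Additive := adj.right_adjoint_additive
  obtain ⟨I, s, hI, hs⟩ := hres (Q.objPreimage Y)
  let e : Q.obj I ≅ Y := (asIso (Q.map s)).symm ≪≫ Q.objObjPreimageIso Y
  refine ⟨Q.obj ((mapCx R).obj I), cmap adj I ≫ e.hom, fun N => ?_⟩
  have h1 := bijective_theta_of_isKInjective adj N I
  have h2 : (fun ψ : N ⟶ Q.obj ((mapCx R).obj I) => L.mapDerivedCategory.map ψ ≫ cmap adj I ≫ e.hom) =
      (fun χ => χ ≫ e.hom) ∘ theta adj N I := by
    funext ψ
    simp [theta]
  rw [h2]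
  exact (Iso.homToEquiv e).bijective.comp h1

/-- The same for a composition. -/
theorem exists_right_comp {C : Type u₂} [Category.{v₂} C] [Abelian C] [HasDerivedCategory.{w₂} C]
    (G : B ⥤ C) [G.Additive] [PreservesFiniteLimits G] [PreservesFiniteColimits G]
    {R : C ⥤ A} (adj : L ⋙ G ⊣ R)
    (hres : ∀ K : CochainComplex C ℤ, ∃ (I : CochainComplex C ℤ) (s : K ⟶ I), I.IsKInjective ∧ QuasiIso s)
    (Y : DerivedCategory C) :
    ∃ (M : DerivedCategory A) (c : G.mapDerivedCategory.obj (L.mapDerivedCategory.obj M) ⟶ Y),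
      ∀ N : DerivedCategory A, Function.Bijective
        (fun ψ : N ⟶ M => G.mapDerivedCategory.map (L.mapDerivedCategory.map ψ) ≫ c) := by
  have i1 : PreservesFiniteLimits (L ⋙ G) := comp_preservesFiniteLimits _ _
  have i2 : PreservesFiniteColimits (L ⋙ G) := comp_preservesFiniteColimits _ _
  obtain ⟨M, c, hc⟩ := exists_right (L ⋙ G) adj hres Y
  let e : L.mapDerivedCategory ⋙ G.mapDerivedCategory ≅ (L ⋙ G).mapDerivedCategory :=
    mapDComp (Iso.refl (L ⋙ G))
  refine ⟨M, e.hom.app M ≫ c, fun N => ?_⟩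
  have h2 : (fun ψ : N ⟶ M => G.mapDerivedCategory.map (L.mapDerivedCategory.map ψ) ≫ e.hom.app M ≫ c) =
      (fun χ => e.hom.app N ≫ χ) ∘ (fun ψ : N ⟶ M => (L ⋙ G).mapDerivedCategory.map ψ ≫ c) := by
    funext ψ
    have := e.hom.naturality ψ
    dsimp only [Functor.comp_map] at this
    dsimp only [Function.comp_apply]
    rw [reassoc_of% this]
  rw [h2]
  exact (Iso.homFromEquiv (e.symm.app N)).bijective.comp (hc N)

end abs

attribute [local instance] HasDerivedCategory.standard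

open K645.Ex K645.Lam K645.Shriek K645.Square K645.IsO K646.EtSite K290.DIdem K645.Zar K645.TE
  K645.Loc4 K645.LocBase K645.Mul K645.Int K645.Good Groth.Agent.PerfA.ExactD K290.Thick K290.DId

variable {S : Scheme.{u}} {X : AlgSp.Sp S} {V : AlgSp.EtOver X}

/-- `f_! f^* = j_! j^*` for an open immersion. -/
noncomputable def isoLam (W : (sch V).Opens) :
    rst (AlgSp.OEtOn V) (xo V W) ⋙ shriek (AlgSp.OEtOn V) (xo V W) ≅ lam (oo V W) (AlgSp.OEtOn V) :=
  NatIso.ofComponents (fun M =>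
    have := isIso_inc_W (elem_xo V W) ((rst (AlgSp.OEtOn V) (xo V W)).obj M)
    have := isIso_lam_counit_of_vanM (elem_xo V W) (vanM_bot V M)
    (asIso (inc (oo V W) ((shriek (AlgSp.OEtOn V) (xo V W)).obj
      ((rst (AlgSp.OEtOn V) (xo V W)).obj M)))).symm ≪≫
      asIso ((lam (oo V W) (AlgSp.OEtOn V)).map (counitHom M)))
    (fun {M N} f => by
      have := isIso_inc_W (elem_xo V W) ((rst (AlgSp.OEtOn V) (xo V W)).obj M)
      have := isIso_inc_W (elem_xo V W) ((rst (AlgSp.OEtOn V) (xo V W)).obj N)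
      have h1 := (adj (AlgSp.OEtOn V) (xo V W)).counit.naturality f
      have h2 := lam_map_inc (oo V W) ((shriek (AlgSp.OEtOn V) (xo V W)).map
        ((rst (AlgSp.OEtOn V) (xo V W)).map f))
      have h3 : (lam (oo V W) (AlgSp.OEtOn V)).map ((shriek (AlgSp.OEtOn V) (xo V W)).map
        ((rst (AlgSp.OEtOn V) (xo V W)).map f)) ≫ (lam (oo V W) (AlgSp.OEtOn V)).map (counitHom N) =
          (lam (oo V W) (AlgSp.OEtOn V)).map (counitHom M) ≫ (lam (oo V W) (AlgSp.OEtOn V)).map f := by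
        rw [← Functor.map_comp, ← Functor.map_comp]
        exact congrArg _ h1
      dsimp only [Iso.trans_hom, Iso.symm_hom, asIso_inv, asIso_hom, Functor.comp_map]
      rw [Category.assoc, ← h3, IsIso.eq_inv_comp, ← reassoc_of% h2, IsIso.hom_inv_id_assoc])

theorem isLeftAdjoint_rst (E : Over V) : (rst (AlgSp.OEtOn V) E).IsLeftAdjoint := by
  unfold rst SheafOfModules.overFunctor
  infer_instance

/-- The adjunction for `j_! j^* M~`. -/
theorem exists_adj (W : (sch V).Opens) :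
    ∃ R : AlgSp.ModEtOn V ⥤ ModuleCat.{u + 1} (B V), Nonempty (tE V ⋙ lam (oo V W) (AlgSp.OEtOn V) ⊣ R) := by
  have := isLeftAdjoint_rst (xo V W)
  let a1 := (Adjunction.ofIsLeftAdjoint (rst (AlgSp.OEtOn V) (xo V W))).comp (adj (AlgSp.OEtOn V) (xo V W))
  exact ⟨_, ⟨(adjE V).comp (a1.ofNatIsoLeft (isoLam W))⟩⟩

/-- `RΓ(W, Y)`. -/
theorem exists_psi [IsAffine V.obj.left.left] (W : (sch V).Opens) (Y : DCoh.DMod (AlgSp.OEtOn V)) :
    ∃ (M : Dual.D (B V)) (c : (lD (oo V W) (AlgSp.OEtOn V)).obj ((TD V).obj M) ⟶ Y),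
      ∀ N : Dual.D (B V), Function.Bijective
        (fun ψ : N ⟶ M => (lD (oo V W) (AlgSp.OEtOn V)).map ((TD V).map ψ) ≫ c) := by
  obtain ⟨R, ⟨a⟩⟩ := exists_adj W
  exact exists_right_comp (tE V) (lam (oo V W) (AlgSp.OEtOn V)) a (exists_resolution V) Y

end K645.Psi
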