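import Groth.Agent.AlgSp.K645.LocBase

/-!
# Comparison of two localizations
-/

set_option autoImplicit false

universe v u v' u'

open CategoryTheory CategoryTheory.Limits

namespace K645.PsiAlg

open K645.Loc4

variable {D : Type u} [Category.{v} D] [Preadditive D] {A : Type u'} [Category.{v'} A] [Preadditive A]
  (F G : D ⥤ D) (ιF : F ⟶ 𝟭 D) (ιG : G ⟶ 𝟭 D) (T : A ⥤ D) (μ : 𝟭 D ⟶ 𝟭 D) (ν : 𝟭 A ⟶ 𝟭 A)

/-- Powers of a natural endomorphism of the identity are natural. -/
theorem pw_nat {X Y : D} (f : X ⟶ Y) (k : ℕ) : f ≫ pw (μ.app Y) k = pw (μ.app X) k ≫ f := by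
  induction k with
  | zero => rw [pw_zero, pw_zero]; exact (Category.comp_id f).trans (Category.id_comp f).symm
  | succ k ih =>
    have h1 : ∀ Z : D, pw (μ.app Z) 1 = μ.app Z := fun Z => pow_one (M := End Z) (μ.app Z)
    have h2 : f ≫ μ.app Y = μ.app X ≫ f := μ.naturality f
    rw [pw_add, pw_add, ← Category.assoc, ih, Category.assoc, h1, h1]
    exact (congrArg (fun z => pw (μ.app X) k ≫ z) h2).trans (Category.assoc _ _ _).symm

theorem map_pw (H : A ⥤ D) (h : ∀ X : A, H.map (ν.app X) = μ.app (H.obj X)) (X : A) (k : ℕ) :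
    H.map (pw (ν.app X) k) = pw (μ.app (H.obj X)) k := by
  induction k with
  | zero => rw [pw_zero, pw_zero]; exact H.map_id X
  | succ k ih =>
    have h1 : pw (ν.app X) 1 = ν.app X := pow_one (M := End X) (ν.app X)
    have h2 : pw (μ.app (H.obj X)) 1 = μ.app (H.obj X) := pow_one (M := End (H.obj X)) _
    rw [pw_add, pw_add, Functor.map_comp, ih, h1, h2]
    exact congrArg (fun z => pw (μ.app (H.obj X)) k ≫ z) (h X)

instance {X : D} [IsIso (μ.app X)] (k : ℕ) : IsIso (pw (μ.app X) k) := by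
  induction k with
  | zero => rw [pw_zero]; infer_instance
  | succ k ih =>
    have h2 : pw (μ.app X) 1 = μ.app X := pow_one (M := End X) _
    rw [pw_add, h2]
    exact IsIso.comp_isIso

variable {N M : A} {Y : D} (c : G.obj (T.obj M) ⟶ Y)

/-- Comparison of two localizations. -/
theorem bijective_comp [T.Additive] [G.Additive] (hT : ∀ X : A, T.map (ν.app X) = μ.app (T.obj X))
    (hG : ∀ X : D, G.map (μ.app X) = μ.app (G.obj X))
    (hc : Function.Bijective (fun ψ : N ⟶ M => G.map (T.map ψ) ≫ c))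
    (h1 : P1 F ιF (μ.app Y) (G.obj (T.obj N))) (h1' : P2 F ιF (μ.app Y) (G.obj (T.obj N)))
    (h2 : P2 F ιF (μ.app (T.obj M)) (T.obj N))
    (hfull : Function.Surjective (fun ψ : N ⟶ M => T.map ψ))
    (h3 : IsIso (F.map (ιG.app (T.obj N))))
    (h4 : ∀ β : F.obj (G.obj (T.obj N)) ⟶ G.obj (T.obj M), β ≫ ιG.app (T.obj M) = 0 → β = 0)
    (h5 : IsIso (μ.app (F.obj (G.obj (T.obj N))))) :
    Function.Bijective (fun β : F.obj (G.obj (T.obj N)) ⟶ G.obj (T.obj M) => β ≫ c) := by
  -- surjectivity of `a` up to torsion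
  have ha : ∀ β : F.obj (G.obj (T.obj N)) ⟶ G.obj (T.obj M), ∃ (k : ℕ) (α : N ⟶ M),
      pw (μ.app _) k ≫ β = ιF.app (G.obj (T.obj N)) ≫ G.map (T.map α) := by
    intro β
    let x : F.obj (T.obj N) ⟶ T.obj M := inv (F.map (ιG.app (T.obj N))) ≫ β ≫ ιG.app (T.obj M)
    obtain ⟨k, y, hk⟩ := h2 x
    obtain ⟨α, rfl⟩ := hfull y
    refine ⟨k, α, sub_eq_zero.1 (h4 _ ?_)⟩
    have e2 : G.map (T.map α) ≫ ιG.app (T.obj M) = ιG.app (T.obj N) ≫ T.map α := ιG.naturality _
    have e3 : F.map (ιG.app (T.obj N)) ≫ ιF.app (T.obj N) = ιF.app (G.obj (T.obj N)) ≫ ιG.app (T.obj N) :=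
      ιF.naturality _
    have e4 : F.map (ιG.app (T.obj N)) ≫ x = β ≫ ιG.app (T.obj M) := IsIso.hom_inv_id_assoc _ _
    dsimp only at hk
    rw [Preadditive.sub_comp, sub_eq_zero, Category.assoc, Category.assoc]
    refine Eq.trans ?_ (Eq.trans (congrArg (fun z => F.map (ιG.app (T.obj N)) ≫ z) hk) ?_)
    · rw [← Category.assoc (F.map _), e4, Category.assoc]
      rw [← Category.assoc, ← pw_nat μ β k, Category.assoc]
      exact congrArg (fun z => β ≫ z) (pw_nat μ (ιG.app (T.obj M)) k).symm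
    · refine Eq.trans (Category.assoc _ _ _).symm ?_
      rw [e3, Category.assoc]
      exact congrArg (fun z => ιF.app (G.obj (T.obj N)) ≫ z) e2.symm
  constructor
  · intro β₁ β₂ h
    rw [← sub_eq_zero]
    have h0 : (β₁ - β₂) ≫ c = 0 := by
      rw [Preadditive.sub_comp, sub_eq_zero]
      exact h
    generalize β₁ - β₂ = β at h0
    obtain ⟨k, α, hk⟩ := ha β
    obtain ⟨j, hj⟩ := h1 (G.map (T.map α) ≫ c) (by
      rw [← Category.assoc]
      refine (congrArg (fun z => z ≫ c) hk.symm).trans ?_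
      rw [Category.assoc, h0, comp_zero])
    have h6 : G.map (T.map (α ≫ pw (ν.app M) j)) ≫ c = 0 := by
      rw [Functor.map_comp, Functor.map_comp, map_pw μ ν T hT, map_pw μ μ G hG, Category.assoc]
      rw [← pw_nat μ c j, ← Category.assoc]
      exact hj
    have h7 : α ≫ pw (ν.app M) j = 0 := hc.1 (h6.trans (by
      have : G.map (T.map (0 : N ⟶ M)) ≫ c = 0 := by
        rw [T.map_zero, G.map_zero, zero_comp]
      exact this.symm))
    have h8 : (pw (μ.app _) k ≫ β) ≫ pw (μ.app _) j = 0 := by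
      rw [hk, Category.assoc]
      have := map_pw μ μ G hG (T.obj M) j
      rw [← this, ← map_pw μ ν T hT, ← Functor.map_comp, ← Functor.map_comp, h7, T.map_zero, G.map_zero,
        comp_zero]
    rw [Category.assoc, pw_nat μ β j] at h8
    rw [← cancel_epi (pw (μ.app (F.obj (G.obj (T.obj N)))) k ≫ pw (μ.app _) j), Category.assoc, comp_zero]
    exact h8
  · intro γ
    obtain ⟨k, b, hk⟩ := h1' γ
    obtain ⟨α, rfl⟩ := hc.2 b
    refine ⟨inv (pw (μ.app _) k) ≫ ιF.app (G.obj (T.obj N)) ≫ G.map (T.map α), ?_⟩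
    dsimp only at hk ⊢
    rw [← cancel_epi (pw (μ.app (F.obj (G.obj (T.obj N)))) k)]
    rw [Category.assoc, IsIso.hom_inv_id_assoc, ← pw_nat μ γ k, Category.assoc]
    exact hk.symm

end K645.PsiAlg
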