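import Groth.Agent.AlgSp.K645.Psi
import Groth.Agent.AlgSp.K645.PsiAlg

/-!
# Isomorphisms over an open
-/

set_option autoImplicit false
set_option linter.unusedSectionVars false

universe u

open CategoryTheory CategoryTheory.Limits AlgebraicGeometry Opposite

attribute [local instance] HasDerivedCategory.standard

namespace K645.PsiIso

open K645.Ex K645.Lam K645.Shriek K645.Square K645.IsO K646.EtSite K290.DIdem K645.Zar K645.TE
  K645.Loc4 K645.LocBase K645.Mul K645.Int K645.Good Groth.Agent.PerfA.ExactD K290.Thick K290.DId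
  K645.LocO K645.Psi K645.PsiAlg

section gen

variable {C : Type (u + 1)} [Category.{u} C] {J : GrothendieckTopology C} {R : Sheaf J RingCat.{u + 1}}
  [HasSheafify J AddCommGrpCat.{u + 1}] [J.WEqualsLocallyBijective AddCommGrpCat.{u + 1}] {U : Opn C}

theorem isIso_inc_of_cor {E : C} (hE : U.mem E) {A : SheafOfModules.{u + 1} R} (hA : Cor E A) :
    IsIso (inc U A) := by
  obtain ⟨a, ha⟩ := hA
  obtain ⟨a', ha'⟩ := exists_ap_inc U A E a (mem_sub_of_mem U A hE a)
  obtain ⟨φ, hφ, -⟩ := ha (obj U A) a'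
  have h1 : φ ≫ inc U A = 𝟙 A := by
    refine (ha A a).unique ?_ rfl
    refine Eq.trans ?_ ha'
    exact congrArg (ap (inc U A) E) hφ
  have : IsSplitEpi (inc U A) := ⟨⟨φ, h1⟩⟩
  exact isIso_of_mono_of_isSplitEpi _

/-- Morphisms which are isomorphisms over `U` are bijective on sections over objects in `U`. -/
theorem bijective_ap {M N : SheafOfModules.{u + 1} R} (v : M ⟶ N) (hv : IsIso ((lam U R).map v))
    {E : C} (hE : U.mem E) : Function.Bijective (ap v E) := by
  have hb : Function.Bijective (ap ((lam U R).map v) E) := by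
    have hi : IsIso ((SheafOfModules.evaluation R (op E)).map ((lam U R).map v)) := inferInstance
    exact ConcreteCategory.bijective_of_isIso ((SheafOfModules.evaluation R (op E)).map ((lam U R).map v))
  constructor
  · intro x y hxy
    obtain ⟨x', rfl⟩ := exists_ap_inc U M E x (mem_sub_of_mem U M hE x)
    obtain ⟨y', rfl⟩ := exists_ap_inc U M E y (mem_sub_of_mem U M hE y)
    congr 1
    apply hb.1
    apply ap_inc_injective U N E
    exact (ap_lam_map U v E x').trans (hxy.trans (ap_lam_map U v E y').symm)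
  · intro y
    obtain ⟨y', rfl⟩ := exists_ap_inc U N E y (mem_sub_of_mem U N hE y)
    obtain ⟨x', rfl⟩ := hb.2 y'
    exact ⟨ap (inc U M) E x', (ap_lam_map U v E x').symm⟩

theorem isIso_lam_of_local {M N : SheafOfModules.{u + 1} R} (v : M ⟶ N)
    (h : ∀ E : C, U.mem E → ∃ T ∈ J E, ∀ ⦃E' : C⦄ (e : E' ⟶ E), T e → Function.Bijective (ap v E')) :
    IsIso ((lam U R).map v) := by
  have key : ∀ (E : C) (x : M.val.obj (op E)), U.mem E → ap v E x = 0 → x = 0 := by
    intro E x hE hx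
    obtain ⟨T, hT, h'⟩ := h E hE
    refine section_ext M T hT _ _ fun E' e he => ?_
    rw [map_zero]
    apply (h' e he).1
    rw [ap_res, hx, map_zero, map_zero]
  refine isIso_of_local _ (fun E x hx => ?_) (fun E y => ?_)
  · obtain ⟨T, hT, h1⟩ := ap_inc_mem U M E x
    refine section_ext _ T hT _ _ fun E' e he => ?_
    rw [map_zero]
    apply ap_inc_injective U M E'
    rw [ap_res, map_zero]
    rcases h1 e he with h2 | h2
    · refine key E' _ h2 ?_
      rw [ap_res, ← ap_lam_map, hx, map_zero, map_zero]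
    · exact h2
  · obtain ⟨T, hT, h1⟩ := ap_inc_mem U N E y
    have key2 : ∀ ⦃E' : C⦄ (e : E' ⟶ E), T e → ∃ T₁ ∈ J E', ∀ ⦃E'' : C⦄ (e' : E'' ⟶ E'), T₁ e' →
        ∃ x, ap ((lam U R).map v) E'' x = res _ (e' ≫ e) y := by
      intro E' e he
      rcases h1 e he with h2 | h2
      · obtain ⟨T', hT', h'⟩ := h E' h2
        refine ⟨T', hT', fun E'' e' he' => ?_⟩
        obtain ⟨x, hx⟩ := (h' e' he').2 (ap (inc U N) E'' (res _ (e' ≫ e) y))
        obtain ⟨x', rfl⟩ := exists_ap_inc U M E'' x (mem_sub_of_mem U M (U.down e' h2) x)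
        exact ⟨x', ap_inc_injective U N E'' ((ap_lam_map U v E'' x').trans hx)⟩
      · refine ⟨⊤, J.top_mem _, fun E'' e' _ => ⟨0, ap_inc_injective U N E'' ?_⟩⟩
        rw [map_zero, map_zero, ap_res, res_comp, h2, map_zero]
    choose T₁ hT₁ hT₁' using key2
    refine ⟨Sieve.bind T.arrows fun E' e he => T₁ e he, J.bind_covering hT fun E' e he => hT₁ e he, ?_⟩
    rintro E'' _ ⟨E', e'', e', he', he'', rfl⟩
    exact hT₁' e' he' e'' he''

theorem bijective_hom_of_cor {M N : SheafOfModules.{u + 1} R} (v : M ⟶ N) {E : C}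
    (hb : Function.Bijective (ap v E)) {A : SheafOfModules.{u + 1} R} (hA : Cor E A) :
    Function.Bijective (fun φ : A ⟶ M => φ ≫ v) := by
  obtain ⟨a, ha⟩ := hA
  constructor
  · intro φ ψ h
    refine (ha M (ap φ E a)).unique rfl (hb.1 ?_)
    exact (congrArg (fun k => ap k E a) h).symm
  · intro χ
    obtain ⟨m, hm⟩ := hb.2 (ap χ E a)
    obtain ⟨φ, hφ, -⟩ := ha M m
    refine ⟨φ, (ha N (ap χ E a)).unique ?_ rfl⟩
    exact (congrArg (ap v E) hφ).trans hm

theorem bijective_ap_of_cor {M N : SheafOfModules.{u + 1} R} (v : M ⟶ N) {E : C}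
    {A : SheafOfModules.{u + 1} R} (hA : Cor E A)
    (hb : Function.Bijective (fun φ : A ⟶ M => φ ≫ v)) : Function.Bijective (ap v E) := by
  obtain ⟨a, ha⟩ := hA
  constructor
  · intro x y hxy
    obtain ⟨φ, hφ, -⟩ := ha M x
    obtain ⟨ψ, hψ, -⟩ := ha M y
    have h1 : φ = ψ := by
      apply hb.1
      refine (ha N (ap v E x)).unique ?_ ?_
      · exact congrArg (ap v E) hφ
      · exact (congrArg (ap v E) hψ).trans hxy.symm
    rw [← hφ, ← hψ, h1]
  · intro y
    obtain ⟨χ, hχ, -⟩ := ha N y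
    obtain ⟨φ, hφ⟩ := hb.2 χ
    refine ⟨ap φ E a, ?_⟩
    refine Eq.trans ?_ hχ
    exact congrArg (fun k => ap k E a) hφ

open Pretriangulated in
/-- Morphisms which are isomorphisms over `U` induce bijections on maps from objects supported in `U`. -/
theorem bijective_comp_of_supp {Y₁ Y₂ P : DR R} (w : Y₁ ⟶ Y₂) (hw : IsIso ((lD U R).map w))
    (hP : IsIso ((iD U R).app P)) : Function.Bijective (fun φ : P ⟶ Y₁ => φ ≫ w) := by
  obtain ⟨Z, g, h, hT⟩ := distinguished_cocone_triangle w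
  have hZ : IsZero ((lD U R).obj Z) := by
    have hFT := (lD U R).map_distinguished _ hT
    exact (Triangle.isZero₃_iff_isIso₁ _ hFT).2 hw
  constructor
  · intro φ ψ hφψ
    have h0 : (φ - ψ) ≫ w = 0 := by
      rw [Preadditive.sub_comp, sub_eq_zero]
      exact hφψ
    rw [← sub_eq_zero]
    obtain ⟨t, ht⟩ := Triangle.coyoneda_exact₂ _ (inv_rot_of_distTriang _ hT) (φ - ψ) h0
    have hZ' : IsZero ((lD U R).obj (Z⟦(-1 : ℤ)⟧)) :=
      ((shiftFunctor _ (-1 : ℤ)).map_isZero hZ).of_iso (((lD U R).commShiftIso (-1 : ℤ)).app Z)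
    have ht0 : t = 0 := eq_zero hP hZ' t
    refine ht.trans ?_
    rw [ht0]
    exact zero_comp
  · intro χ
    obtain ⟨φ, hφ⟩ := Triangle.coyoneda_exact₂ _ hT χ (eq_zero hP hZ _)
    exact ⟨φ, hφ.symm⟩

end gen

section good

variable {S : Scheme.{u}} {X : AlgSp.Sp S} {V : AlgSp.EtOver X}

theorem isBC_of_bijective {M N : AlgSp.ModEtOn V} (v : M ⟶ N) {E₂ E₁ : Over V} (g : E₂ ⟶ E₁)
    (hb1 : Function.Bijective (K644.Exact.smap (K644.Slice.oT (AlgSp.EtOver.toScheme X) V) v E₁))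
    (hb2 : Function.Bijective (K644.Exact.smap (K644.Slice.oT (AlgSp.EtOver.toScheme X) V) v E₂))
    (h : Groth.Agent.Etbase.FFExact.IsBC
      ((K644.Slice.oT (AlgSp.EtOver.toScheme X) V).map g).appTop.hom (K644.Exact.res N g)) :
    Groth.Agent.Etbase.FFExact.IsBC
      ((K644.Slice.oT (AlgSp.EtOver.toScheme X) V).map g).appTop.hom (K644.Exact.res M g) := by
  let TT := K644.Slice.oT (AlgSp.EtOver.toScheme X) V
  let e1 := LinearEquiv.ofBijective (K644.Exact.smap TT v E₁) hb1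
  let e2 := LinearEquiv.ofBijective (K644.Exact.smap TT v E₂) hb2
  refine K644.Alg.IsBC.of_equiv h e1.symm e2.symm _ fun m => ?_
  apply e2.injective
  rw [LinearEquiv.apply_symm_apply]
  refine (K644.Exact.smap_res (T := TT) v g (e1.symm m)).trans ?_
  exact congrArg (K644.Exact.res N g) (e1.apply_symm_apply m)

theorem isIso_iD_single {W : (sch V).Opens} {E : Over V} (hEW : (oo V W).mem E) {A : AlgSp.ModEtOn V}
    (hA : Cor E A) (n : ℤ) :
    IsIso ((iD (oo V W) (AlgSp.OEtOn V)).app ((DerivedCategory.singleFunctor _ n).obj A)) := by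
  have := isIso_inc_of_cor hEW hA
  rw [isIso_iD_iff]
  intro m
  by_cases hm : m = n
  · subst hm
    exact isIso_inc_of_iso _
      ((DerivedCategory.singleFunctorCompHomologyFunctorIso _ m).app A).symm this
  · have hz : IsZero ((DerivedCategory.homologyFunctor _ m).obj
        ((DerivedCategory.singleFunctor _ n).obj A)) := by
      rcases lt_or_gt_of_ne hm with h' | h'
      · exact DerivedCategory.isZero_of_isGE _ n m h'
      · exact DerivedCategory.isZero_of_isLE _ n m h'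
    exact ⟨0, (Functor.map_isZero (lam (oo V W) (AlgSp.OEtOn V)) hz).eq_of_src _ _, hz.eq_of_src _ _⟩

theorem bij_of_isIso {W : (sch V).Opens} {Y₁ Y₂ : DCoh.DMod (AlgSp.OEtOn V)} (w : Y₁ ⟶ Y₂)
    (hw : IsIso ((lD (oo V W) (AlgSp.OEtOn V)).map w)) {E : Over V} (hEW : (oo V W).mem E)
    {A : AlgSp.ModEtOn V} (hA : Cor E A) (n : ℤ)
    (h : Function.Bijective (fun φ : (DerivedCategory.singleFunctor _ n).obj A ⟶ Y₂ =>
      (DerivedCategory.homologyFunctor _ n).map φ)) :
    Function.Bijective (fun φ : (DerivedCategory.singleFunctor _ n).obj A ⟶ Y₁ =>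
      (DerivedCategory.homologyFunctor _ n).map φ) := by
  have hv : IsIso ((lam (oo V W) (AlgSp.OEtOn V)).map ((DerivedCategory.homologyFunctor _ n).map w)) :=
    (isIso_map_iff (lam (oo V W) (AlgSp.OEtOn V)) w).1 hw n
  have hA' : Cor E ((DerivedCategory.homologyFunctor _ n).obj ((DerivedCategory.singleFunctor _ n).obj A)) :=
    hA.of_iso ((DerivedCategory.singleFunctorCompHomologyFunctorIso _ n).app A).symm
  have h1 := bijective_hom_of_cor _ (bijective_ap _ hv hEW) hA'
  have h3 := bijective_comp_of_supp w hw (isIso_iD_single hEW hA n)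
  have h4 := h.comp h3
  have h5 : (fun φ : (DerivedCategory.singleFunctor _ n).obj A ⟶ Y₂ =>
      (DerivedCategory.homologyFunctor _ n).map φ) ∘ (fun φ => φ ≫ w) =
      (fun ψ => ψ ≫ (DerivedCategory.homologyFunctor _ n).map w) ∘
      (fun φ : (DerivedCategory.singleFunctor _ n).obj A ⟶ Y₁ =>
        (DerivedCategory.homologyFunctor _ n).map φ) := by
    funext φ
    exact Functor.map_comp _ _ _
  rw [h5] at h4
  exact (Function.Bijective.of_comp_iff' h1 _).1 h4

/-- Goodness only depends on the restriction to the open. -/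
theorem goodOn_of_isIso {W : (sch V).Opens} {Y₁ Y₂ : DCoh.DMod (AlgSp.OEtOn V)} (w : Y₁ ⟶ Y₂)
    (hw : IsIso ((lD (oo V W) (AlgSp.OEtOn V)).map w)) (h : GoodOn Y₂ W) : GoodOn Y₁ W where
  bij E hE hEW A hA n := bij_of_isIso w hw hEW hA n (h.bij E hE hEW A hA n)
  cart E hE hEW n := by
    have hv : IsIso ((lam (oo V W) (AlgSp.OEtOn V)).map ((DerivedCategory.homologyFunctor _ n).map w)) :=
      (isIso_map_iff (lam (oo V W) (AlgSp.OEtOn V)) w).1 hw n
    intro E₂ E₁ g p h2 h1
    exact isBC_of_bijective _ g (bijective_ap _ hv ((oo V W).down p hEW))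
      (bijective_ap _ hv ((oo V W).down (g ≫ p) hEW)) (h.cart E hE hEW n g p h2 h1)

end good

section local_

variable {S : Scheme.{u}} {X : AlgSp.Sp S} {V : AlgSp.EtOver X}

/-- Coverings by preimages of basic opens. -/
theorem exists_cover_OL (l : List Γ(sch V, ⊤)) (Y : Over V) (hY : (oo V (OL l)).mem Y) :
    ∃ T ∈ (AlgSp.etTop X).over V Y, ∀ ⦃Y' : Over V⦄ (e : Y' ⟶ Y), T e →
      ∃ f ∈ l, (oo V ((sch V).basicOpen f)).mem Y' := by
  let P : ∀ (E' : AlgSp.EtOver X), (E' ⟶ Y.left) → Prop := fun E' g =>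
    ∃ f ∈ l, Set.range (mor (g ≫ Y.hom)) ⊆ ((sch V).basicOpen f : Set ↥(sch V))
  obtain ⟨T, hT, h⟩ := K290.ElemSq.exists_sieve P (fun E' E'' g g' h' => by
      obtain ⟨f, hf, hf'⟩ := h'
      refine ⟨f, hf, fun z hz => hf' ?_⟩
      obtain ⟨y, rfl⟩ := hz
      exact ⟨mor g' y, rfl⟩) (fun x => by
      have hx : mor Y.hom x ∈ OL l := hY ⟨x, rfl⟩
      obtain ⟨f, hf, hx⟩ := (mem_OL l _).1 hx
      refine ⟨opn Y.left (mor Y.hom ⁻¹ᵁ ((sch V).basicOpen f)), opnι _ _, ?_, f, hf, ?_⟩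
      · rw [range_opnι]
        exact hx
      · rintro _ ⟨y, rfl⟩
        have h2 : mor (opnι Y.left (mor Y.hom ⁻¹ᵁ ((sch V).basicOpen f))) y ∈
          Set.range (mor (opnι Y.left (mor Y.hom ⁻¹ᵁ ((sch V).basicOpen f)))) := ⟨y, rfl⟩
        rw [range_opnι] at h2
        exact h2)
  refine ⟨(Sieve.overEquiv Y).symm T, (AlgSp.etTop X).overEquiv_symm_mem_over Y T hT, fun Y' e he => ?_⟩
  obtain ⟨f, hf, h1⟩ := h e.left ((Sieve.overEquiv_symm_iff T e).1 he)
  refine ⟨f, hf, ?_⟩
  have h2 : e.left ≫ Y.hom = Y'.hom := Over.w e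
  change Set.range (mor (e.left ≫ Y.hom)) ⊆ _ at h1
  rw [h2] at h1
  exact h1

/-- Isomorphisms over an affine open may be tested on sections. -/
theorem isIso_rst {M N : AlgSp.ModEtOn V} (v : M ⟶ N) {W : (sch V).Opens} (hW : IsAffineOpen W)
    (hM : K644.Local.CartOver (K644.Slice.oT (AlgSp.EtOver.toScheme X) V) M (xo V W))
    (hN : K644.Local.CartOver (K644.Slice.oT (AlgSp.EtOver.toScheme X) V) N (xo V W))
    (hb : Function.Bijective (ap v (xo V W))) : IsIso ((rst (AlgSp.OEtOn V) (xo V W)).map v) := by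
  let TT := K644.Slice.oT (AlgSp.EtOver.toScheme X) V
  exact K645.Tilde.isIso_of_bijective (T := K644.Slice.oT TT (xo V W))
    (R := (AlgSp.OEtOn V).over (xo V W)) (M := (rst (AlgSp.OEtOn V) (xo V W)).obj M)
    (N := (rst (AlgSp.OEtOn V) (xo V W)).obj N) (fun _ U' g hV hU => hM g.left U'.hom hV hU)
    (fun _ U' g hV hU => hN g.left U'.hom hV hU) _ Over.mkIdTerminal hW hb

theorem bijective_of_rst {M N : AlgSp.ModEtOn V} (v : M ⟶ N) {W : (sch V).Opens}
    (h : IsIso ((rst (AlgSp.OEtOn V) (xo V W)).map v)) {E : Over V} (g : E ⟶ xo V W) :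
    Function.Bijective (ap v E) := by
  have hi : IsIso ((SheafOfModules.evaluation ((AlgSp.OEtOn V).over (xo V W)) (op (Over.mk g))).map
    ((rst (AlgSp.OEtOn V) (xo V W)).map v)) := inferInstance
  exact ConcreteCategory.bijective_of_isIso ((SheafOfModules.evaluation ((AlgSp.OEtOn V).over (xo V W))
    (op (Over.mk g))).map ((rst (AlgSp.OEtOn V) (xo V W)).map v))

theorem isIso_lam_OL [hV : IsAffine V.obj.left.left] {M N : AlgSp.ModEtOn V} (v : M ⟶ N)
    (l : List Γ(sch V, ⊤))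
    (hM : ∀ f ∈ l, K644.Local.CartOver (K644.Slice.oT (AlgSp.EtOver.toScheme X) V) M
      (xo V ((sch V).basicOpen f)))
    (hN : ∀ f ∈ l, K644.Local.CartOver (K644.Slice.oT (AlgSp.EtOver.toScheme X) V) N
      (xo V ((sch V).basicOpen f)))
    (hb : ∀ f ∈ l, Function.Bijective (ap v (xo V ((sch V).basicOpen f)))) :
    IsIso ((lam (oo V (OL l)) (AlgSp.OEtOn V)).map v) := by
  have hV' : IsAffine (sch V) := hV
  refine isIso_lam_of_local v fun E hE => ?_
  obtain ⟨T, hT, h⟩ := exists_cover_OL l E hE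
  refine ⟨T, hT, fun E' e he => ?_⟩
  obtain ⟨f, hf, h1⟩ := h e he
  obtain ⟨g⟩ := nonempty_hom_xo V h1
  exact bijective_of_rst v (isIso_rst v ((isAffineOpen_top (sch V)).basicOpen f) (hM f hf) (hN f hf)
    (hb f hf)) g

end local_

end K645.PsiIso
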