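import Groth.Agent.AlgSp.K645.BC
import Groth.Prelude.Def_AlgSpPerf

/-!
# Strictly perfect complexes over affine objects
-/

set_option autoImplicit false

universe v d u

open CategoryTheory CategoryTheory.Limits AlgebraicGeometry Opposite

namespace K645.Tilde

open K644.Site K644.Psh K644.Alg K644.Colim K644.Exact K644.Free K644.Pres

variable {D : Type d} [Category.{v} D] {J : GrothendieckTopology D} {R : Sheaf J RingCat.{u + 1}}
  [HasSheafify J AddCommGrpCat.{u + 1}] [J.WEqualsLocallyBijective AddCommGrpCat.{u + 1}]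
  {t : D} (ht : IsTerminal t)

/-- `(B^I)~` is free. -/
noncomputable def tlFree (I : Type (u + 1)) :
    tl (R := R) ht (ModuleCat.of (R.obj.obj (op t)) (I →₀ R.obj.obj (op t))) ≅
      SheafOfModules.free (R := R) I where
  hom := desc ht (N := ModuleCat.of (R.obj.obj (op t)) (I →₀ R.obj.obj (op t)))
    (Finsupp.linearCombination (R.obj.obj (op t)) (fun i : I => bs R t i))
  inv := hom ht (fun i => eta ht (ModuleCat.of (R.obj.obj (op t)) (I →₀ R.obj.obj (op t)))
    (Finsupp.single i 1))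
  hom_inv_id := by
    apply tl_hom_ext ht
    intro n
    rw [ev_comp, ev_desc]
    change ev _ t (Finsupp.linearCombination (R.obj.obj (op t)) (fun i : I => bs R t i) n) =
      eta ht _ n
    induction n using Finsupp.induction_linear with
    | zero =>
      rw [map_zero, map_zero]
      exact (map_zero _).symm
    | add a b ha hb =>
      rw [map_add, map_add, ha, hb]
      exact (map_add _ _ _).symm
    | single i r =>
      rw [Finsupp.linearCombination_single, map_smul, ev_hom, ← map_smul]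
      congr 1
      change r • (Finsupp.single i 1 : I →₀ R.obj.obj (op t)) = Finsupp.single i r
      rw [Finsupp.smul_single, smul_eq_mul, mul_one]
  inv_hom_id := by
    apply free_hom_ext ht
    intro i
    rw [ev_comp, ev_hom, ev_desc]
    change Finsupp.linearCombination (R.obj.obj (op t)) (fun i : I => bs R t i) (Finsupp.single i 1) =
      bs R t i
    rw [Finsupp.linearCombination_single, one_smul]

end K645.Tilde

namespace K645.SPerf

open K645.TE K645.BC K645.Shriek

attribute [local instance] HasDerivedCategory.standard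

variable {S : Scheme.{u}} {X : AlgSp.Sp S} (E : AlgSp.EtOver X)

/-- `tE (B^I)` is free. -/
noncomputable def tEFree (I : Type (u + 1)) :
    (tE E).obj (ModuleCat.of (B E) (I →₀ B E)) ≅ SheafOfModules.free (R := AlgSp.OEtOn E) I :=
  K645.Tilde.tlFree (R := AlgSp.OEtOn E) Over.mkIdTerminal I

theorem summand_tE (N : ModuleCat.{u + 1} (B E)) (h1 : Module.Finite (B E) N)
    (h2 : Module.Projective (B E) N) : DCoh.IsFinFreeSummandMod (AlgSp.OEtOn E) ((tE E).obj N) := by
  obtain ⟨n, s, hs⟩ := Module.Finite.exists_fin (R := B E) (M := N)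
  let f : (ULift.{u + 1} (Fin n) →₀ B E) →ₗ[B E] N :=
    Finsupp.linearCombination (B E) (fun i => s i.down)
  have hf : Function.Surjective f := by
    rw [← LinearMap.range_eq_top, Finsupp.range_linearCombination, ← hs]
    congr 1
    ext x
    exact ⟨fun ⟨i, hi⟩ => ⟨i.down, hi⟩, fun ⟨i, hi⟩ => ⟨⟨i⟩, hi⟩⟩
  obtain ⟨g, hg⟩ := Module.projective_lifting_property f LinearMap.id hf
  refine ⟨n, (tE E).map (ModuleCat.ofHom g) ≫ (tEFree E _).hom,
    (tEFree E _).inv ≫ (tE E).map (ModuleCat.ofHom f), ?_⟩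
  rw [Category.assoc, Iso.hom_inv_id_assoc, ← Functor.map_comp]
  have : ModuleCat.ofHom g ≫ ModuleCat.ofHom f = 𝟙 N := by
    rw [← ModuleCat.ofHom_comp, hg]
    rfl
  rw [this, CategoryTheory.Functor.map_id]

theorem isQC_of_iso {M N : AlgSp.ModEtOn E} (e : M ≅ N)
    (h : K644.Psh.IsQC (K644.Slice.oT (AlgSp.EtOver.toScheme X) E) M.val) :
    K644.Psh.IsQC (K644.Slice.oT (AlgSp.EtOver.toScheme X) E) N.val := by
  have h1 : M.IsQuasicoherent := K644.QCoh.isQuasicoherent_of_isQC h
  have h2 : N.IsQuasicoherent := (SheafOfModules.isQuasicoherent (AlgSp.OEtOn E)).prop_of_iso e h1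
  exact K644.QCoh.isQC_of_isQuasicoherent N

theorem isQC_of_summand (N : AlgSp.ModEtOn E) (h : DCoh.IsFinFreeSummandMod (AlgSp.OEtOn E) N) :
    K644.Psh.IsQC (K644.Slice.oT (AlgSp.EtOver.toScheme X) E) N.val := by
  obtain ⟨n, i, p, hip⟩ := h
  have w : i ≫ (𝟙 _ - p ≫ i) = 0 := by
    rw [Preadditive.comp_sub, reassoc_of% hip, Category.comp_id, sub_self]
  have hm : Mono i := mono_of_mono_fac hip
  refine K644.Exact.isQC_kernel (T := K644.Slice.oT (AlgSp.EtOver.toScheme X) E)
    (K644.Free.isQC_free _ _) (K644.Free.isQC_free _ _) i (𝟙 _ - p ≫ i) w ?_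
  refine KernelFork.IsLimit.ofι _ _ (fun k _ => k ≫ p) (fun k hk => ?_) (fun k hk b hb => ?_)
  · rw [Preadditive.comp_sub, Category.comp_id, sub_eq_zero] at hk
    rw [Category.assoc]
    exact hk.symm
  · rw [← hb, Category.assoc, hip, Category.comp_id]

/-- The sections of the free module. -/
noncomputable def sEFree [hE : IsAffine E.obj.left.left] (I : Type (u + 1)) :
    (sE E).obj (SheafOfModules.free (R := AlgSp.OEtOn E) I) ≅ ModuleCat.of (B E) (I →₀ B E) :=
  have : IsIso (adjE E).unit := K645.Tilde.isIso_unit (T := K644.Slice.oT (AlgSp.EtOver.toScheme X) E)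
    (R := AlgSp.OEtOn E) Over.mkIdTerminal hE
  (sE E).mapIso (tEFree E I).symm ≪≫ (asIso ((adjE E).unit.app _)).symm

theorem finite_projective_of_summand [IsAffine E.obj.left.left] (N : AlgSp.ModEtOn E)
    (h : DCoh.IsFinFreeSummandMod (AlgSp.OEtOn E) N) :
    Module.Finite (B E) ((sE E).obj N) ∧ Module.Projective (B E) ((sE E).obj N) := by
  obtain ⟨n, i, p, hip⟩ := h
  let i' := (sE E).map i ≫ (sEFree E _).hom
  let p' := (sEFree E _).inv ≫ (sE E).map p
  have hip' : p'.hom.comp i'.hom = LinearMap.id := by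
    have : i' ≫ p' = 𝟙 _ := by
      dsimp only [i', p']
      rw [Category.assoc, Iso.hom_inv_id_assoc, ← Functor.map_comp, hip, CategoryTheory.Functor.map_id]
    exact congrArg ModuleCat.Hom.hom this
  have h3 : Module.Finite (B E) (ModuleCat.of (B E) (ULift.{u + 1} (Fin n) →₀ B E)) :=
    inferInstanceAs (Module.Finite (B E) (ULift.{u + 1} (Fin n) →₀ B E))
  have h4 : Module.Projective (B E) (ModuleCat.of (B E) (ULift.{u + 1} (Fin n) →₀ B E)) :=
    inferInstanceAs (Module.Projective (B E) (ULift.{u + 1} (Fin n) →₀ B E))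
  exact ⟨Module.Finite.of_surjective p'.hom (fun x => ⟨i'.hom x, LinearMap.congr_fun hip' x⟩),
    Module.Projective.of_split i'.hom p'.hom hip'⟩

/-- Bounded complexes of finite projective modules. -/
def BFP {A : Type (u + 1)} [CommRing A] (P : DRing.Cx A) : Prop :=
  (∃ a b : ℤ, DRing.VanishesOutside P a b) ∧ DRing.TermwiseFiniteProjective P

theorem isPerfect_iff {A : Type (u + 1)} [CommRing A] (K : Dual.D A) :
    DRing.IsPerfect A K ↔ ∃ P : DRing.Cx A, BFP P ∧ Nonempty (DRing.toD P ≅ K) :=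
  ⟨fun ⟨P, a, b, h1, h2, h3⟩ => ⟨P, ⟨⟨a, b, h1⟩, h2⟩, h3⟩,
    fun ⟨P, ⟨⟨a, b, h1⟩, h2⟩, h3⟩ => ⟨P, a, b, h1, h2, h3⟩⟩

theorem strict_tE (P : DRing.Cx (B E)) (h : BFP P) :
    DCoh.IsStrictlyPerfectMod (AlgSp.OEtOn E) (((tE E).mapHomologicalComplex _).obj P) := by
  obtain ⟨⟨a, b, h1⟩, h2⟩ := h
  exact ⟨⟨a, b, fun i hi => (tE E).map_isZero (h1 i hi)⟩, fun i => summand_tE E (P.X i) (h2 i).1 (h2 i).2⟩

/-- A strictly perfect complex over an affine object comes from a bounded complex of finite projective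
modules. -/
theorem exists_of_strict [IsAffine E.obj.left.left] (K : CochainComplex (AlgSp.ModEtOn E) ℤ)
    (h : DCoh.IsStrictlyPerfectMod (AlgSp.OEtOn E) K) :
    ∃ P : DRing.Cx (B E), BFP P ∧ Nonempty (((tE E).mapHomologicalComplex _).obj P ≅ K) := by
  obtain ⟨⟨a, b, h1⟩, h2⟩ := h
  refine ⟨((sE E).mapHomologicalComplex _).obj K, ⟨⟨a, b, fun i hi => (sE E).map_isZero (h1 i hi)⟩,
    fun i => finite_projective_of_summand E _ (h2 i)⟩, ⟨?_⟩⟩
  have hc : ∀ i, IsIso ((adjE E).counit.app (K.X i)) := fun i =>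
    isIso_counitE E _ (K644.QCoh.isQuasicoherent_of_isQC (isQC_of_summand E _ (h2 i)))
  exact HomologicalComplex.Hom.isoOfComponents (fun i => @asIso _ _ _ _ _ (hc i))
    (fun i j _ => ((adjE E).counit.naturality (K.d i j)).symm)

variable {E} {E' : AlgSp.EtOver X} (g : E' ⟶ E)

theorem summand_gE (N : AlgSp.ModEtOn E) (h : DCoh.IsFinFreeSummandMod (AlgSp.OEtOn E) N) :
    DCoh.IsFinFreeSummandMod (AlgSp.OEtOn E') ((gE g).obj N) := by
  obtain ⟨n, i, p, hip⟩ := h
  let e : SheafOfModules.free (R := AlgSp.OEtOn E') (ULift.{u + 1} (Fin n)) ≅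
      (gE g).obj (SheafOfModules.free (R := AlgSp.OEtOn E) (ULift.{u + 1} (Fin n))) :=
    SheafOfModules.mapFreeIso (gE g) _ (SheafOfModules.overMapUnitIso g).symm
  refine ⟨n, (gE g).map i ≫ e.inv, e.hom ≫ (gE g).map p, ?_⟩
  rw [Category.assoc, Iso.inv_hom_id_assoc, ← Functor.map_comp, hip, CategoryTheory.Functor.map_id]

theorem strict_gE (K : CochainComplex (AlgSp.ModEtOn E) ℤ)
    (h : DCoh.IsStrictlyPerfectMod (AlgSp.OEtOn E) K) :
    DCoh.IsStrictlyPerfectMod (AlgSp.OEtOn E') (((gE g).mapHomologicalComplex _).obj K) := by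
  obtain ⟨⟨a, b, h1⟩, h2⟩ := h
  exact ⟨⟨a, b, fun i hi => (gE g).map_isZero (h1 i hi)⟩, fun i => summand_gE g _ (h2 i)⟩

end K645.SPerf
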