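import Groth.Agent.AlgSp.K645.Lam
import Mathlib.Algebra.DirectSum.Module
import Mathlib.Algebra.Category.ModuleCat.Sheaf.PushforwardContinuous

/-!
# Extension by zero from a slice

`f_! : Mod(R.over V) ⥤ Mod(R)`, left adjoint to restriction, for an object `V` of a site.
-/

set_option autoImplicit false
set_option linter.unusedSectionVars false
universe u

open CategoryTheory CategoryTheory.Limits Opposite DirectSum

namespace K645.Shriek
open K645.Ex

variable {C : Type (u + 1)} [Category.{u} C] {J : GrothendieckTopology C} {R : Sheaf J RingCat.{u + 1}}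
  {V : C}

/-- Sections over an object of the slice. -/
def sec (N : SheafOfModules.{u + 1} (R.over V)) {E : C} (g : E ⟶ V) : Type (u + 1) :=
  N.val.obj (op (Over.mk g))

noncomputable instance (N : SheafOfModules.{u + 1} (R.over V)) {E : C} (g : E ⟶ V) :
    AddCommGroup (sec N g) := inferInstanceAs (AddCommGroup (N.val.obj (op (Over.mk g))))

noncomputable instance (N : SheafOfModules.{u + 1} (R.over V)) {E : C} (g : E ⟶ V) :
    Module (R.obj.obj (op E)) (sec N g) :=
  inferInstanceAs (Module ((R.over V).obj.obj (op (Over.mk g))) (N.val.obj (op (Over.mk g))))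

/-- Restriction. -/
noncomputable def rs (N : SheafOfModules.{u + 1} (R.over V)) {E E' : C} (g : E ⟶ V) (e : E' ⟶ E) :
    sec N g →ₛₗ[(R.obj.map e.op).hom] sec N (e ≫ g) :=
  N.val.restrictₛₗ (Over.homMk e : Over.mk (e ≫ g) ⟶ Over.mk g).op

/-- The presheaf direct sum. -/
abbrev PS (N : SheafOfModules.{u + 1} (R.over V)) (E : C) : Type (u + 1) := ⨁ g : (E ⟶ V), sec N g

open Classical in
/-- The inclusion of a summand. -/
noncomputable def inj (N : SheafOfModules.{u + 1} (R.over V)) {E : C} (g : E ⟶ V) :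
    sec N g →ₗ[R.obj.obj (op E)] PS N E := DirectSum.lof _ _ _ g

lemma inj_congr (N : SheafOfModules.{u + 1} (R.over V)) {E E' : C} (g : E ⟶ V) (n : sec N g)
    {g₁ g₂ : E' ⟶ V} (φ₁ : Over.mk g₁ ⟶ Over.mk g) (φ₂ : Over.mk g₂ ⟶ Over.mk g)
    (h : φ₁.left = φ₂.left) :
    inj N g₁ (N.val.map φ₁.op n) = inj N g₂ (N.val.map φ₂.op n) := by
  have h1 : g₁ = g₂ := (Over.w φ₁).symm.trans ((congrArg (fun t => t ≫ g) h).trans (Over.w φ₂))
  subst h1
  have h2 : φ₁ = φ₂ := Over.OverMorphism.ext h
  rw [h2]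

open Classical in
lemma hom_ext_PS {N : SheafOfModules.{u + 1} (R.over V)} {E : C} {A : Type*} [AddCommMonoid A]
    {f f' : PS N E →+ A} (h : ∀ (g : E ⟶ V) (n : sec N g), f (inj N g n) = f' (inj N g n)) : f = f' := by
  apply DirectSum.addHom_ext'
  intro g
  ext n
  exact h g n

open Classical in
/-- Restriction of the presheaf direct sum. -/
noncomputable def rsPS (N : SheafOfModules.{u + 1} (R.over V)) {E E' : C} (e : E' ⟶ E) :
    PS N E →+ PS N E' :=
  DirectSum.toAddMonoid fun g => (inj N (e ≫ g)).toAddMonoidHom.comp (rs N g e).toAddMonoidHom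

open Classical in
lemma rsPS_inj (N : SheafOfModules.{u + 1} (R.over V)) {E E' : C} (e : E' ⟶ E) (g : E ⟶ V)
    (n : sec N g) : rsPS N e (inj N g n) = inj N (e ≫ g) (rs N g e n) := by
  exact DirectSum.toAddMonoid_of _ _ _

lemma induction_PS {N : SheafOfModules.{u + 1} (R.over V)} {E : C} {P : PS N E → Prop}
    (h0 : P 0) (hi : ∀ (g : E ⟶ V) (n : sec N g), P (inj N g n)) (ha : ∀ x y, P x → P y → P (x + y))
    (x : PS N E) : P x := by
  classical
  induction x using DirectSum.induction_on with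
  | zero => exact h0
  | of g n => exact hi g n
  | add x y hx hy => exact ha x y hx hy

lemma rsPS_smul (N : SheafOfModules.{u + 1} (R.over V)) {E E' : C} (e : E' ⟶ E)
    (r : R.obj.obj (op E)) (x : PS N E) :
    rsPS N e (r • x) = (R.obj.map e.op).hom r • rsPS N e x := by
  induction x using induction_PS with
  | h0 => rw [smul_zero, map_zero, smul_zero]
  | hi g n => rw [← map_smul, rsPS_inj, rsPS_inj, map_smulₛₗ, map_smul]
  | ha x y hx hy => rw [smul_add, map_add, map_add, smul_add, hx, hy]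

lemma rsPS_id (N : SheafOfModules.{u + 1} (R.over V)) {E : C} : rsPS N (𝟙 E) = AddMonoidHom.id _ := by
  refine hom_ext_PS fun g n => ?_
  rw [rsPS_inj]
  have h := inj_congr N g n (Over.homMk (𝟙 E) : Over.mk (𝟙 E ≫ g) ⟶ Over.mk g) (𝟙 (Over.mk g)) rfl
  refine h.trans ?_
  have h2 : N.val.map (𝟙 (Over.mk g)).op n = n := by
    change N.val.map (𝟙 (op (Over.mk g))) n = n
    rw [N.val.map_id]
    rfl
  rw [h2]
  rfl

lemma rsPS_comp (N : SheafOfModules.{u + 1} (R.over V)) {E E' E'' : C} (e : E' ⟶ E) (e' : E'' ⟶ E') :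
    rsPS N (e' ≫ e) = (rsPS N e').comp (rsPS N e) := by
  refine hom_ext_PS fun g n => ?_
  rw [rsPS_inj, AddMonoidHom.comp_apply, rsPS_inj, rsPS_inj]
  have h := inj_congr N g n (Over.homMk (e' ≫ e) : Over.mk ((e' ≫ e) ≫ g) ⟶ Over.mk g)
    ((Over.homMk e' : Over.mk (e' ≫ e ≫ g) ⟶ Over.mk (e ≫ g)) ≫
      (Over.homMk e : Over.mk (e ≫ g) ⟶ Over.mk g)) rfl
  refine h.trans ?_
  rw [op_comp, PresheafOfModules.map_comp_apply]
  rfl

/-- The presheaf of modules `E ↦ ⨁_{g : E ⟶ V} N(g)`. -/
noncomputable def pre (N : SheafOfModules.{u + 1} (R.over V)) : PresheafOfModules.{u + 1} R.obj :=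
  letI M : Cᵒᵖ ⥤ Ab.{u + 1} :=
    { obj := fun E => AddCommGrpCat.of (PS N E.unop)
      map := fun e => AddCommGrpCat.ofHom (rsPS N e.unop)
      map_id := fun _ => AddCommGrpCat.hom_ext (rsPS_id N)
      map_comp := fun e e' => AddCommGrpCat.hom_ext (rsPS_comp N e.unop e'.unop) }
  letI : ∀ X : Cᵒᵖ, Module (R.obj.obj X) (M.obj X) := fun X =>
    inferInstanceAs (Module (R.obj.obj (op X.unop)) (PS N X.unop))
  PresheafOfModules.ofPresheaf M fun _ _ f r m => rsPS_smul N f.unop r m

lemma pre_map (N : SheafOfModules.{u + 1} (R.over V)) {E E' : C} (e : E' ⟶ E) (x : PS N E) :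
    (pre N).map e.op (show (pre N).obj (op E) from x) = rsPS N e x := rfl

/-- A morphism on sections over an object of the slice. -/
noncomputable def aps {N N' : SheafOfModules.{u + 1} (R.over V)} (ψ : N ⟶ N') {E : C} (g : E ⟶ V) :
    sec N g →ₗ[R.obj.obj (op E)] sec N' g := (ψ.val.app (op (Over.mk g))).hom

lemma aps_rs {N N' : SheafOfModules.{u + 1} (R.over V)} (ψ : N ⟶ N') {E E' : C} (g : E ⟶ V)
    (e : E' ⟶ E) (n : sec N g) : aps ψ (e ≫ g) (rs N g e n) = rs N' g e (aps ψ g n) :=
  PresheafOfModules.naturality_apply ψ.val (Over.homMk e : Over.mk (e ≫ g) ⟶ Over.mk g).op n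

open Classical in
/-- Functoriality of the direct sum. -/
noncomputable def psMap {N N' : SheafOfModules.{u + 1} (R.over V)} (ψ : N ⟶ N') (E : C) :
    PS N E →ₗ[R.obj.obj (op E)] PS N' E :=
  DirectSum.toModule _ _ _ fun g => (inj N' g).comp (aps ψ g)

open Classical in
lemma psMap_inj {N N' : SheafOfModules.{u + 1} (R.over V)} (ψ : N ⟶ N') {E : C} (g : E ⟶ V)
    (n : sec N g) : psMap ψ E (inj N g n) = inj N' g (aps ψ g n) :=
  DirectSum.toModule_lof _ _ _

lemma psMap_rsPS {N N' : SheafOfModules.{u + 1} (R.over V)} (ψ : N ⟶ N') {E E' : C} (e : E' ⟶ E)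
    (x : PS N E) : psMap ψ E' (rsPS N e x) = rsPS N' e (psMap ψ E x) := by
  induction x using induction_PS with
  | h0 => simp only [map_zero]
  | hi g n => rw [rsPS_inj, psMap_inj, psMap_inj, rsPS_inj, aps_rs]
  | ha x y hx hy => rw [map_add, map_add, map_add, map_add, hx, hy]

/-- The presheaf direct sum as a functor. -/
noncomputable def preF (R : Sheaf J RingCat.{u + 1}) (V : C) :
    SheafOfModules.{u + 1} (R.over V) ⥤ PresheafOfModules.{u + 1} R.obj where
  obj N := pre N
  map {N N'} ψ := PresheafOfModules.homMk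
    { app := fun E => AddCommGrpCat.ofHom (psMap ψ E.unop).toAddMonoidHom
      naturality := fun E E' e => AddCommGrpCat.hom_ext (AddMonoidHom.ext fun x => psMap_rsPS ψ e.unop x) }
    (fun E r m => (psMap ψ E.unop).map_smul (show R.obj.obj (op E.unop) from r) m)
  map_id N := by
    apply PresheafOfModules.hom_ext
    intro E
    apply ModuleCat.hom_ext
    apply LinearMap.ext
    intro x
    change psMap (𝟙 N) E.unop x = x
    change PS N E.unop at x
    induction x using induction_PS with
    | h0 => exact map_zero _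
    | hi g n =>
      rw [psMap_inj]
      rfl
    | ha x y hx hy => rw [map_add, hx, hy]
  map_comp {N N' N''} ψ ψ' := by
    apply PresheafOfModules.hom_ext
    intro E
    apply ModuleCat.hom_ext
    apply LinearMap.ext
    intro x
    change psMap (ψ ≫ ψ') E.unop x = psMap ψ' E.unop (psMap ψ E.unop x)
    change PS N E.unop at x
    induction x using induction_PS with
    | h0 => simp only [map_zero]
    | hi g n =>
      rw [psMap_inj, psMap_inj, psMap_inj]
      rfl
    | ha x y hx hy => rw [map_add, map_add, map_add, hx, hy]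

variable [HasSheafify J AddCommGrpCat.{u + 1}] [J.WEqualsLocallyBijective AddCommGrpCat.{u + 1}]

/-- `f_!`. -/
noncomputable def shriek (R : Sheaf J RingCat.{u + 1}) (V : C) :
    SheafOfModules.{u + 1} (R.over V) ⥤ SheafOfModules.{u + 1} R :=
  preF R V ⋙ PresheafOfModules.sheafification (𝟙 R.obj)

section Elements

variable (N : SheafOfModules.{u + 1} (R.over V))

/-- The canonical map from the presheaf direct sum. -/
noncomputable def tos (E : C) : PS N E →ₗ[R.obj.obj (op E)] ((shriek R V).obj N).val.obj (op E) :=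
  (((PresheafOfModules.sheafificationAdjunction (𝟙 R.obj)).unit.app (pre N)).app (op E)).hom

lemma res_tos {E E' : C} (e : E' ⟶ E) (x : PS N E) :
    res ((shriek R V).obj N) e (tos N E x) = tos N E' (rsPS N e x) :=
  (PresheafOfModules.naturality_apply
    ((PresheafOfModules.sheafificationAdjunction (𝟙 R.obj)).unit.app (pre N)) e.op x).symm

lemma exists_tos {E : C} (y : ((shriek R V).obj N).val.obj (op E)) :
    ∃ T ∈ J E, ∀ ⦃E' : C⦄ (e : E' ⟶ E), T e → ∃ x, tos N E' x = res ((shriek R V).obj N) e y := by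
  refine ⟨_, Presheaf.imageSieve_mem J (CategoryTheory.toSheafify J (pre N).presheaf) (U := op E) y, ?_⟩
  rintro E' e ⟨x, hx⟩
  exact ⟨x, hx⟩

lemma exists_rsPS_eq_zero {E : C} (x : PS N E) (h : tos N E x = 0) :
    ∃ T ∈ J E, ∀ ⦃E' : C⦄ (e : E' ⟶ E), T e → rsPS N e x = 0 := by
  refine ⟨_, Presheaf.equalizerSieve_mem J (CategoryTheory.toSheafify J (pre N).presheaf) (X := op E) x 0
    (h.trans (map_zero ((CategoryTheory.toSheafify J (pre N).presheaf).app (op E)).hom).symm), ?_⟩
  intro E' e he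
  exact he.trans (map_zero _)

variable {N}

lemma ap_map_tos {N' : SheafOfModules.{u + 1} (R.over V)} (ψ : N ⟶ N') {E : C} (x : PS N E) :
    ap ((shriek R V).map ψ) E (tos N E x) = tos N' E (psMap ψ E x) :=
  (congrArg (fun t => (PresheafOfModules.Hom.app t (op E)).hom x)
    ((PresheafOfModules.sheafificationAdjunction (𝟙 R.obj)).unit.naturality ((preF R V).map ψ))).symm

lemma hom_ext_tos {M : SheafOfModules.{u + 1} R} {φ φ' : (shriek R V).obj N ⟶ M}
    (h : ∀ (E : C) (g : E ⟶ V) (n : sec N g), ap φ E (tos N E (inj N g n)) = ap φ' E (tos N E (inj N g n))) :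
    φ = φ' := by
  refine hom_ext_of_cover fun E y => ?_
  obtain ⟨T, hT, h'⟩ := exists_tos N y
  refine ⟨T, hT, fun E' e he => ?_⟩
  obtain ⟨x, hx⟩ := h' e he
  rw [← hx]
  clear hx
  induction x using induction_PS with
  | h0 => simp only [map_zero]
  | hi g n => exact h _ _ _
  | ha x y hx hy => rw [map_add, map_add, map_add, hx, hy]

end Elements

end K645.Shriek
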