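import Groth.Agent.AlgSp.K645.Shriek

/-!
# The adjunction `f_! ⊣ f^*`
-/

set_option autoImplicit false
set_option linter.unusedSectionVars false
universe u

open CategoryTheory CategoryTheory.Limits Opposite DirectSum

namespace K645.Shriek
open K645.Ex

variable {C : Type (u + 1)} [Category.{u} C] {J : GrothendieckTopology C} {R : Sheaf J RingCat.{u + 1}}
  {V : C}

/-- Restriction to the slice. -/
noncomputable abbrev rst (R : Sheaf J RingCat.{u + 1}) (V : C) :
    SheafOfModules.{u + 1} R ⥤ SheafOfModules.{u + 1} (R.over V) := SheafOfModules.overFunctor R V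

/-- Sections of the restriction. -/
noncomputable def secRst (M : SheafOfModules.{u + 1} R) {E : C} (g : E ⟶ V) :
    sec ((rst R V).obj M) g ≃ₗ[R.obj.obj (op E)] M.val.obj (op E) where
  toFun x := (show M.val.obj (op E) from x)
  invFun x := (show sec ((rst R V).obj M) g from x)
  map_add' _ _ := rfl
  map_smul' _ _ := rfl
  left_inv _ := rfl
  right_inv _ := rfl

lemma secRst_rs (M : SheafOfModules.{u + 1} R) {E E' : C} (g : E ⟶ V) (e : E' ⟶ E)
    (x : sec ((rst R V).obj M) g) : secRst M (e ≫ g) (rs _ g e x) = res M e (secRst M g x) := rfl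

lemma secRst_aps {M M' : SheafOfModules.{u + 1} R} (φ : M ⟶ M') {E : C} (g : E ⟶ V)
    (x : sec ((rst R V).obj M) g) : secRst M' g (aps ((rst R V).map φ) g x) = ap φ E (secRst M g x) := rfl

lemma hom_ext_sec {N N' : SheafOfModules.{u + 1} (R.over V)} {ψ ψ' : N ⟶ N'}
    (h : ∀ (E : C) (g : E ⟶ V) (n : sec N g), aps ψ g n = aps ψ' g n) : ψ = ψ' :=
  Ex.hom_ext fun X x => h X.left X.hom x

@[simp] lemma aps_comp {N N' N'' : SheafOfModules.{u + 1} (R.over V)} (ψ : N ⟶ N') (ψ' : N' ⟶ N'')
    {E : C} (g : E ⟶ V) (n : sec N g) : aps (ψ ≫ ψ') g n = aps ψ' g (aps ψ g n) := rfl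

@[simp] lemma aps_id (N : SheafOfModules.{u + 1} (R.over V)) {E : C} (g : E ⟶ V) (n : sec N g) :
    aps (𝟙 N) g n = n := rfl

/-- Constructor for morphisms out of a sheaf of modules on a slice. -/
noncomputable def mkHom {N N' : SheafOfModules.{u + 1} (R.over V)}
    (φ : ∀ {E : C} (g : E ⟶ V), sec N g →ₗ[R.obj.obj (op E)] sec N' g)
    (h : ∀ {E E' : C} (g : E ⟶ V) (e : E' ⟶ E) (n : sec N g),
      φ (e ≫ g) (rs N g e n) = rs N' g e (φ g n)) : N ⟶ N' where
  val := PresheafOfModules.homMk
    { app := fun X => AddCommGrpCat.ofHom (φ X.unop.hom).toAddMonoidHom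
      naturality := fun X Y f => by
        refine AddCommGrpCat.hom_ext (AddMonoidHom.ext fun x => ?_)
        have key : ∀ (E : C) (e : E ⟶ X.unop.left) (g : E ⟶ V) (hg : e ≫ X.unop.hom = g)
            (x : sec N X.unop.hom),
            φ g (N.val.map (Over.homMk e hg : Over.mk g ⟶ X.unop).op x) =
              N'.val.map (Over.homMk e hg : Over.mk g ⟶ X.unop).op (φ X.unop.hom x) := by
          intro E e g hg x
          subst hg
          exact h X.unop.hom e x
        exact key Y.unop.left f.unop.left Y.unop.hom (Over.w f.unop) x }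
    (fun X r x => (φ X.unop.hom).map_smul (show R.obj.obj (op X.unop.left) from r) (show sec N X.unop.hom from x))

lemma aps_mkHom {N N' : SheafOfModules.{u + 1} (R.over V)}
    (φ : ∀ {E : C} (g : E ⟶ V), sec N g →ₗ[R.obj.obj (op E)] sec N' g)
    (h : ∀ {E E' : C} (g : E ⟶ V) (e : E' ⟶ E) (n : sec N g),
      φ (e ≫ g) (rs N g e n) = rs N' g e (φ g n)) {E : C} (g : E ⟶ V) (n : sec N g) :
    aps (mkHom φ h) g n = φ g n := rfl

variable [HasSheafify J AddCommGrpCat.{u + 1}] [J.WEqualsLocallyBijective AddCommGrpCat.{u + 1}]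

section

variable (N : SheafOfModules.{u + 1} (R.over V)) (M : SheafOfModules.{u + 1} R)

/-- The section of `f_! N` supported at `g`. -/
noncomputable def ofs {E : C} (g : E ⟶ V) : sec N g →ₗ[R.obj.obj (op E)] ((shriek R V).obj N).val.obj (op E) :=
  (tos N E).comp (inj N g)

lemma res_ofs {E E' : C} (g : E ⟶ V) (e : E' ⟶ E) (n : sec N g) :
    res ((shriek R V).obj N) e (ofs N g n) = ofs N (e ≫ g) (rs N g e n) := by
  dsimp only [ofs, LinearMap.comp_apply]
  rw [res_tos, rsPS_inj]

variable {N} in
lemma ap_map_ofs {N' : SheafOfModules.{u + 1} (R.over V)} (ψ : N ⟶ N') {E : C} (g : E ⟶ V)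
    (n : sec N g) : ap ((shriek R V).map ψ) E (ofs N g n) = ofs N' g (aps ψ g n) := by
  dsimp only [ofs, LinearMap.comp_apply]
  rw [ap_map_tos, psMap_inj]

variable {N M} in
lemma hom_ext_ofs {φ φ' : (shriek R V).obj N ⟶ M}
    (h : ∀ (E : C) (g : E ⟶ V) (n : sec N g), ap φ E (ofs N g n) = ap φ' E (ofs N g n)) :
    φ = φ' := hom_ext_tos h

/-- The unit `N ⟶ f^* f_! N`. -/
noncomputable def unitHom : N ⟶ (rst R V).obj ((shriek R V).obj N) :=
  mkHom (fun g => (secRst ((shriek R V).obj N) g).symm.toLinearMap.comp (ofs N g))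
    (fun g e n => by
      change (secRst ((shriek R V).obj N) (e ≫ g)).symm (ofs N (e ≫ g) (rs N g e n)) =
        rs ((rst R V).obj ((shriek R V).obj N)) g e ((secRst ((shriek R V).obj N) g).symm (ofs N g n))
      rw [LinearEquiv.symm_apply_eq, secRst_rs, LinearEquiv.apply_symm_apply, res_ofs])

lemma secRst_unitHom {E : C} (g : E ⟶ V) (n : sec N g) :
    secRst _ g (aps (unitHom N) g n) = ofs N g n := rfl

open Classical in
/-- The sum map. -/
noncomputable def sumPS (E : C) : PS ((rst R V).obj M) E →ₗ[R.obj.obj (op E)] M.val.obj (op E) :=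
  DirectSum.toModule _ _ _ fun g => (secRst M g).toLinearMap

open Classical in
lemma sumPS_inj {E : C} (g : E ⟶ V) (n : sec ((rst R V).obj M) g) :
    sumPS M E (inj _ g n) = secRst M g n :=
  DirectSum.toModule_lof _ _ _

lemma sumPS_rsPS {E E' : C} (e : E' ⟶ E) (x : PS ((rst R V).obj M) E) :
    sumPS M E' (rsPS _ e x) = res M e (sumPS M E x) := by
  induction x using induction_PS with
  | h0 => simp only [map_zero]
  | hi g n => rw [rsPS_inj, sumPS_inj, sumPS_inj, secRst_rs]
  | ha x y hx hy => rw [map_add, map_add, map_add, map_add, hx, hy]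

/-- The sum map as a morphism of presheaves. -/
noncomputable def sumPre : (preF R V).obj ((rst R V).obj M) ⟶
    (PresheafOfModules.restrictScalars (𝟙 R.obj)).obj ((SheafOfModules.forget R).obj M) :=
  PresheafOfModules.homMk
    { app := fun E => AddCommGrpCat.ofHom (sumPS M E.unop).toAddMonoidHom
      naturality := fun _ _ e =>
        AddCommGrpCat.hom_ext (AddMonoidHom.ext fun x => sumPS_rsPS M e.unop x) }
    (fun E r x => (sumPS M E.unop).map_smul (show R.obj.obj (op E.unop) from r)
      (show PS ((rst R V).obj M) E.unop from x))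

/-- The counit `f_! f^* M ⟶ M`. -/
noncomputable def counitHom : (shriek R V).obj ((rst R V).obj M) ⟶ M :=
  (PresheafOfModules.sheafificationHomEquiv (𝟙 R.obj)).symm (sumPre M)

lemma ap_counitHom_tos {E : C} (x : PS ((rst R V).obj M) E) :
    ap (counitHom M) E (tos _ E x) = sumPS M E x := by
  have h := PresheafOfModules.toPresheaf_map_sheafificationHomEquiv_def (𝟙 R.obj)
    ((PresheafOfModules.sheafificationHomEquiv (𝟙 R.obj)).symm (sumPre (V := V) M))
  rw [Equiv.apply_symm_apply] at h
  exact (ConcreteCategory.congr_hom (congr_app h (op E)) x).symm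

lemma ap_counitHom {E : C} (g : E ⟶ V) (m : sec ((rst R V).obj M) g) :
    ap (counitHom M) E (ofs _ g m) = secRst M g m := by
  dsimp only [ofs, LinearMap.comp_apply]
  rw [ap_counitHom_tos, sumPS_inj]

end

/-- The adjunction `f_! ⊣ f^*`. -/
noncomputable def adj (R : Sheaf J RingCat.{u + 1}) (V : C) : shriek R V ⊣ rst R V where
  unit :=
    { app := fun N => unitHom N
      naturality := fun N N' ψ => hom_ext_sec fun E g n => by
        refine (secRst _ g).injective ?_
        change secRst _ g (aps (unitHom N') g (aps ψ g n)) =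
          secRst _ g (aps ((rst R V).map ((shriek R V).map ψ)) g (aps (unitHom N) g n))
        rw [secRst_unitHom, secRst_aps, secRst_unitHom, ap_map_ofs] }
  counit :=
    { app := fun M => counitHom M
      naturality := fun M M' φ => hom_ext_ofs fun E g n => by
        change ap (counitHom M') E (ap ((shriek R V).map ((rst R V).map φ)) E (ofs _ g n)) =
          ap φ E (ap (counitHom M) E (ofs _ g n))
        rw [ap_map_ofs, ap_counitHom, ap_counitHom, secRst_aps] }
  left_triangle_components N := hom_ext_ofs fun E g n => by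
    change ap (counitHom _) E (ap ((shriek R V).map (unitHom N)) E (ofs _ g n)) = ofs N g n
    rw [ap_map_ofs, ap_counitHom, secRst_unitHom]
  right_triangle_components M := hom_ext_sec fun E g n => by
    refine (secRst _ g).injective ?_
    change secRst _ g (aps ((rst R V).map (counitHom M)) g (aps (unitHom _) g n)) = secRst _ g n
    rw [secRst_aps, secRst_unitHom, ap_counitHom]

@[simp] lemma adj_unit_app (N : SheafOfModules.{u + 1} (R.over V)) :
    (adj R V).unit.app N = unitHom N := rfl

@[simp] lemma adj_counit_app (M : SheafOfModules.{u + 1} R) :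
    (adj R V).counit.app M = counitHom M := rfl

end K645.Shriek
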