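import Groth.Agent.AlgSp.K645.ShriekAdj

/-!
# Exactness of `f_!`
-/

set_option autoImplicit false
set_option linter.unusedSectionVars false
universe u

open CategoryTheory CategoryTheory.Limits Opposite DirectSum

namespace K645.Shriek
open K645.Ex

variable {C : Type (u + 1)} [Category.{u} C] {J : GrothendieckTopology C} {R : Sheaf J RingCat.{u + 1}}
  {V : C}

section PS

variable {N N' : SheafOfModules.{u + 1} (R.over V)}

open Classical in
/-- The component of an element of the direct sum. -/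
noncomputable def cmp (N : SheafOfModules.{u + 1} (R.over V)) {E : C} (g : E ⟶ V) :
    PS N E →ₗ[R.obj.obj (op E)] sec N g := DirectSum.component _ _ _ g

open Classical in
lemma cmp_inj_self {E : C} (g : E ⟶ V) (n : sec N g) : cmp N g (inj N g n) = n :=
  DirectSum.component.lof_self _ _ _

open Classical in
lemma cmp_inj_ne {E : C} {g g' : E ⟶ V} (h : g' ≠ g) (n : sec N g) : cmp N g' (inj N g n) = 0 :=
  DirectSum.of_eq_of_ne _ _ _ h

open Classical in
lemma ext_cmp {E : C} {x y : PS N E} (h : ∀ g : E ⟶ V, cmp N g x = cmp N g y) : x = y :=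
  DirectSum.ext_component _ h

open Classical in
lemma exists_sum {E : C} (x : PS N E) : ∃ s : Finset (E ⟶ V), x = ∑ g ∈ s, inj N g (cmp N g x) :=
  ⟨_, (DirectSum.sum_support_of x).symm⟩

lemma cmp_psMap (ψ : N ⟶ N') {E : C} (g : E ⟶ V) (x : PS N E) :
    cmp N' g (psMap ψ E x) = aps ψ g (cmp N g x) := by
  induction x using induction_PS with
  | h0 => simp only [map_zero]
  | hi g' n =>
    rw [psMap_inj]
    by_cases h : g = g'
    · subst h
      rw [cmp_inj_self, cmp_inj_self]
    · rw [cmp_inj_ne h, cmp_inj_ne h, map_zero]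
  | ha x y hx hy => rw [map_add, map_add, map_add, map_add, hx, hy]

end PS

section Exact

lemma exists_sieve_of_over {E : C} (g : E ⟶ V) (T : Sieve (Over.mk g)) (hT : T ∈ (J.over V) (Over.mk g)) :
    ∃ T' ∈ J E, ∀ ⦃E' : C⦄ (e : E' ⟶ E), T' e → T (Over.homMk e : Over.mk (e ≫ g) ⟶ Over.mk g) := by
  refine ⟨Sieve.overEquiv _ T, (J.mem_over_iff T).1 hT, fun E' e he => ?_⟩
  exact (Sieve.overEquiv_iff T e).1 he

instance : (shriek R V).Additive where
  map_add {N N' ψ ψ'} := hom_ext_ofs fun E g n => by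
    rw [ap_add, ap_map_ofs, ap_map_ofs, ap_map_ofs, ← map_add]
    rfl

lemma shriek_mono {N N' : SheafOfModules.{u + 1} (R.over V)} (f : N ⟶ N') [Mono f] :
    Mono ((shriek R V).map f) := by
  refine mono_of_injective _ fun E y hy => ?_
  obtain ⟨T, hT, h⟩ := exists_tos N y
  refine section_ext _ T hT _ _ fun E' e he => ?_
  obtain ⟨x, hx⟩ := h e he
  rw [map_zero, ← hx]
  have h1 : tos N' E' (psMap f E' x) = 0 := by
    rw [← ap_map_tos, hx, ap_res, hy, map_zero]
  obtain ⟨T', hT', h'⟩ := exists_rsPS_eq_zero N' _ h1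
  refine section_ext _ T' hT' _ _ fun E'' e' he' => ?_
  rw [map_zero, res_tos]
  have h2 : rsPS N e' x = 0 := by
    refine ext_cmp fun g => ?_
    have h3 : aps f g (cmp N g (rsPS N e' x)) = 0 := by
      rw [← cmp_psMap, psMap_rsPS, h' e' he', map_zero]
    rw [map_zero]
    exact injective_of_mono f (Over.mk g) (h3.trans (map_zero (aps f g)).symm)
  rw [h2, map_zero]

lemma exists_psMap_eq (S : ShortComplex (SheafOfModules.{u + 1} (R.over V))) (hS : S.Exact) [Mono S.f]
    {E : C} (x : PS S.X₂ E) (hx : psMap S.g E x = 0) : ∃ x', psMap S.f E x' = x := by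
  obtain ⟨s, hs⟩ := exists_sum x
  have h1 : ∀ g : E ⟶ V, ∃ y : sec S.X₁ g, aps S.f g y = cmp S.X₂ g x := fun g =>
    exists_of_exact S hS (Over.mk g) (cmp S.X₂ g x) (by
      change aps S.g g (cmp S.X₂ g x) = 0
      rw [← cmp_psMap, hx, map_zero])
  choose y hy using h1
  refine ⟨∑ g ∈ s, inj _ g (y g), ?_⟩
  rw [map_sum, hs]
  refine Finset.sum_congr rfl fun g hg => ?_
  rw [psMap_inj, hy]

lemma shriek_exact (S : ShortComplex (SheafOfModules.{u + 1} (R.over V))) (hS : S.Exact) [Mono S.f] :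
    (S.map (shriek R V)).Exact := by
  refine exact_of_local _ fun E y hy => ?_
  obtain ⟨T, hT, h⟩ := exists_tos S.X₂ y
  choose x hx using fun (E' : C) (e : E' ⟶ E) (he : T e) => h e he
  have h1 : ∀ (E' : C) (e : E' ⟶ E) (he : T e), tos S.X₃ E' (psMap S.g E' (x E' e he)) = 0 := by
    intro E' e he
    rw [← ap_map_tos, hx]
    change ap (S.map (shriek R V)).g E' (res (S.map (shriek R V)).X₂ e y) = 0
    rw [ap_res, hy, map_zero]
  choose T' hT' hT'' using fun (E' : C) (e : E' ⟶ E) (he : T e) => exists_rsPS_eq_zero S.X₃ _ (h1 E' e he)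
  refine ⟨Sieve.bind T.arrows fun E' e he => T' E' e he, J.bind_covering hT fun E' e he => hT' E' e he, ?_⟩
  rintro E'' _ ⟨E', e'', e', he', he'', rfl⟩
  have h2 : psMap S.g E'' (rsPS S.X₂ e'' (x E' e' he')) = 0 := by
    rw [psMap_rsPS]; exact hT'' E' e' he' e'' he''
  obtain ⟨x', hx'⟩ := exists_psMap_eq S hS _ h2
  refine ⟨tos S.X₁ E'' x', ?_⟩
  change ap ((shriek R V).map S.f) E'' (tos S.X₁ E'' x') = res ((shriek R V).obj S.X₂) (e'' ≫ e') y
  rw [ap_map_tos, hx', res_comp, ← hx E' e' he', res_tos]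

lemma exists_psMap_of_epi {N N' : SheafOfModules.{u + 1} (R.over V)} (f : N ⟶ N') [Epi f] {E : C}
    (x : PS N' E) : ∃ T ∈ J E, ∀ ⦃E' : C⦄ (e : E' ⟶ E), T e → ∃ x', psMap f E' x' = rsPS N' e x := by
  induction x using induction_PS with
  | h0 => exact ⟨⊤, J.top_mem _, fun E' e _ => ⟨0, by rw [map_zero, map_zero]⟩⟩
  | hi g n =>
    obtain ⟨T, hT, h⟩ := locSurj_of_epi f (Over.mk g) n
    obtain ⟨T', hT', h'⟩ := exists_sieve_of_over g T hT
    refine ⟨T', hT', fun E' e he => ?_⟩
    obtain ⟨x, hx⟩ := h _ (h' e he)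
    refine ⟨inj N (e ≫ g) x, ?_⟩
    rw [psMap_inj, rsPS_inj]
    exact congrArg (inj N' (e ≫ g)) hx
  | ha x y hx hy =>
    obtain ⟨T, hT, h⟩ := hx
    obtain ⟨T', hT', h'⟩ := hy
    refine ⟨T ⊓ T', J.intersection_covering hT hT', fun E' e he => ?_⟩
    obtain ⟨a, ha⟩ := h e he.1
    obtain ⟨b, hb⟩ := h' e he.2
    exact ⟨a + b, by rw [map_add, map_add, ha, hb]⟩

lemma shriek_epi {N N' : SheafOfModules.{u + 1} (R.over V)} (f : N ⟶ N') [Epi f] :
    Epi ((shriek R V).map f) := by
  refine epi_of_locSurj _ fun E y => ?_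
  obtain ⟨T, hT, h⟩ := exists_tos N' y
  choose x hx using fun (E' : C) (e : E' ⟶ E) (he : T e) => h e he
  choose T' hT' hT'' using fun (E' : C) (e : E' ⟶ E) (he : T e) => exists_psMap_of_epi f (x E' e he)
  refine ⟨Sieve.bind T.arrows fun E' e he => T' E' e he, J.bind_covering hT fun E' e he => hT' E' e he, ?_⟩
  rintro E'' _ ⟨E', e'', e', he', he'', rfl⟩
  obtain ⟨x', hx'⟩ := hT'' E' e' he' e'' he''
  refine ⟨tos N E'' x', ?_⟩
  rw [ap_map_tos, hx', res_comp, ← hx E' e' he', res_tos]

lemma shriek_shortExact (S : ShortComplex (SheafOfModules.{u + 1} (R.over V))) (hS : S.ShortExact) :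
    (S.map (shriek R V)).ShortExact := by
  have := hS.mono_f
  have := hS.epi_g
  exact { exact := shriek_exact S hS.exact, mono_f := shriek_mono S.f, epi_g := shriek_epi S.g }

instance : PreservesFiniteLimits (shriek R V) := by
  have h := ((shriek R V).exact_tfae.out 0 3).1 shriek_shortExact
  exact h.1

instance : PreservesFiniteColimits (shriek R V) := by
  have h := ((shriek R V).exact_tfae.out 0 3).1 shriek_shortExact
  exact h.2

instance : (rst R V).Additive where
  map_add := by intros; rfl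

lemma rst_shortExact (S : ShortComplex (SheafOfModules.{u + 1} R)) (hS : S.ShortExact) :
    (S.map (rst R V)).ShortExact := by
  have := hS.mono_f
  have := hS.epi_g
  refine shortExact_of_local _ (fun X x hx => ?_) (fun X y hy => ?_) (fun X y => ?_)
  · exact injective_of_mono S.f X.left (hx.trans (map_zero (ap S.f X.left)).symm)
  · obtain ⟨x, hx⟩ := exists_of_exact S hS.exact X.left y hy
    exact ⟨⊤, (J.over V).top_mem _, fun X' e _ => ⟨res ((rst R V).obj S.X₁) e x, by
      change ap (S.map (rst R V)).f X' (res (S.map (rst R V)).X₁ e x) = _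
      rw [ap_res]
      exact congrArg (res (S.map (rst R V)).X₂ e) hx⟩⟩
  · obtain ⟨T, hT, h⟩ := locSurj_of_epi S.g X.left y
    refine ⟨(Sieve.overEquiv X).symm T, J.overEquiv_symm_mem_over X T hT, fun X' e he => ?_⟩
    exact h e.left ((Sieve.overEquiv_symm_iff T e).1 he)

instance : PreservesFiniteLimits (rst R V) := by
  have h := ((rst R V).exact_tfae.out 0 3).1 rst_shortExact
  exact h.1

instance : PreservesFiniteColimits (rst R V) := by
  have h := ((rst R V).exact_tfae.out 0 3).1 rst_shortExact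
  exact h.2

end Exact

end K645.Shriek
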