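import Groth.Agent.AlgSp.K645.LamMV
import Groth.Agent.AlgSp.K645.ShriekEx

/-!
# Extension by zero from a slice and sections supported in an open: excision for elementary squares
-/

set_option autoImplicit false
set_option linter.unusedSectionVars false
universe u

open CategoryTheory CategoryTheory.Limits Opposite DirectSum

namespace K645.Square
open K645.Ex K645.Lam K645.Shriek

variable {C : Type (u + 1)} [Category.{u} C] {J : GrothendieckTopology C} {R : Sheaf J RingCat.{u + 1}}
  {V : C} {U W : Opn C}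

/-- Restriction of an open to a slice. -/
def ovr (U : Opn C) (V : C) : Opn (Over V) where
  mem X := U.mem X.left
  down f h := U.down f.left h

lemma mem_ovr_iff (N : SheafOfModules.{u + 1} (R.over V)) {E : C} (g : E ⟶ V) (n : sec N g) :
    (show N.val.obj (op (Over.mk g)) from n) ∈ (sub (ovr U V) N).obj (op (Over.mk g)) ↔
      ∃ T ∈ J E, ∀ ⦃E' : C⦄ (e : E' ⟶ E), T e → U.mem E' ∨ rs N g e n = 0 := by
  constructor
  · rintro ⟨T, hT, h⟩
    obtain ⟨T', hT', h'⟩ := exists_sieve_of_over g T hT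
    refine ⟨T', hT', fun E' e he => h _ (h' e he)⟩
  · rintro ⟨T, hT, h⟩
    refine ⟨(Sieve.overEquiv (Over.mk g)).symm T, J.overEquiv_symm_mem_over (Over.mk g) T hT,
      fun X' e he => ?_⟩
    rcases h e.left ((Sieve.overEquiv_symm_iff T e).1 he) with h1 | h1
    · exact Or.inl h1
    · refine Or.inr ?_
      have key : ∀ (g' : X'.left ⟶ V) (hg' : e.left ≫ g = g'),
          N.val.map (Over.homMk e.left hg' : Over.mk g' ⟶ Over.mk g).op n = 0 := by
        intro g' hg'
        subst hg'
        exact h1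
      exact key X'.hom (Over.w e)

/-- The inclusion on sections over objects of the slice. -/
noncomputable abbrev io (U : Opn C) (N : SheafOfModules.{u + 1} (R.over V)) {E : C} (g : E ⟶ V) :
    sec (obj (ovr U V) N) g →ₗ[R.obj.obj (op E)] sec N g := aps (inc (ovr U V) N) g

lemma io_injective (N : SheafOfModules.{u + 1} (R.over V)) {E : C} (g : E ⟶ V) :
    Function.Injective (io U N g) := ap_inc_injective (ovr U V) N (Over.mk g)

lemma io_mem (N : SheafOfModules.{u + 1} (R.over V)) {E : C} (g : E ⟶ V) (n : sec (obj (ovr U V) N) g) :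
    ∃ T ∈ J E, ∀ ⦃E' : C⦄ (e : E' ⟶ E), T e → U.mem E' ∨ rs N g e (io U N g n) = 0 :=
  (mem_ovr_iff N g _).1 (ap_inc_mem (ovr U V) N (Over.mk g) n)

lemma exists_io (N : SheafOfModules.{u + 1} (R.over V)) {E : C} (g : E ⟶ V) (n : sec N g)
    (h : ∃ T ∈ J E, ∀ ⦃E' : C⦄ (e : E' ⟶ E), T e → U.mem E' ∨ rs N g e n = 0) :
    ∃ n', io U N g n' = n := exists_ap_inc (ovr U V) N (Over.mk g) n ((mem_ovr_iff N g n).2 h)

lemma exists_io_of_mem (N : SheafOfModules.{u + 1} (R.over V)) {E : C} (hE : U.mem E) (g : E ⟶ V)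
    (n : sec N g) : ∃ n', io U N g n' = n :=
  exists_io N g n ⟨⊤, J.top_mem _, fun _ e _ => Or.inl (U.down e hE)⟩

lemma psMap_inc_surjective (N : SheafOfModules.{u + 1} (R.over V)) {E : C} (hE : U.mem E) (x : PS N E) :
    ∃ x', psMap (inc (ovr U V) N) E x' = x := by
  induction x using induction_PS with
  | h0 => exact ⟨0, map_zero _⟩
  | hi g n =>
    obtain ⟨n', hn'⟩ := exists_io_of_mem N hE g n
    exact ⟨inj _ g n', by rw [psMap_inj]; exact congrArg _ hn'⟩
  | ha x y hx hy =>
    obtain ⟨a, ha⟩ := hx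
    obtain ⟨b, hb⟩ := hy
    exact ⟨a + b, by rw [map_add, ha, hb]⟩

/-- Elements of the direct sum of `j_! j^* N` are locally zero or live over `U`. -/
lemma locally_zero_or_mem (N : SheafOfModules.{u + 1} (R.over V)) {E : C} (x : PS (obj (ovr U V) N) E) :
    ∃ T ∈ J E, ∀ ⦃E' : C⦄ (e : E' ⟶ E), T e → U.mem E' ∨ rsPS _ e x = 0 := by
  induction x using induction_PS with
  | h0 => exact ⟨⊤, J.top_mem _, fun E' e _ => Or.inr (map_zero _)⟩
  | hi g n =>
    obtain ⟨T, hT, h⟩ := io_mem N g n
    refine ⟨T, hT, fun E' e he => ?_⟩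
    rcases h e he with h1 | h1
    · exact Or.inl h1
    · refine Or.inr ?_
      rw [rsPS_inj]
      have h2 : rs (obj (ovr U V) N) g e n = 0 := by
        apply io_injective N (e ≫ g)
        rw [map_zero]
        exact (aps_rs _ _ _ _).trans h1
      rw [h2, map_zero]
  | ha x y hx hy =>
    obtain ⟨T, hT, h⟩ := hx
    obtain ⟨T', hT', h'⟩ := hy
    refine ⟨T ⊓ T', J.intersection_covering hT hT', fun E' e he => ?_⟩
    rcases h e he.1 with h1 | h1
    · exact Or.inl h1
    rcases h' e he.2 with h2 | h2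
    · exact Or.inl h2
    · exact Or.inr (by rw [map_add, h1, h2, add_zero])

/-- `f_! j_! j^* N` is supported in `U`. -/
lemma isIso_inc_shriek (N : SheafOfModules.{u + 1} (R.over V)) :
    IsIso (inc U ((shriek R V).obj (obj (ovr U V) N))) := by
  refine isIso_of_local _ (fun E x hx => ap_inc_injective U _ E (by rw [hx, map_zero])) (fun E y => ?_)
  have hy : y ∈ (sub U ((shriek R V).obj (obj (ovr U V) N))).obj (op E) := by
    obtain ⟨T, hT, h⟩ := exists_tos _ y
    refine mem_sub_of_local _ _ _ T hT fun E' e he => ?_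
    obtain ⟨x, hx⟩ := h e he
    rw [← hx]
    obtain ⟨T', hT', h'⟩ := locally_zero_or_mem N x
    refine ⟨T', hT', fun E'' e' he' => ?_⟩
    rcases h' e' he' with h1 | h1
    · exact Or.inl h1
    · exact Or.inr (by rw [res_tos, h1, map_zero])
  obtain ⟨t, ht⟩ := exists_ap_inc U _ E y hy
  exact ⟨⊤, J.top_mem _, fun E' e _ => ⟨res _ e t, by rw [ap_res, ht]⟩⟩

/-- `f_! N` and `f_! j_! j^* N` agree over `U`. -/
lemma isIso_lam_map_shriek_map_inc (N : SheafOfModules.{u + 1} (R.over V)) :
    IsIso ((lam U R).map ((shriek R V).map (inc (ovr U V) N))) := by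
  have := shriek_mono (inc (ovr U V) N)
  have := lam_mono U ((shriek R V).map (inc (ovr U V) N))
  have : Epi ((lam U R).map ((shriek R V).map (inc (ovr U V) N))) := by
    refine epi_of_locSurj _ fun E y => ?_
    obtain ⟨T, hT, h⟩ := ap_inc_mem U _ E y
    have key : ∀ ⦃E' : C⦄ (e : E' ⟶ E), T e → ∃ T₁ ∈ J E', ∀ ⦃E'' : C⦄ (e' : E'' ⟶ E'), T₁ e' →
        ∃ x, ap ((lam U R).map ((shriek R V).map (inc (ovr U V) N))) E'' x = res _ (e' ≫ e) y := by
      intro E' e he
      rcases h e he with h1 | h1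
      · obtain ⟨T', hT', h'⟩ := exists_tos N (res _ e (ap (inc U ((shriek R V).obj N)) E y))
        refine ⟨T', hT', fun E'' e' he' => ?_⟩
        obtain ⟨x, hx⟩ := h' e' he'
        obtain ⟨x', rfl⟩ := psMap_inc_surjective N (U.down e' h1) x
        obtain ⟨z, hz⟩ := exists_ap_inc U _ E'' (tos (obj (ovr U V) N) E'' x')
          (mem_sub_of_mem U _ (U.down e' h1) _)
        refine ⟨z, ap_inc_injective U _ E'' ?_⟩
        have h2 : ap (inc U ((shriek R V).obj N)) E''
          (ap ((lam U R).map ((shriek R V).map (inc (ovr U V) N))) E'' z) =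
            ap ((shriek R V).map (inc (ovr U V) N)) E'' (ap (inc U _) E'' z) := ap_lam_map _ _ _ _
        refine h2.trans ?_
        rw [hz, ap_map_tos, hx, ap_res, res_comp]
      · refine ⟨⊤, J.top_mem _, fun E'' e' _ => ⟨0, ap_inc_injective U _ E'' ?_⟩⟩
        have h2 : ap (inc U ((shriek R V).obj N)) E''
          (ap ((lam U R).map ((shriek R V).map (inc (ovr U V) N))) E'' 0) = 0 := by
            rw [map_zero, map_zero]
        refine h2.trans ?_
        rw [ap_res, res_comp, h1, map_zero]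
    choose T₁ hT₁ hT₁' using key
    refine ⟨Sieve.bind T.arrows fun E' e he => T₁ e he, J.bind_covering hT fun E' e he => hT₁ e he, ?_⟩
    rintro E'' _ ⟨E', e'', e', he', he'', rfl⟩
    exact hT₁' e' he' e'' he''
  exact isIso_of_mono_of_epi _

/-- `f^* j_! j^* M` is supported in `U`. -/
lemma isIso_inc_rst (M : SheafOfModules.{u + 1} R) :
    IsIso (inc (ovr U V) ((rst R V).obj (obj U M))) := by
  refine isIso_of_local _ (fun E x hx => ap_inc_injective _ _ E (by rw [hx, map_zero])) (fun X y => ?_)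
  have hy : y ∈ (sub (ovr U V) ((rst R V).obj (obj U M))).obj (op X) := by
    obtain ⟨T, hT, h⟩ := ap_inc_mem U M X.left y
    refine ⟨(Sieve.overEquiv X).symm T, J.overEquiv_symm_mem_over _ T hT, fun X' e he => ?_⟩
    rcases h e.left ((Sieve.overEquiv_symm_iff T e).1 he) with h1 | h1
    · exact Or.inl h1
    · refine Or.inr (ap_inc_injective U M X'.left ?_)
      have h2 : ap (inc U M) X'.left (res (obj U M) e.left y) = res M e.left (ap (inc U M) X.left y) := ap_res _ _ _
      exact h2.trans h1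
  obtain ⟨t, ht⟩ := exists_ap_inc _ _ X y hy
  exact ⟨⊤, (J.over V).top_mem _, fun E' e _ => ⟨res _ e t, by rw [ap_res, ht]⟩⟩

lemma isIso_lam_map_rst_map_inc (M : SheafOfModules.{u + 1} R) :
    IsIso ((lam (ovr U V) (R.over V)).map ((rst R V).map (inc U M))) := by
  have : Mono ((rst R V).map (inc U M)) := inferInstance
  have := lam_mono (ovr U V) ((rst R V).map (inc U M))
  have : Epi ((lam (ovr U V) (R.over V)).map ((rst R V).map (inc U M))) := by
    refine epi_of_locSurj _ fun X y => ?_
    obtain ⟨T, hT, h⟩ := ap_inc_mem (ovr U V) _ X y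
    refine ⟨T, hT, fun X' e he => ?_⟩
    rcases h e he with h1 | h1
    · obtain ⟨m, hm⟩ := exists_ap_inc U M X'.left _ (mem_sub_of_mem U M h1
        (show M.val.obj (op X'.left) from res ((rst R V).obj M) e (ap (inc (ovr U V) ((rst R V).obj M)) X y)))
      obtain ⟨z, hz⟩ := exists_ap_inc (ovr U V) ((rst R V).obj (obj U M)) X' m (mem_sub_of_mem _ _ h1 _)
      refine ⟨z, ap_inc_injective (ovr U V) _ X' ?_⟩
      have h2 : ap (inc (ovr U V) ((rst R V).obj M)) X'
          (ap ((lam (ovr U V) (R.over V)).map ((rst R V).map (inc U M))) X' z) =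
        ap ((rst R V).map (inc U M)) X' (ap (inc (ovr U V) _) X' z) := ap_lam_map _ _ _ _
      refine h2.trans ?_
      rw [hz, ap_res]
      exact hm
    · refine ⟨0, ap_inc_injective (ovr U V) _ X' ?_⟩
      rw [map_zero, ap_res]
      refine (map_zero _).trans ?_
      exact h1.symm
  exact isIso_of_mono_of_epi _

end K645.Square
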