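import Groth.Agent.AlgSp.K645.TildeEx
import Groth.Agent.AlgSp.K645.DNat
import Groth.Agent.AlgSp.K645.IsO
import Groth.Agent.AlgSp.K646.AcycX
import Groth.Prelude.Def_DRing2
import Groth.Agent.PerfA.TildeAbs
import Groth.Agent.PerfA.QCohAcyc
import Groth.Agent.PerfA.QCohRes
import Groth.Agent.CohtopA.DerProd

/-!
# `D(B) ≃ D_QCoh` on the slice of the small etale site over an affine object
-/

set_option autoImplicit false

universe u

open CategoryTheory CategoryTheory.Limits AlgebraicGeometry Opposite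

attribute [local instance] HasDerivedCategory.standard

namespace K645.TE

open K645.IsO Groth.Agent.PerfA.PostHom Groth.Agent.PerfA.TildeAbs Groth.Agent.PerfA.QCohAcyc

variable {S : Scheme.{u}} {X : AlgSp.Sp S} (E : AlgSp.EtOver X)

/-- The ring of functions. -/
abbrev B : Type (u + 1) := ULift.{u + 1} Γ(E.obj.left.left, ⊤)

/-- The functor `M ↦ M~` over an object. -/
noncomputable def tE : ModuleCat.{u + 1} (B E) ⥤ AlgSp.ModEtOn E :=
  K645.Tilde.tlF (R := AlgSp.OEtOn E) (t := Over.mk (𝟙 E)) Over.mkIdTerminal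

/-- Sections over the object. -/
noncomputable def sE : AlgSp.ModEtOn E ⥤ ModuleCat.{u + 1} (B E) :=
  SheafOfModules.evaluation (AlgSp.OEtOn E) (op (Over.mk (𝟙 E)))

/-- The adjunction. -/
noncomputable def adjE : tE E ⊣ sE E := K645.Tilde.adj (R := AlgSp.OEtOn E) Over.mkIdTerminal

instance : (tE E).Additive := K645.Tilde.additive_tlF (R := AlgSp.OEtOn E) Over.mkIdTerminal
instance : (sE E).Additive := K645.Tilde.evaluation_additive _

instance : PreservesFiniteColimits (tE E) :=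
  K645.Tilde.preservesFiniteColimits_tlF (R := AlgSp.OEtOn E) Over.mkIdTerminal

/-- The class of the `j_! O_U`, `U` affine over `E`, up to isomorphism. -/
def PB : ObjectProperty (AlgSp.ModEtOn E) := fun G =>
  ∃ U : Over E, IsAffine (K646.EtSite.sch U.left) ∧
    Nonempty (G ≅ K646.Free.OU.{u + 1} (AlgSp.OEtOn E) U)

theorem acycE : Acyc (PB E) (K646.AcycX.QcOn E) where
  detects := by
    intro A B f hf
    obtain ⟨G, ⟨U, hU, rfl⟩, p, hp⟩ := (K646.AcycX.acycOn E).detects f hf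
    exact ⟨_, ⟨U, hU, ⟨Iso.refl _⟩⟩, p, hp⟩
  iso _ _ e h := (K646.AcycX.acycOn E).iso e h
  zero _ h := (K646.AcycX.acycOn E).zero h
  van := by
    rintro G ⟨U, hU, ⟨e⟩⟩ M hM m n hnm φ
    have h := (K646.AcycX.acycOn E).van ⟨U, hU, rfl⟩ hM m n hnm
      ((DerivedCategory.singleFunctor (AlgSp.ModEtOn E) m).map e.inv ≫ φ)
    rw [← cancel_epi ((DerivedCategory.singleFunctor (AlgSp.ModEtOn E) m).map e.inv), h, comp_zero]

theorem cor_tE : Cor (Over.mk (𝟙 E)) ((tE E).obj (ModuleCat.of (B E) (B E))) :=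
  cor_tl (R := AlgSp.OEtOn E) Over.mkIdTerminal

theorem tE_mem (hE : IsAffine E.obj.left.left) ⦃G : ModuleCat.{u + 1} (B E)⦄
    (hG : self (CommRingCat.of (B E)) G) : PB E ((tE E).obj G) := by
  obtain ⟨e⟩ := hG
  obtain ⟨i⟩ := (cor_tE E).iso (cor_OU.{u + 1} (R := AlgSp.OEtOn E) (Over.mk (𝟙 E)))
  exact ⟨Over.mk (𝟙 E), hE, ⟨(tE E).mapIso e ≪≫ i⟩⟩

theorem isQC_tE (M : ModuleCat.{u + 1} (B E)) :
    K644.Psh.IsQC (K644.Slice.oT (AlgSp.EtOver.toScheme X) E) ((tE E).obj M).val :=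
  K645.Tilde.isQC_tl (K644.Slice.oT (AlgSp.EtOver.toScheme X) E) (R := AlgSp.OEtOn E)
    Over.mkIdTerminal M

theorem qc_tE (M : ModuleCat.{u + 1} (B E)) (_ : True) : K646.AcycX.QcOn E ((tE E).obj M) :=
  K644.QCoh.isQuasicoherent_of_isQC (isQC_tE E M)

theorem exists_resolution (K : CochainComplex (AlgSp.ModEtOn E) ℤ) :
    ∃ (I : CochainComplex (AlgSp.ModEtOn E) ℤ) (s : K ⟶ I), I.IsKInjective ∧ QuasiIso s := by
  have := K646.Inst.isGrothendieckAbelianOn E
  obtain ⟨I, s, h1, h2, -⟩ := Groth.Agent.CohtopA.KInjRes2.exists_kInjective_resolution.{u + 1} K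
  exact ⟨I, s, h1, h2⟩

instance hasProductsOfShape_nat : HasProductsOfShape ℕ (DerivedCategory (AlgSp.ModEtOn E)) := by
  have := K646.Inst.isGrothendieckAbelianOn E
  exact Groth.Agent.CohtopA.DerProd.hasLimitsOfShape_discrete.{u + 2, u + 1} _ ℕ

section affine

variable [hE : IsAffine E.obj.left.left]

instance : PreservesFiniteLimits (tE E) :=
  K645.Tilde.preservesFiniteLimits_tlF (K644.Slice.oT (AlgSp.EtOver.toScheme X) E)
    (R := AlgSp.OEtOn E) Over.mkIdTerminal hE

/-- `tE` is fully faithful. -/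
noncomputable def ffE : (tE E).FullyFaithful :=
  K645.Tilde.fullyFaithful (K644.Slice.oT (AlgSp.EtOver.toScheme X) E) (R := AlgSp.OEtOn E)
    Over.mkIdTerminal hE

instance : (tE E).Full := (ffE E).full
instance : (tE E).Faithful := (ffE E).faithful

theorem exists_tE_iso (M : AlgSp.ModEtOn E) (hM : M.IsQuasicoherent) :
    ∃ N : ModuleCat.{u + 1} (B E), Nonempty ((tE E).obj N ≅ M) :=
  K645.Tilde.exists_tl_iso (K644.Slice.oT (AlgSp.EtOver.toScheme X) E) (R := AlgSp.OEtOn E)
    Over.mkIdTerminal hE M (K644.QCoh.isQC_of_isQuasicoherent M)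

theorem isIso_counitE (M : AlgSp.ModEtOn E) (hM : M.IsQuasicoherent) :
    IsIso ((adjE E).counit.app M) :=
  K645.Tilde.isIso_counit (T := K644.Slice.oT (AlgSp.EtOver.toScheme X) E) (R := AlgSp.OEtOn E)
    Over.mkIdTerminal hE M (K644.QCoh.isQC_of_isQuasicoherent M)

/-- The functor on derived categories. -/
noncomputable abbrev TD : Dual.D (B E) ⥤ DCoh.DMod (AlgSp.OEtOn E) := (tE E).mapDerivedCategory

/-- `D(B) ⥤ D(O_E)` is bijective on morphisms. -/
theorem bijective_TD (M N : Dual.D (B E)) :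
    Function.Bijective (fun φ : M ⟶ N => (TD E).map φ) := by
  have := Groth.Agent.PerfA.QCohRes.hasProductsOfShape_nat_mod (CommRingCat.of (B E))
  exact bijective_map (adjE E) (acycMod (CommRingCat.of (B E))) (acycE E) (tE_mem E hE) (qc_tE E)
    (exists_resolution E) M N (fun _ => trivial)

instance : (TD E).Full where
  map_surjective f := (bijective_TD E _ _).2 f

instance : (TD E).Faithful where
  map_injective h := (bijective_TD E _ _).1 h

theorem isQCoh_TD (M : Dual.D (B E)) : DCoh.IsQCohDMod (AlgSp.OEtOn E) ((TD E).obj M) :=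
  cohIn_map (qc_tE E) (acycE E) M (fun _ => trivial)

theorem exists_TD_iso (K : DCoh.DMod (AlgSp.OEtOn E)) (hK : DCoh.IsQCohDMod (AlgSp.OEtOn E) K) :
    ∃ N : Dual.D (B E), Nonempty ((TD E).obj N ≅ K) := by
  have := Groth.Agent.PerfA.QCohRes.hasProductsOfShape_nat_mod (CommRingCat.of (B E))
  exact exists_iso_of_cohIn (adjE E) (acycMod (CommRingCat.of (B E))) (acycE E) (tE_mem E hE) (qc_tE E)
    (exists_resolution E) (fun _ => trivial) (fun M hM => exists_tE_iso E M hM) K hK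

end affine

end K645.TE
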