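import Groth.Agent.AlgSp.K644.Pres
import Mathlib.CategoryTheory.Abelian.Exact

/-!
# The module attached to a module over the ring of functions of an affine terminal object
-/

set_option autoImplicit false

universe w v d u

open CategoryTheory CategoryTheory.Limits AlgebraicGeometry Opposite

namespace K645.Tilde

open Groth.Agent.Etbase.FFExact K644.Site K644.Psh K644.Alg K644.Colim K644.Exact K644.Free K644.Pres

variable {D : Type d} [Category.{v} D] {J : GrothendieckTopology D}
variable {R : Sheaf J RingCat.{u + 1}}

/-- Evaluation of a morphism at an object. -/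
noncomputable def ev {M N : SheafOfModules.{u + 1} R} (φ : M ⟶ N) (U : D) :
    M.val.obj (op U) →ₗ[R.obj.obj (op U)] N.val.obj (op U) := (φ.val.app (op U)).hom

theorem ev_comp {M N P : SheafOfModules.{u + 1} R} (φ : M ⟶ N) (ψ : N ⟶ P) (U : D)
    (x : M.val.obj (op U)) : ev (φ ≫ ψ) U x = ev ψ U (ev φ U x) := rfl

theorem ev_zero {M N : SheafOfModules.{u + 1} R} (U : D)
    (x : M.val.obj (op U)) : ev (0 : M ⟶ N) U x = 0 := rfl

theorem ev_secAt {M N : SheafOfModules.{u + 1} R} (φ : M ⟶ N) (s : M.sections) (U : D) :
    ev φ U (secAt s U) = secAt (SheafOfModules.sectionsMap φ s) U := rfl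

section

variable {t : D} (ht : IsTerminal t)

include ht in
theorem sections_ext {M : SheafOfModules.{u + 1} R} (s s' : M.sections)
    (h : secAt s t = secAt s' t) : s = s' := by
  apply Subtype.ext
  funext U
  induction U with
  | op U =>
    have h1 := res_secAt s (ht.from U)
    have h2 := res_secAt s' (ht.from U)
    rw [h] at h1
    exact h1.symm.trans h2

variable [HasSheafify J AddCommGrpCat.{u + 1}]
  [J.WEqualsLocallyBijective AddCommGrpCat.{u + 1}]

variable (R t) in
/-- The basis sections. -/
noncomputable def bs {I : Type (u + 1)} (i : I) : (SheafOfModules.free (R := R) I).val.obj (op t) :=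
  basisAt R t i

/-- The morphism from a free module given by sections over the terminal object. -/
noncomputable def hom {I : Type (u + 1)} {M : SheafOfModules.{u + 1} R} (f : I → M.val.obj (op t)) :
    SheafOfModules.free (R := R) I ⟶ M :=
  M.freeHomEquiv.symm (fun i => secOf ht (f i))

theorem ev_hom {I : Type (u + 1)} {M : SheafOfModules.{u + 1} R} (f : I → M.val.obj (op t)) (i : I) :
    ev (hom ht f) t (bs R t i) = f i := by
  have h : SheafOfModules.sectionsMap (hom ht f) (SheafOfModules.freeSection (R := R) i) =
      secOf ht (f i) := SheafOfModules.sectionsMap_freeHomEquiv_symm_freeSection _ _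
  unfold bs basisAt
  rw [ev_secAt, h]
  exact secAt_secOf_self ht (f i)

include ht in
theorem free_hom_ext {I : Type (u + 1)} {M : SheafOfModules.{u + 1} R}
    (φ ψ : SheafOfModules.free (R := R) I ⟶ M)
    (h : ∀ i, ev φ t (bs R t i) = ev ψ t (bs R t i)) : φ = ψ := by
  apply M.freeHomEquiv.injective
  funext i
  apply sections_ext ht
  have h1 : ∀ φ : SheafOfModules.free (R := R) I ⟶ M,
      secAt (M.freeHomEquiv φ i) t = ev φ t (bs R t i) := fun φ => by
    unfold bs basisAt
    rw [ev_secAt]
    rw [← SheafOfModules.sectionsMap_freeHomEquiv_symm_freeSection (M.freeHomEquiv φ) i,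
      Equiv.symm_apply_apply]
  rw [h1, h1, h]

variable (N : ModuleCat.{u + 1} (R.obj.obj (op t)))

/-- The type of relations. -/
abbrev Rel : Type (u + 1) := (N × N) ⊕ (R.obj.obj (op t) × N)

/-- The relations. -/
noncomputable def rel : Rel N → (SheafOfModules.free (R := R) N).val.obj (op t)
  | .inl (a, b) => bs R t (a + b) - bs R t a - bs R t b
  | .inr (r, a) => bs R t (r • a) - r • bs R t a

/-- The module attached to `N`. -/
noncomputable def tl : SheafOfModules.{u + 1} R := cokernel (hom ht (rel N))

/-- The projection. -/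
noncomputable def pr : SheafOfModules.free (R := R) N ⟶ tl ht N := cokernel.π _

instance : Epi (pr ht N) := inferInstanceAs (Epi (cokernel.π _))

theorem rel_pr : hom ht (rel N) ≫ pr ht N = 0 := cokernel.condition _

theorem ev_pr_rel (j : Rel N) : ev (pr ht N) t (rel N j) = 0 := by
  rw [← ev_hom ht (rel N) j, ← ev_comp, rel_pr, ev_zero]

/-- The universal map. -/
noncomputable def eta : N →ₗ[R.obj.obj (op t)] (tl ht N).val.obj (op t) where
  toFun n := ev (pr ht N) t (bs R t n)
  map_add' a b := by
    have h := ev_pr_rel ht N (.inl (a, b))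
    change ev (pr ht N) t (bs R t (a + b) - bs R t a - bs R t b) = 0 at h
    rw [map_sub, map_sub, sub_sub, sub_eq_zero] at h
    exact h
  map_smul' r a := by
    have h := ev_pr_rel ht N (.inr (r, a))
    change ev (pr ht N) t (bs R t (r • a) -
      r • bs R t a) = 0 at h
    rw [map_sub, map_smul, sub_eq_zero] at h
    exact h

variable {N}

theorem tl_hom_ext {M : SheafOfModules.{u + 1} R} (φ ψ : tl ht N ⟶ M)
    (h : ∀ n, ev φ t (eta ht N n) = ev ψ t (eta ht N n)) : φ = ψ := by
  rw [← cancel_epi (pr ht N)]
  exact free_hom_ext ht _ _ h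

/-- The morphism given by a linear map. -/
noncomputable def desc {M : SheafOfModules.{u + 1} R} (f : N →ₗ[R.obj.obj (op t)] M.val.obj (op t)) :
    tl ht N ⟶ M :=
  cokernel.desc _ (hom ht f) (by
    apply free_hom_ext ht
    intro j
    rw [ev_comp, ev_hom, ev_zero]
    rcases j with ⟨a, b⟩ | ⟨r, a⟩
    · change ev (hom ht f) t (bs R t (a + b) - bs R t a - bs R t b) = 0
      rw [map_sub, map_sub, ev_hom, ev_hom, ev_hom, map_add, add_sub_cancel_left, sub_self]
    · change ev (hom ht f) t (bs R t (r • a) -
        r • bs R t a) = 0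
      rw [map_sub, map_smul, ev_hom, ev_hom, map_smul, sub_self])

theorem ev_desc {M : SheafOfModules.{u + 1} R} (f : N →ₗ[R.obj.obj (op t)] M.val.obj (op t)) (n : N) :
    ev (desc ht f) t (eta ht N n) = f n := by
  have h : pr ht N ≫ desc ht f = hom ht f := cokernel.π_desc _ _ _
  change ev (pr ht N ≫ desc ht f) t (bs R t n) = f n
  rw [h, ev_hom]

variable (N)

/-- The universal property. -/
noncomputable def tlEquiv (M : SheafOfModules.{u + 1} R) :
    (tl ht N ⟶ M) ≃ (N ⟶ (SheafOfModules.evaluation R (op t)).obj M) where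
  toFun φ := ModuleCat.ofHom ((ev φ t).comp (eta ht N))
  invFun f := desc ht f.hom
  left_inv φ := tl_hom_ext ht _ _ fun n => by rw [ev_desc]; rfl
  right_inv f := by
    ext n
    exact ev_desc ht f.hom n

theorem tlEquiv_comp {M M' : SheafOfModules.{u + 1} R} (φ : tl ht N ⟶ M) (ψ : M ⟶ M') :
    tlEquiv ht N M' (φ ≫ ψ) = tlEquiv ht N M φ ≫ (SheafOfModules.evaluation R (op t)).map ψ := rfl

/-- The functor `N ↦ N~`. -/
noncomputable def tlF : ModuleCat.{u + 1} (R.obj.obj (op t)) ⥤ SheafOfModules.{u + 1} R :=
  Adjunction.leftAdjointOfEquiv (G := SheafOfModules.evaluation R (op t)) (F_obj := fun N => tl ht N)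
    (fun N M => tlEquiv ht N M) (fun _ _ _ ψ φ => tlEquiv_comp ht _ φ ψ)

@[simp] theorem tlF_obj : (tlF ht).obj N = tl ht N := rfl

/-- The adjunction. -/
noncomputable def adj : tlF (R := R) ht ⊣ SheafOfModules.evaluation R (op t) :=
  Adjunction.adjunctionOfEquivLeft (G := SheafOfModules.evaluation R (op t)) (F_obj := fun N => tl ht N)
    (fun N M => tlEquiv ht N M) (fun _ _ _ ψ φ => tlEquiv_comp ht _ φ ψ)

theorem adj_unit_app' :
    (adj ht).unit.app N = tlEquiv ht N (tl ht N) (𝟙 _) := rfl

theorem adj_unit_app : (adj ht).unit.app N = ModuleCat.ofHom (eta ht N) := by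
  rw [adj_unit_app']
  ext n
  rfl

theorem ev_tlF_map {N N' : ModuleCat.{u + 1} (R.obj.obj (op t))} (f : N ⟶ N') (n : N) :
    ev ((tlF ht).map f) t (eta ht N n) = eta ht N' (f n) := by
  have h := (adj (R := R) ht).unit.naturality f
  rw [adj_unit_app, adj_unit_app] at h
  exact (ConcreteCategory.congr_hom h n).symm

end

section iso

variable {T : D ⥤ Scheme.{u}} [Str T R.obj]

/-- A morphism of modules cartesian on affine objects which is bijective over an affine terminal
object is an isomorphism. -/
theorem isIso_of_bijective [QCSite J T] {M N : SheafOfModules.{u + 1} R} (hM : IsQC T M.val)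
    (hN : IsQC T N.val) (φ : M ⟶ N) {t : D} (ht : IsTerminal t) (hta : IsAffine (T.obj t))
    (h : Function.Bijective (smap T φ t)) : IsIso φ := by
  refine isIso_of_affine (T := T) φ fun U hU => ?_
  let e := LinearEquiv.ofBijective _ h
  have hMU := hM (ht.from U) hU hta
  have hNU := hN (ht.from U) hU hta
  obtain ⟨g, hg, -⟩ := IsBC.existsUnique_lift hNU ((res M (ht.from U)).comp (e.symm : sec N t →+ sec M t))
    (by
      intro a m
      change res M (ht.from U) (e.symm (a • m)) = _
      rw [map_smul, res_smul]
      rfl)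
  have h1 : g.comp (smap T φ U) = LinearMap.id := by
    refine IsBC.hom_ext hMU _ _ fun m => ?_
    change g (smap T φ U (res M (ht.from U) m)) = res M (ht.from U) m
    rw [smap_res]
    refine (hg _).trans ?_
    change res M (ht.from U) (e.symm (e m)) = _
    rw [LinearEquiv.symm_apply_apply]
  have h2 : (smap T φ U).comp g = LinearMap.id := by
    refine IsBC.hom_ext hNU _ _ fun m => ?_
    have h3 : g (res N (ht.from U) m) = res M (ht.from U) (e.symm m) := hg m
    change smap T φ U (g (res N (ht.from U) m)) = res N (ht.from U) m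
    rw [h3, smap_res]
    change res N (ht.from U) (e (e.symm m)) = _
    rw [LinearEquiv.apply_symm_apply]
  exact ⟨fun x y hxy => by
    rw [← LinearMap.id_apply (R := Γ(T.obj U, ⊤)) x, ← LinearMap.id_apply (R := Γ(T.obj U, ⊤)) y, ← h1]
    exact congrArg g hxy, fun x => ⟨g x, LinearMap.congr_fun h2 x⟩⟩

end iso

section main

variable {T : D ⥤ Scheme.{u}} [HasPullbacks D] [PreservesLimitsOfShape WalkingCospan T] [QCSite J T]
  [Str T R.obj] [HasSheafify J AddCommGrpCat.{u + 1}]
  [J.WEqualsLocallyBijective AddCommGrpCat.{u + 1}]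
  {t : D} (ht : IsTerminal t) (hta : IsAffine (T.obj t))
  (N : ModuleCat.{u + 1} (R.obj.obj (op t)))

variable (T) in
theorem isQC_tl : IsQC T (tl ht N).val :=
  isQC_cokernel (isQC_free T _) (isQC_free T _) _ _ (cokernel.condition _) (cokernelIsCokernel _)

/-- The evaluation map on the sections of the free module. -/
theorem exists_theta (hta : IsAffine (T.obj t)) :
    ∃ θ : (SheafOfModules.free (R := R) N).val.obj (op t) →ₗ[R.obj.obj (op t)] N,
      ∀ n : N, θ (bs R t n) = n := by
  let _ : Module Γ(T.obj t, ⊤) N := Module.compHom N (Str.ρ (T := T) (R := R.obj) t).toRingHom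
  let e := LinearEquiv.ofBijective _ (bijective_free T R N t hta)
  let θ := (Finsupp.linearCombination Γ(T.obj t, ⊤) (fun n : N => n)).comp e.symm.toLinearMap
  refine ⟨{ toFun := θ, map_add' := map_add θ, map_smul' := fun r x => ?_ }, fun n => ?_⟩
  · obtain ⟨a, rfl⟩ := (Str.ρ (T := T) (R := R.obj) t).surjective r
    exact θ.map_smul a x
  · have h1 : e (Finsupp.single n 1) = basisAt R t n := by
      change Finsupp.linearCombination Γ(T.obj t, ⊤) (fun i : N => basisAt R t i)
        (Finsupp.single n 1) = _
      rw [Finsupp.linearCombination_single, one_smul]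
    change Finsupp.linearCombination Γ(T.obj t, ⊤) (fun n : N => n) (e.symm (basisAt R t n)) = n
    rw [← h1, LinearEquiv.symm_apply_apply, Finsupp.linearCombination_single, one_smul]

variable (T R) in
theorem span_bs (I : Type (u + 1)) (hta : IsAffine (T.obj t)) :
    Submodule.span (R.obj.obj (op t)) (Set.range (bs R t (I := I))) = ⊤ := by
  rw [eq_top_iff]
  rintro x -
  obtain ⟨l, rfl⟩ := (bijective_free T R I t hta).2 x
  induction l using Finsupp.induction_linear with
  | zero =>
    rw [map_zero]
    exact zero_mem _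
  | add a b ha hb =>
    rw [map_add]
    exact add_mem ha hb
  | single n a =>
    rw [Finsupp.linearCombination_single]
    exact Submodule.smul_mem _ _ (Submodule.subset_span ⟨n, rfl⟩)

include hta in
/-- The sections of `N~` over the affine terminal object. -/
theorem bijective_eta : Function.Bijective (eta ht N) := by
  obtain ⟨hex, hsurj⟩ := exact_cokernel (T := T) (M := SheafOfModules.free (R := R) (Rel N))
    (N := SheafOfModules.free (R := R) N) (C := tl ht N) (isQC_free T _) (isQC_free T _)
    (hom ht (rel N)) (pr ht N) (rel_pr ht N) (cokernelIsCokernel _) t hta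
  constructor
  · rw [injective_iff_map_eq_zero]
    intro n hn
    obtain ⟨θ, hθ⟩ := exists_theta (T := T) N hta
    obtain ⟨y, hy⟩ := (hex (bs R t n)).1 hn
    have key : θ.comp (ev (hom ht (rel N)) t) = 0 := by
      refine LinearMap.ext_on (span_bs R T (Rel N) hta) ?_
      rintro _ ⟨j, rfl⟩
      rw [LinearMap.comp_apply, ev_hom, LinearMap.zero_apply]
      rcases j with ⟨a, b⟩ | ⟨r, a⟩
      · change θ (bs R t (a + b) - bs R t a - bs R t b) = 0
        rw [map_sub, map_sub, hθ, hθ, hθ, add_sub_cancel_left, sub_self]
      · change θ (bs R t (r • a) - r • bs R t a) = 0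
        rw [map_sub, map_smul, hθ, hθ, sub_self]
    rw [← hθ n]
    exact (congrArg θ hy.symm).trans (LinearMap.congr_fun key y)
  · intro x
    obtain ⟨y, rfl⟩ := hsurj x
    have hy : ∀ y ∈ Submodule.span (R.obj.obj (op t)) (Set.range (bs R t (I := N))),
        ∃ a, eta ht N a = ev (pr ht N) t y := by
      intro y hy
      induction hy using Submodule.span_induction with
      | mem x hx =>
        obtain ⟨n, rfl⟩ := hx
        exact ⟨n, rfl⟩
      | zero => exact ⟨0, by rw [map_zero, map_zero]⟩
      | add x y _ _ hx hy =>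
        obtain ⟨a, ha⟩ := hx
        obtain ⟨b, hb⟩ := hy
        exact ⟨a + b, by rw [map_add, map_add, ha, hb]⟩
      | smul r x _ hx =>
        obtain ⟨a, ha⟩ := hx
        exact ⟨r • a, by rw [map_smul, map_smul, ha]⟩
    exact hy y (by rw [span_bs R T N hta]; trivial)

include hta in
theorem isIso_unit : IsIso (adj (R := R) ht).unit := by
  have : ∀ N, IsIso ((adj (R := R) ht).unit.app N) := fun N => by
    rw [adj_unit_app]
    have := bijective_eta (T := T) ht hta N
    exact (ConcreteCategory.isIso_iff_bijective (ModuleCat.ofHom (eta ht N))).2 this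
  exact NatIso.isIso_of_isIso_app _

include hta in
/-- The counit is an isomorphism at modules cartesian on affine objects. -/
theorem isIso_counit (M : SheafOfModules.{u + 1} R) (hM : IsQC T M.val) :
    IsIso ((adj (R := R) ht).counit.app M) := by
  refine isIso_of_bijective (isQC_tl T ht _) hM _ ht hta ?_
  have h1 := (adj (R := R) ht).right_triangle_components M
  have h2 := isIso_unit (T := T) (R := R) ht hta
  have h3 : IsIso ((SheafOfModules.evaluation R (op t)).map ((adj (R := R) ht).counit.app M)) := by
    rw [IsIso.eq_inv_of_hom_inv_id h1]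
    infer_instance
  exact (ConcreteCategory.isIso_iff_bijective _).1 h3

end main

end K645.Tilde
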