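import Groth.Agent.AlgSp.K645.Tilde
import Mathlib.Algebra.Homology.ShortComplex.ExactFunctor
import Mathlib.CategoryTheory.Adjunction.Additive
import Mathlib.Algebra.Category.ModuleCat.Abelian

/-!
# The functor `N ↦ N~` is exact, additive and fully faithful
-/

set_option autoImplicit false

universe w v d u

open CategoryTheory CategoryTheory.Limits AlgebraicGeometry Opposite

namespace K645.Tilde

open Groth.Agent.Etbase.FFExact K644.Site K644.Psh K644.Alg K644.Colim K644.Exact K644.Free K644.Pres

variable {D : Type d} [Category.{v} D] {J : GrothendieckTopology D}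
  {R : Sheaf J RingCat.{u + 1}}

instance evaluation_additive (U : Dᵒᵖ) : (SheafOfModules.evaluation R U).Additive where
  map_add := rfl

section

variable [HasSheafify J AddCommGrpCat.{u + 1}] [J.WEqualsLocallyBijective AddCommGrpCat.{u + 1}]
  {t : D} (ht : IsTerminal t)

instance : (tlF (R := R) ht).IsLeftAdjoint := (adj (R := R) ht).isLeftAdjoint

instance additive_tlF : (tlF (R := R) ht).Additive := (adj (R := R) ht).left_adjoint_additive

noncomputable instance preservesFiniteColimits_tlF : PreservesFiniteColimits (tlF (R := R) ht) := by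
  have := (adj (R := R) ht).leftAdjoint_preservesColimits
  infer_instance

end

variable {T : D ⥤ Scheme.{u}} [HasPullbacks D] [PreservesLimitsOfShape WalkingCospan T] [QCSite J T]
  [Str T R.obj] [HasSheafify J AddCommGrpCat.{u + 1}]
  [J.WEqualsLocallyBijective AddCommGrpCat.{u + 1}]
  {t : D} (ht : IsTerminal t) (hta : IsAffine (T.obj t))

omit [HasPullbacks D] [PreservesLimitsOfShape WalkingCospan T]
  [HasSheafify J AddCommGrpCat.{u + 1}] [J.WEqualsLocallyBijective AddCommGrpCat.{u + 1}] in
/-- A module cartesian on affine objects without sections over the affine terminal object is zero. -/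
theorem isZero_of_sec {M : SheafOfModules.{u + 1} R} (hM : IsQC T M.val) (ht : IsTerminal t)
    (hta : IsAffine (T.obj t)) (h : ∀ x : sec M t, x = 0) : IsZero M := by
  have : IsIso (0 : M ⟶ M) := isIso_of_bijective hM hM _ ht hta
    ⟨fun x y _ => by rw [h x, h y], fun x => ⟨0, by rw [map_zero, h x]⟩⟩
  rw [IsZero.iff_id_eq_zero, ← cancel_mono (0 : M ⟶ M)]
  simp

omit [HasPullbacks D] [PreservesLimitsOfShape WalkingCospan T]
  [HasSheafify J AddCommGrpCat.{u + 1}] [J.WEqualsLocallyBijective AddCommGrpCat.{u + 1}] in
/-- Monomorphisms may be tested over the affine terminal object. -/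
theorem mono_of_injective [FlatMaps T] {M N : SheafOfModules.{u + 1} R} (hM : IsQC T M.val)
    (hN : IsQC T N.val) (φ : M ⟶ N) (ht : IsTerminal t)
    (hta : IsAffine (T.obj t)) (h : Function.Injective (smap T φ t)) : Mono φ := by
  apply Preadditive.mono_of_kernel_zero
  apply IsZero.eq_of_src
  refine isZero_of_sec (T := T) (isQC_kernel hM hN (kernel.ι φ) φ (kernel.condition _)
    (kernelIsKernel φ)) ht hta fun x => ?_
  have h1 := exact_kernel (T := T) (kernel.ι φ) φ (kernel.condition _) (kernelIsKernel φ) t
  apply h1.1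
  apply h
  rw [map_zero, map_zero, ← smap_comp, kernel.condition, smap_zero]

variable (T) in
include hta in
theorem preservesMono_tlF [FlatMaps T] {M N : ModuleCat.{u + 1} (R.obj.obj (op t))} (f : M ⟶ N) [Mono f] :
    Mono ((tlF (R := R) ht).map f) := by
  refine mono_of_injective (T := T) (isQC_tl T ht M) (isQC_tl T ht N) _ ht hta ?_
  intro x y hxy
  obtain ⟨m, rfl⟩ := (bijective_eta (T := T) ht hta M).2 x
  obtain ⟨m', rfl⟩ := (bijective_eta (T := T) ht hta M).2 y
  have h1 := ev_tlF_map (R := R) ht f m
  have h2 := ev_tlF_map (R := R) ht f m'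
  have h3 : eta ht N (f m) = eta ht N (f m') := h1.symm.trans (hxy.trans h2)
  have h4 := (bijective_eta (T := T) ht hta N).1 h3
  rw [(ModuleCat.mono_iff_injective f).1 inferInstance h4]

variable (T) in
include hta in
theorem preservesFiniteLimits_tlF [FlatMaps T] : PreservesFiniteLimits (tlF (R := R) ht) := by
  rw [Functor.preservesFiniteLimits_iff_forall_exact_map_and_mono]
  intro S hS
  have h1 := (Functor.preservesFiniteColimits_iff_forall_exact_map_and_epi (tlF (R := R) ht)).1
    inferInstance S hS
  have := hS.mono_f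
  exact ⟨h1.1, preservesMono_tlF T ht hta S.f⟩

variable (T) in
/-- `N ↦ N~` is fully faithful. -/
noncomputable def fullyFaithful : (tlF (R := R) ht).FullyFaithful :=
  have := isIso_unit (T := T) (R := R) ht hta
  (adj (R := R) ht).fullyFaithfulLOfIsIsoUnit

variable (T) in
include hta in
theorem exists_tl_iso (M : SheafOfModules.{u + 1} R) (hM : IsQC T M.val) :
    ∃ N : ModuleCat.{u + 1} (R.obj.obj (op t)), Nonempty ((tlF (R := R) ht).obj N ≅ M) :=
  have := isIso_counit (T := T) (R := R) ht hta M hM
  ⟨_, ⟨asIso ((adj (R := R) ht).counit.app M)⟩⟩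

end K645.Tilde
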