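import Groth.Agent.AlgSp.K645.TE
import Groth.Agent.AlgSp.K290.ZarInd

/-!
# Zariski opens of an object of the small etale site
-/

set_option autoImplicit false

universe u

open CategoryTheory CategoryTheory.Limits AlgebraicGeometry Opposite

attribute [local instance] HasDerivedCategory.standard

namespace K645.Zar

open K645.Ex K645.Lam K645.Shriek K645.Square K645.IsO K646.EtSite K290.DIdem

variable {S : Scheme.{u}} {X : AlgSp.Sp S} (V : AlgSp.EtOver X)

/-- The open of the slice attached to an open subscheme. -/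
abbrev oo (W : (sch V).Opens) : Opn (Over V) := K290.Thick.opV V (W : Set ↥(sch V))

theorem mem_oo (W : (sch V).Opens) (E : Over V) :
    (oo V W).mem E ↔ Set.range (mor E.hom) ⊆ (W : Set ↥(sch V)) := Iff.rfl

theorem inter_oo (W W' : (sch V).Opens) : inter (oo V W) (oo V W') = oo V (W ⊓ W') := by
  have : (inter (oo V W) (oo V W')).mem = (oo V (W ⊓ W')).mem := by
    funext E
    exact propext (Set.subset_inter_iff).symm
  cases h : inter (oo V W) (oo V W')
  cases h' : oo V (W ⊓ W')
  rw [h, h'] at this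
  cases this
  rfl

theorem le_oo {W W' : (sch V).Opens} (h : W ≤ W') : LE ((AlgSp.etTop X).over V) (oo V W) (oo V W') :=
  fun _ hE => ⟨⊤, GrothendieckTopology.top_mem _ _, fun _ e _ => (oo V W').down e (hE.trans h)⟩

/-- An open subscheme as an object of the slice. -/
noncomputable abbrev xo (W : (sch V).Opens) : Over V := Over.mk (opnι V W)

theorem mem_xo (W : (sch V).Opens) : (oo V W).mem (xo V W) := by
  rw [mem_oo]
  exact (range_opnι V W).subset

theorem nonempty_hom_xo {W : (sch V).Opens} {E : Over V} (h : (oo V W).mem E) :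
    Nonempty (E ⟶ xo V W) := by
  have h' : Set.range (mor E.hom) ⊆ Set.range W.ι := by
    rw [W.range_ι]
    exact h
  exact ⟨Over.homMk (extLift W.ι E.hom (IsOpenImmersion.lift W.ι (mor E.hom) h')
    (IsOpenImmersion.lift_fac _ _ _)) (extLift_extHom _ _ _ _)⟩

theorem hom_xo_unique {W : (sch V).Opens} {E : Over V} (f g : E ⟶ xo V W) : f = g := by
  have : Mono (mor (opnι V W)) := inferInstanceAs (Mono W.ι)
  have : Mono (opnι V W) := inferInstance
  apply Over.OverMorphism.ext
  rw [← cancel_mono (opnι V W)]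
  exact (Over.w f).trans (Over.w g).symm

theorem bot_mem_of_mem_bot {E : Over V} (h : (oo V ⊥).mem E) :
    (⊥ : Sieve E) ∈ (AlgSp.etTop X).over V E := by
  rw [GrothendieckTopology.mem_over_iff, mem_etTop_iff]
  intro x
  exact (h ⟨x, rfl⟩).elim

theorem elem_xo (W : (sch V).Opens) :
    Elem ((AlgSp.etTop X).over V) (xo V W) (oo V ⊥) (oo V W) where
  le := le_oo V bot_le
  memV := mem_xo V W
  cov E hE := ⟨⊤, GrothendieckTopology.top_mem _ _, fun _ e _ =>
    Or.inr (nonempty_hom_xo V ((oo V W).down e hE))⟩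
  uniq _ g g' := ⟨⊤, GrothendieckTopology.top_mem _ _, fun _ e _ => Or.inr (by rw [hom_xo_unique V g g'])⟩

theorem vanM_bot (M : AlgSp.ModEtOn V) : VanM (oo V ⊥) M := fun E hE m =>
  section_ext M ⊥ (bot_mem_of_mem_bot V hE) _ _ fun _ _ he => he.elim

theorem van_bot {W : (sch V).Opens} (N : SheafOfModules.{u + 1} ((AlgSp.OEtOn V).over (xo V W))) :
    Van (oo V ⊥) N := fun _ hE g n =>
  section_ext N ⊥ (by
    have := bot_mem_of_mem_bot V hE
    rw [GrothendieckTopology.mem_over_iff]
    have h1 : Sieve.overEquiv (Over.mk g) ⊥ = ⊥ := by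
      ext
      simp
    rw [h1]
    exact this) _ _ fun _ _ he => he.elim

/-- The extension by zero of the structure sheaf of an open. -/
noncomputable abbrev AO (W : (sch V).Opens) : AlgSp.ModEtOn V :=
  (lam (oo V W) (AlgSp.OEtOn V)).obj (SheafOfModules.unit (AlgSp.OEtOn V))

/-- `j_! j^* M` as `f_! f^* M`. -/
theorem nonempty_iso (W : (sch V).Opens) (M : AlgSp.ModEtOn V) :
    Nonempty ((shriek (AlgSp.OEtOn V) (xo V W)).obj ((rst (AlgSp.OEtOn V) (xo V W)).obj M) ≅
      (lam (oo V W) (AlgSp.OEtOn V)).obj M) := by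
  have h1 := isIso_inc_W (elem_xo V W) ((rst (AlgSp.OEtOn V) (xo V W)).obj M)
  have h2 := isIso_lam_counit_of_vanM (elem_xo V W) (vanM_bot V M)
  exact ⟨(asIso (inc (oo V W) _)).symm ≪≫ asIso ((lam (oo V W) (AlgSp.OEtOn V)).map (counitHom M))⟩

theorem cor_AO (W : (sch V).Opens) : Cor (xo V W) (AO V W) := by
  obtain ⟨e⟩ := nonempty_iso V W (SheafOfModules.unit (AlgSp.OEtOn V))
  refine Cor.of_iso ?_ e
  have h : Cor (Over.mk (𝟙 (xo V W))) (SheafOfModules.unit ((AlgSp.OEtOn V).over (xo V W))) :=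
    cor_unit Over.mkIdTerminal
  exact cor_shriek (Over.mk (𝟙 (xo V W))) h

end K645.Zar
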